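import Cfsg.Agent.H745.TF.Q2_m3
import Mathlib
import Cfsg.Agent.H659.PU.Over_m3
import Cfsg.Agent.Lib.FrattiniPGroup
import Cfsg.Agent.KFacts.TwF4.SylU
import Cfsg.Agent.S1068
import Cfsg.Agent.S2798
import Cfsg.Agent.S1141
import Cfsg.Agent.S0058
import Cfsg.Agent.H818.StrP.Row_m3
import Cfsg.Agent.H322.Tri.Suz
import Cfsg.Agent.Lib.Cores
import Cfsg.Agent.S1163
import Cfsg.Agent.S0001
import Cfsg.Agent.S1162
import Cfsg.Agent.H805.PU.Main_m3
import Cfsg.Agent.KFacts.TwF4.CentR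
import Cfsg.Agent.KFacts.TwF4.TorFix
import Cfsg.Agent.H205.TE.P2_m3
import Cfsg.Agent.S2128
import Cfsg.Agent.FastGrp
import Cfsg.Agent.Prune
set_option linter.all false

section
prune_inst 0x7ff0fef9afb8addfdfff7e7fffdddffc39d4dfffffdffb4bffece1ff8fdf030a39e52b8d9de058ff0ed762b630b87813f9ffceffef6bdc7ffffd5ff45ffbee0fe5f7bd8851d688340f3c0ff703f07fce7f3fffffffffffffffffffffffffffbeffffffffffff

-- part: H782/TF/SiftDef
section
set_option linter.all false


-- part: H782/TF/Tab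
section
/-!
# S5262, q = 2: the Sylow 2-subgroup of order 2^12 in coordinates, tables of right multiplication (helper782)

The code of an element is a number below 4096 (12 bits: x1, x2p, x2u, x3, x4p, x4u, x5, x6p, x6u, x7, x8p, x8u); digit `a` (12 bits
each) of `tab g` is the code of `a * g`.
-/

set_option autoImplicit false
set_option maxRecDepth 100000

noncomputable section

namespace Cfsg.Agent.H782.TF

/-- the polycyclic generators -/
inductive Gn
  | a0 | a1 | a2 | a3 | a4 | a5 | a6 | a7 | a8 | a9 | a10 | a11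
  deriving DecidableEq

/-- table of right multiplication by generator 0 -/
def T0 : Nat := 0xceccedceacebce8ce9ceecefce4ce5ce2ce3ce0ce1ce6ce7cd0cd1cd6cd7cd4cd5cd2cd3cd8cd9cdecdfcdccddcdacdbcccccdccaccbcc8cc9cceccfcc4cc5cc2cc3cc0cc1cc6cc7cf0cf1cf6cf7cf4cf5cf2cf3cf8cf9cfecffcfccfdcfacfbc8cc8dc8ac8bc88c89c8ec8fc84c85c82c83c80c81c86c87cb0cb1cb6cb7cb4cb5cb2cb3cb8cb9cbecbfcbccbdcbacbbcaccadcaacabca8ca9caecafca4ca5ca2ca3ca0ca1ca6ca7c90c91c96c97c94c95c92c93c98c99c9ec9fc9cc9dc9ac9bc20c21c26c27c24c25c22c23c28c29c2ec2fc2cc2dc2ac2bc1cc1dc1ac1bc18c19c1ec1fc14c15c12c13c10c11c16c17c00c01c06c07c04c05c02c03c08c09c0ec0fc0cc0dc0ac0bc3cc3dc3ac3bc38c39c3ec3fc34c35c32c33c30c31c36c37c40c41c46c47c44c45c42c43c48c49c4ec4fc4cc4dc4ac4bc7cc7dc7ac7bc78c79c7ec7fc74c75c72c73c70c71c76c77c60c61c66c67c64c65c62c63c68c69c6ec6fc6cc6dc6ac6bc5cc5dc5ac5bc58c59c5ec5fc54c55c52c53c50c51c56c57dccdcddcadcbdc8dc9dcedcfdc4dc5dc2dc3dc0dc1dc6dc7df0df1df6df7df4df5df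2df3df8df9dfedffdfcdfddfadfbdecdeddeadebde8de9deedefde4de5de2de3de0de1de6de7dd0dd1dd6dd7dd4dd5dd2dd3dd8dd9ddeddfddcdddddaddbdacdaddaadabda8da9daedafda4da5da2da3da0da1da6da7d90d91d96d97d94d95d92d93d98d99d9ed9fd9cd9dd9ad9bd8cd8dd8ad8bd88d89d8ed8fd84d85d82d83d80d81d86d87db0db1db6db7db4db5db2db3db8db9dbedbfdbcdbddbadbbd00d01d06d07d04d05d02d03d08d09d0ed0fd0cd0dd0ad0bd3cd3dd3ad3bd38d39d3ed3fd34d35d32d33d30d31d36d37d20d21d26d27d24d25d22d23d28d29d2ed2fd2cd2dd2ad2bd1cd1dd1ad1bd18d19d1ed1fd14d15d12d13d10d11d16d17d60d61d66d67d64d65d62d63d68d69d6ed6fd6cd6dd6ad6bd5cd5dd5ad5bd58d59d5ed5fd54d55d52d53d50d51d56d57d40d41d46d47d44d45d42d43d48d49d4ed4fd4cd4dd4ad4bd7cd7dd7ad7bd78d79d7ed7fd74d75d72d73d70d71d76d77ee4ee5ee2ee3ee0ee1ee6ee7eeceedeeaeebee8ee9eeeeefed8ed9edeedfedceddedaedbed0ed1ed6ed7ed4ed5ed2ed3ec4ec5ec2ec3ec0ec1ec6ec7eccecdecaecbec8ec9eceecfef8ef9efeeffefcefdefaefbef0ef1ef6ef7ef4ef5ef2ef3e84e85e82e83e80e81e86e87e8ce8de8ae8be88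e89e8ee8feb8eb9ebeebfebcebdebaebbeb0eb1eb6eb7eb4eb5eb2eb3ea4ea5ea2ea3ea0ea1ea6ea7eaceadeaaeabea8ea9eaeeafe98e99e9ee9fe9ce9de9ae9be90e91e96e97e94e95e92e93e08e09e0ee0fe0ce0de0ae0be00e01e06e07e04e05e02e03e34e35e32e33e30e31e36e37e3ce3de3ae3be38e39e3ee3fe28e29e2ee2fe2ce2de2ae2be20e21e26e27e24e25e22e23e14e15e12e13e10e11e16e17e1ce1de1ae1be18e19e1ee1fe68e69e6ee6fe6ce6de6ae6be60e61e66e67e64e65e62e63e54e55e52e53e50e51e56e57e5ce5de5ae5be58e59e5ee5fe48e49e4ee4fe4ce4de4ae4be40e41e46e47e44e45e42e43e74e75e72e73e70e71e76e77e7ce7de7ae7be78e79e7ee7ffc4fc5fc2fc3fc0fc1fc6fc7fccfcdfcafcbfc8fc9fcefcfff8ff9ffefffffcffdffaffbff0ff1ff6ff7ff4ff5ff2ff3fe4fe5fe2fe3fe0fe1fe6fe7fecfedfeafebfe8fe9feefeffd8fd9fdefdffdcfddfdafdbfd0fd1fd6fd7fd4fd5fd2fd3fa4fa5fa2fa3fa0fa1fa6fa7facfadfaafabfa8fa9faefaff98f99f9ef9ff9cf9df9af9bf90f91f96f97f94f95f92f93f84f85f82f83f80f81f86f87f8cf8df8af8bf88f89f8ef8ffb8fb9fbefbffbcfbdfbafbbfb0fb1fb6fb7fb4fb5fb2fb3f28f29f2ef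2ff2cf2df2af2bf20f21f26f27f24f25f22f23f14f15f12f13f10f11f16f17f1cf1df1af1bf18f19f1ef1ff08f09f0ef0ff0cf0df0af0bf00f01f06f07f04f05f02f03f34f35f32f33f30f31f36f37f3cf3df3af3bf38f39f3ef3ff48f49f4ef4ff4cf4df4af4bf40f41f46f47f44f45f42f43f74f75f72f73f70f71f76f77f7cf7df7af7bf78f79f7ef7ff68f69f6ef6ff6cf6df6af6bf60f61f66f67f64f65f62f63f54f55f52f53f50f51f56f57f5cf5df5af5bf58f59f5ef5f92292392092192692792492592a92b92892992e92f92c92d91691791491591291391091191e91f91c91d91a91b91891990290390090190690790490590a90b90890990e90f90c90d93693793493593293393093193e93f93c93d93a93b93893996296396096196696796496596a96b96896996e96f96c96d95695795495595295395095195e95f95c95d95a95b95895994294394094194694794494594a94b94894994e94f94c94d97697797497597297397097197e97f97c97d97a97b9789798ee8ef8ec8ed8ea8eb8e88e98e68e78e48e58e28e38e08e18da8db8d88d98de8df8dc8dd8d28d38d08d18d68d78d48d58ce8cf8cc8cd8ca8cb8c88c98c68c78c48c58c28c38c08c18fa8fb8f88f98fe8ff8fc8fd8f28f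38f08f18f68f78f48f58ae8af8ac8ad8aa8ab8a88a98a68a78a48a58a28a38a08a189a89b89889989e89f89c89d89289389089189689789489588e88f88c88d88a88b8888898868878848858828838808818ba8bb8b88b98be8bf8bc8bd8b28b38b08b18b68b78b48b580280380080180680780480580a80b80880980e80f80c80d83683783483583283383083183e83f83c83d83a83b83883982282382082182682782482582a82b82882982e82f82c82d81681781481581281381081181e81f81c81d81a81b81881984284384084184684784484584a84b84884984e84f84c84d87687787487587287387087187e87f87c87d87a87b87887986286386086186686786486586a86b86886986e86f86c86d85685785485585285385085185e85f85c85d85a85b8588599ce9cf9cc9cd9ca9cb9c89c99c69c79c49c59c29c39c09c19fa9fb9f89f99fe9ff9fc9fd9f29f39f09f19f69f79f49f59ee9ef9ec9ed9ea9eb9e89e99e69e79e49e59e29e39e09e19da9db9d89d99de9df9dc9dd9d29d39d09d19d69d79d49d598e98f98c98d98a98b9889899869879849859829839809819ba9bb9b89b99be9bf9bc9bd9b29b39b09b19b69b79b49b59ae9af9ac9ad9aa9ab9a89a99a69a79a49a59a29a39a09a1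99a99b99899999e99f99c99d992993990991996997994995a6aa6ba68a69a6ea6fa6ca6da62a63a60a61a66a67a64a65a5ea5fa5ca5da5aa5ba58a59a56a57a54a55a52a53a50a51a4aa4ba48a49a4ea4fa4ca4da42a43a40a41a46a47a44a45a7ea7fa7ca7da7aa7ba78a79a76a77a74a75a72a73a70a71a2aa2ba28a29a2ea2fa2ca2da22a23a20a21a26a27a24a25a1ea1fa1ca1da1aa1ba18a19a16a17a14a15a12a13a10a11a0aa0ba08a09a0ea0fa0ca0da02a03a00a01a06a07a04a05a3ea3fa3ca3da3aa3ba38a39a36a37a34a35a32a33a30a31b86b87b84b85b82b83b80b81b8eb8fb8cb8db8ab8bb88b89bb2bb3bb0bb1bb6bb7bb4bb5bbabbbbb8bb9bbebbfbbcbbdba6ba7ba4ba5ba2ba3ba0ba1baebafbacbadbaababba8ba9b92b93b90b91b96b97b94b95b9ab9bb98b99b9eb9fb9cb9dbc6bc7bc4bc5bc2bc3bc0bc1bcebcfbccbcdbcabcbbc8bc9bf2bf3bf0bf1bf6bf7bf4bf5bfabfbbf8bf9bfebffbfcbfdbe6be7be4be5be2be3be0be1beebefbecbedbeabebbe8be9bd2bd3bd0bd1bd6bd7bd4bd5bdabdbbd8bd9bdebdfbdcbddb4ab4bb48b49b4eb4fb4cb4db42b43b40b41b46b47b44b45b7eb7fb7cb7db7ab7bb78b79b76b77b74b75b72b73b70b71b6ab6bb68b69b6eb6fb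6cb6db62b63b60b61b66b67b64b65b5eb5fb5cb5db5ab5bb58b59b56b57b54b55b52b53b50b51b0ab0bb08b09b0eb0fb0cb0db02b03b00b01b06b07b04b05b3eb3fb3cb3db3ab3bb38b39b36b37b34b35b32b33b30b31b2ab2bb28b29b2eb2fb2cb2db22b23b20b21b26b27b24b25b1eb1fb1cb1db1ab1bb18b19b16b17b14b15b12b13b10b11aa6aa7aa4aa5aa2aa3aa0aa1aaeaafaacaadaaaaabaa8aa9a92a93a90a91a96a97a94a95a9aa9ba98a99a9ea9fa9ca9da86a87a84a85a82a83a80a81a8ea8fa8ca8da8aa8ba88a89ab2ab3ab0ab1ab6ab7ab4ab5abaabbab8ab9abeabfabcabdae6ae7ae4ae5ae2ae3ae0ae1aeeaefaecaedaeaaebae8ae9ad2ad3ad0ad1ad6ad7ad4ad5adaadbad8ad9adeadfadcaddac6ac7ac4ac5ac2ac3ac0ac1aceacfaccacdacaacbac8ac9af2af3af0af1af6af7af4af5afaafbaf8af9afeaffafcafd41841941e41f41c41d41a41b41041141641741441541241340440540240340040140640740c40d40a40b40840940e40f43843943e43f43c43d43a43b43043143643743443543243342442542242342042142642742c42d42a42b42842942e42f47847947e47f47c47d47a47b47047147647747447547247346446546246346046146646746c46d46a46b46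846946e46f45845945e45f45c45d45a45b45045145645745445545245344444544244344044144644744c44d44a44b44844944e44f59459559259359059159659759c59d59a59b59859959e59f58858958e58f58c58d58a58b5805815865875845855825835b45b55b25b35b05b15b65b75bc5bd5ba5bb5b85b95be5bf5a85a95ae5af5ac5ad5aa5ab5a05a15a65a75a45a55a25a35f45f55f25f35f05f15f65f75fc5fd5fa5fb5f85f95fe5ff5e85e95ee5ef5ec5ed5ea5eb5e05e15e65e75e45e55e25e35d45d55d25d35d05d15d65d75dc5dd5da5db5d85d95de5df5c85c95ce5cf5cc5cd5ca5cb5c05c15c65c75c45c55c25c353853953e53f53c53d53a53b53053153653753453553253352452552252352052152652752c52d52a52b52852952e52f51851951e51f51c51d51a51b51051151651751451551251350450550250350050150650750c50d50a50b50850950e50f55855955e55f55c55d55a55b55055155655755455555255354454554254354054154654754c54d54a54b54854954e54f57857957e57f57c57d57a57b57057157657757457557257356456556256356056156656756c56d56a56b56856956e56f4b44b54b24b34b04b14b64b74bc4bd4ba4bb4b84b94be4bf4a84a94ae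4af4ac4ad4aa4ab4a04a14a64a74a44a54a24a349449549249349049149649749c49d49a49b49849949e49f48848948e48f48c48d48a48b4804814864874844854824834d44d54d24d34d04d14d64d74dc4dd4da4db4d84d94de4df4c84c94ce4cf4cc4cd4ca4cb4c04c14c64c74c44c54c24c34f44f54f24f34f04f14f64f74fc4fd4fa4fb4f84f94fe4ff4e84e94ee4ef4ec4ed4ea4eb4e04e14e64e74e44e54e24e373073173673773473573273373873973e73f73c73d73a73b72c72d72a72b72872972e72f72472572272372072172672771071171671771471571271371871971e71f71c71d71a71b70c70d70a70b70870970e70f70470570270370070170670775075175675775475575275375875975e75f75c75d75a75b74c74d74a74b74874974e74f74474574274374074174674777077177677777477577277377877977e77f77c77d77a77b76c76d76a76b76876976e76f76476576276376076176676769c69d69a69b69869969e69f69469569269369069169669768068168668768468568268368868968e68f68c68d68a68b6bc6bd6ba6bb6b86b96be6bf6b46b56b26b36b06b16b66b76a06a16a66a76a46a56a26a36a86a96ae6af6ac6ad6aa6ab6fc6fd6fa6fb6f86f96fe6ff6f46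f56f26f36f06f16f66f76e06e16e66e76e46e56e26e36e86e96ee6ef6ec6ed6ea6eb6dc6dd6da6db6d86d96de6df6d46d56d26d36d06d16d66d76c06c16c66c76c46c56c26c36c86c96ce6cf6cc6cd6ca6cb61061161661761461561261361861961e61f61c61d61a61b60c60d60a60b60860960e60f60460560260360060160660763063163663763463563263363863963e63f63c63d63a63b62c62d62a62b62862962e62f62462562262362062162662767067167667767467567267367867967e67f67c67d67a67b66c66d66a66b66866966e66f66466566266366066166666765065165665765465565265365865965e65f65c65d65a65b64c64d64a64b64864964e64f6446456426436406416466477bc7bd7ba7bb7b87b97be7bf7b47b57b27b37b07b17b67b77a07a17a67a77a47a57a27a37a87a97ae7af7ac7ad7aa7ab79c79d79a79b79879979e79f79479579279379079179679778078178678778478578278378878978e78f78c78d78a78b7dc7dd7da7db7d87d97de7df7d47d57d27d37d07d17d67d77c07c17c67c77c47c57c27c37c87c97ce7cf7cc7cd7ca7cb7fc7fd7fa7fb7f87f97fe7ff7f47f57f27f37f07f17f67f77e07e17e67e77e47e57e27e37e87e97ee7ef7ec7ed7ea7e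b3be3bf3bc3bd3ba3bb3b83b93b63b73b43b53b23b33b03b13aa3ab3a83a93ae3af3ac3ad3a23a33a03a13a63a73a43a539e39f39c39d39a39b39839939639739439539239339039138a38b38838938e38f38c38d3823833803813863873843853fe3ff3fc3fd3fa3fb3f83f93f63f73f43f53f23f33f03f13ea3eb3e83e93ee3ef3ec3ed3e23e33e03e13e63e73e43e53de3df3dc3dd3da3db3d83d93d63d73d43d53d23d33d03d13ca3cb3c83c93ce3cf3cc3cd3c23c33c03c13c63c73c43c531231331031131631731431531a31b31831931e31f31c31d30630730430530230330030130e30f30c30d30a30b30830933233333033133633733433533a33b33833933e33f33c33d32632732432532232332032132e32f32c32d32a32b32832935235335035135635735435535a35b35835935e35f35c35d34634734434534234334034134e34f34c34d34a34b34834937237337037137637737437537a37b37837937e37f37c37d36636736436536236336036136e36f36c36d36a36b36836929e29f29c29d29a29b29829929629729429529229329029128a28b28828928e28f28c28d2822832802812862872842852be2bf2bc2bd2ba2bb2b82b92b62b72b42b52b22b32b02b12aa2ab2a82a92ae2af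2ac2ad2a22a32a02a12a62a72a42a52de2df2dc2dd2da2db2d82d92d62d72d42d52d22d32d02d12ca2cb2c82c92ce2cf2cc2cd2c22c32c02c12c62c72c42c52fe2ff2fc2fd2fa2fb2f82f92f62f72f42f52f22f32f02f12ea2eb2e82e92ee2ef2ec2ed2e22e32e02e12e62e72e42e523223323023123623723423523a23b23823923e23f23c23d22622722422522222322022122e22f22c22d22a22b22822921221321021121621721421521a21b21821921e21f21c21d20620720420520220320020120e20f20c20d20a20b20820927227327027127627727427527a27b27827927e27f27c27d26626726426526226326026126e26f26c26d26a26b26826925225325025125625725425525a25b25825925e25f25c25d24624724424524224324024124e24f24c24d24a24b2482491d61d71d41d51d21d31d01d11de1df1dc1dd1da1db1d81d91c21c31c01c11c61c71c41c51ca1cb1c81c91ce1cf1cc1cd1f61f71f41f51f21f31f01f11fe1ff1fc1fd1fa1fb1f81f91e21e31e01e11e61e71e41e51ea1eb1e81e91ee1ef1ec1ed19619719419519219319019119e19f19c19d19a19b19819918218318018118618718418518a18b18818918e18f18c18d1b61b71b41b51b21b31b01b11be1bf1bc1bd1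ba1bb1b81b91a21a31a01a11a61a71a41a51aa1ab1a81a91ae1af1ac1ad15a15b15815915e15f15c15d15215315015115615715415514e14f14c14d14a14b14814914614714414514214314014117a17b17817917e17f17c17d17217317017117617717417516e16f16c16d16a16b16816916616716416516216316016111a11b11811911e11f11c11d11211311011111611711411510e10f10c10d10a10b10810910610710410510210310010113a13b13813913e13f13c13d13213313013113613713413512e12f12c12d12a12b1281291261271241251221231201210f60f70f40f50f20f30f00f10fe0ff0fc0fd0fa0fb0f80f90e20e30e00e10e60e70e40e50ea0eb0e80e90ee0ef0ec0ed0d60d70d40d50d20d30d00d10de0df0dc0dd0da0db0d80d90c20c30c00c10c60c70c40c50ca0cb0c80c90ce0cf0cc0cd0b60b70b40b50b20b30b00b10be0bf0bc0bd0ba0bb0b80b90a20a30a00a10a60a70a40a50aa0ab0a80a90ae0af0ac0ad09609709409509209309009109e09f09c09d09a09b09809908208308008108608708408508a08b08808908e08f08c08d07a07b07807907e07f07c07d07207307007107607707407506e06f06c06d06a06b06806906606706406506206306006105a05b05805905e05f05c05d05205305005105605705405504e04f04c04d04a04b04804904604704404504204304004103a03b03803903e03f03c03d03203303003103603703403502e02f02c02d02a02b02802902602702402502202302002101a01b01801901e01f01c01d01201301001101601701401500e00f00c00d00a00b008009006007004005002003000001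

/-- table of right multiplication by generator 1 -/
def T1 : Nat := 0xd69d68d6fd6ed6dd6cd6bd6ad61d60d67d66d65d64d63d62d51d50d57d56d55d54d53d52d59d58d5fd5ed5dd5cd5bd5ad49d48d4fd4ed4dd4cd4bd4ad41d40d47d46d45d44d43d42d71d70d77d76d75d74d73d72d79d78d7fd7ed7dd7cd7bd7ad09d08d0fd0ed0dd0cd0bd0ad01d00d07d06d05d04d03d02d31d30d37d36d35d34d33d32d39d38d3fd3ed3dd3cd3bd3ad29d28d2fd2ed2dd2cd2bd2ad21d20d27d26d25d24d23d22d11d10d17d16d15d14d13d12d19d18d1fd1ed1dd1cd1bd1ac89c88c8fc8ec8dc8cc8bc8ac81c80c87c86c85c84c83c82cb1cb0cb7cb6cb5cb4cb3cb2cb9cb8cbfcbecbdcbccbbcbaca9ca8cafcaecadcaccabcaaca1ca0ca7ca6ca5ca4ca3ca2c91c90c97c96c95c94c93c92c99c98c9fc9ec9dc9cc9bc9ace9ce8cefceecedceccebceace1ce0ce7ce6ce5ce4ce3ce2cd1cd0cd7cd6cd5cd4cd3cd2cd9cd8cdfcdecddcdccdbcdacc9cc8ccfcceccdcccccbccacc1cc0cc7cc6cc5cc4cc3cc2cf1cf0cf7cf6cf5cf4cf3cf2cf9cf8cffcfecfdcfccfbcfac69c68c6fc6ec6dc6cc6bc6ac61c60c67c66c65c64c63c62c51c50c57c56c55c54c53c52c59c58c5fc5ec5dc5cc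5bc5ac49c48c4fc4ec4dc4cc4bc4ac41c40c47c46c45c44c43c42c71c70c77c76c75c74c73c72c79c78c7fc7ec7dc7cc7bc7ac09c08c0fc0ec0dc0cc0bc0ac01c00c07c06c05c04c03c02c31c30c37c36c35c34c33c32c39c38c3fc3ec3dc3cc3bc3ac29c28c2fc2ec2dc2cc2bc2ac21c20c27c26c25c24c23c22c11c10c17c16c15c14c13c12c19c18c1fc1ec1dc1cc1bc1ad89d88d8fd8ed8dd8cd8bd8ad81d80d87d86d85d84d83d82db1db0db7db6db5db4db3db2db9db8dbfdbedbddbcdbbdbada9da8dafdaedaddacdabdaada1da0da7da6da5da4da3da2d91d90d97d96d95d94d93d92d99d98d9fd9ed9dd9cd9bd9ade9de8defdeededdecdebdeade1de0de7de6de5de4de3de2dd1dd0dd7dd6dd5dd4dd3dd2dd9dd8ddfddedddddcddbddadc9dc8dcfdcedcddccdcbdcadc1dc0dc7dc6dc5dc4dc3dc2df1df0df7df6df5df4df3df2df9df8dffdfedfddfcdfbdfaf09f08f0ff0ef0df0cf0bf0af01f00f07f06f05f04f03f02f31f30f37f36f35f34f33f32f39f38f3ff3ef3df3cf3bf3af29f28f2ff2ef2df2cf2bf2af21f20f27f26f25f24f23f22f11f10f17f16f15f14f13f12f19f18f1ff1ef1df1cf1bf1af69f68f6ff6ef6df6cf6bf6af61f60f67f66f65f64f63f62f51f50f57f56f5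5f54f53f52f59f58f5ff5ef5df5cf5bf5af49f48f4ff4ef4df4cf4bf4af41f40f47f46f45f44f43f42f71f70f77f76f75f74f73f72f79f78f7ff7ef7df7cf7bf7aee9ee8eefeeeeedeeceebeeaee1ee0ee7ee6ee5ee4ee3ee2ed1ed0ed7ed6ed5ed4ed3ed2ed9ed8edfedeeddedcedbedaec9ec8ecfeceecdeccecbecaec1ec0ec7ec6ec5ec4ec3ec2ef1ef0ef7ef6ef5ef4ef3ef2ef9ef8effefeefdefcefbefae89e88e8fe8ee8de8ce8be8ae81e80e87e86e85e84e83e82eb1eb0eb7eb6eb5eb4eb3eb2eb9eb8ebfebeebdebcebbebaea9ea8eafeaeeadeaceabeaaea1ea0ea7ea6ea5ea4ea3ea2e91e90e97e96e95e94e93e92e99e98e9fe9ee9de9ce9be9ae09e08e0fe0ee0de0ce0be0ae01e00e07e06e05e04e03e02e31e30e37e36e35e34e33e32e39e38e3fe3ee3de3ce3be3ae29e28e2fe2ee2de2ce2be2ae21e20e27e26e25e24e23e22e11e10e17e16e15e14e13e12e19e18e1fe1ee1de1ce1be1ae69e68e6fe6ee6de6ce6be6ae61e60e67e66e65e64e63e62e51e50e57e56e55e54e53e52e59e58e5fe5ee5de5ce5be5ae49e48e4fe4ee4de4ce4be4ae41e40e47e46e45e44e43e42e71e70e77e76e75e74e73e72e79e78e7fe7ee7de7ce7be7afe9fe8feffeefedfecfebfeafe1fe0fe7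fe6fe5fe4fe3fe2fd1fd0fd7fd6fd5fd4fd3fd2fd9fd8fdffdefddfdcfdbfdafc9fc8fcffcefcdfccfcbfcafc1fc0fc7fc6fc5fc4fc3fc2ff1ff0ff7ff6ff5ff4ff3ff2ff9ff8fffffeffdffcffbffaf89f88f8ff8ef8df8cf8bf8af81f80f87f86f85f84f83f82fb1fb0fb7fb6fb5fb4fb3fb2fb9fb8fbffbefbdfbcfbbfbafa9fa8faffaefadfacfabfaafa1fa0fa7fa6fa5fa4fa3fa2f91f90f97f96f95f94f93f92f99f98f9ff9ef9df9cf9bf9a99199099799699599499399299999899f99e99d99c99b99a98998898f98e98d98c98b98a9819809879869859849839829b19b09b79b69b59b49b39b29b99b89bf9be9bd9bc9bb9ba9a99a89af9ae9ad9ac9ab9aa9a19a09a79a69a59a49a39a29f19f09f79f69f59f49f39f29f99f89ff9fe9fd9fc9fb9fa9e99e89ef9ee9ed9ec9eb9ea9e19e09e79e69e59e49e39e29d19d09d79d69d59d49d39d29d99d89df9de9dd9dc9db9da9c99c89cf9ce9cd9cc9cb9ca9c19c09c79c69c59c49c39c291191091791691591491391291991891f91e91d91c91b91a90990890f90e90d90c90b90a90190090790690590490390293193093793693593493393293993893f93e93d93c93b93a92992892f92e92d92c92b92a9219209279269259249239229719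7097797697597497397297997897f97e97d97c97b97a96996896f96e96d96c96b96a96196096796696596496396295195095795695595495395295995895f95e95d95c95b95a94994894f94e94d94c94b94a94194094794694594494394289189089789689589489389289989889f89e89d89c89b89a88988888f88e88d88c88b88a8818808878868858848838828b18b08b78b68b58b48b38b28b98b88bf8be8bd8bc8bb8ba8a98a88af8ae8ad8ac8ab8aa8a18a08a78a68a58a48a38a28f18f08f78f68f58f48f38f28f98f88ff8fe8fd8fc8fb8fa8e98e88ef8ee8ed8ec8eb8ea8e18e08e78e68e58e48e38e28d18d08d78d68d58d48d38d28d98d88df8de8dd8dc8db8da8c98c88cf8ce8cd8cc8cb8ca8c18c08c78c68c58c48c38c281181081781681581481381281981881f81e81d81c81b81a80980880f80e80d80c80b80a80180080780680580480380283183083783683583483383283983883f83e83d83c83b83a82982882f82e82d82c82b82a82182082782682582482382287187087787687587487387287987887f87e87d87c87b87a86986886f86e86d86c86b86a86186086786686586486386285185085785685585485385285985885f85e85d85c85b85a84984884f84e84d84c84b84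a841840847846845844843842af1af0af7af6af5af4af3af2af9af8affafeafdafcafbafaae9ae8aefaeeaedaecaebaeaae1ae0ae7ae6ae5ae4ae3ae2ad1ad0ad7ad6ad5ad4ad3ad2ad9ad8adfadeaddadcadbadaac9ac8acfaceacdaccacbacaac1ac0ac7ac6ac5ac4ac3ac2a91a90a97a96a95a94a93a92a99a98a9fa9ea9da9ca9ba9aa89a88a8fa8ea8da8ca8ba8aa81a80a87a86a85a84a83a82ab1ab0ab7ab6ab5ab4ab3ab2ab9ab8abfabeabdabcabbabaaa9aa8aafaaeaadaacaabaaaaa1aa0aa7aa6aa5aa4aa3aa2a71a70a77a76a75a74a73a72a79a78a7fa7ea7da7ca7ba7aa69a68a6fa6ea6da6ca6ba6aa61a60a67a66a65a64a63a62a51a50a57a56a55a54a53a52a59a58a5fa5ea5da5ca5ba5aa49a48a4fa4ea4da4ca4ba4aa41a40a47a46a45a44a43a42a11a10a17a16a15a14a13a12a19a18a1fa1ea1da1ca1ba1aa09a08a0fa0ea0da0ca0ba0aa01a00a07a06a05a04a03a02a31a30a37a36a35a34a33a32a39a38a3fa3ea3da3ca3ba3aa29a28a2fa2ea2da2ca2ba2aa21a20a27a26a25a24a23a22bf1bf0bf7bf6bf5bf4bf3bf2bf9bf8bffbfebfdbfcbfbbfabe9be8befbeebedbecbebbeabe1be0be7be6be5be4be3be2bd1bd0bd7bd6bd5bd4bd3bd2bd9bd8bdfbdebddbdc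bdbbdabc9bc8bcfbcebcdbccbcbbcabc1bc0bc7bc6bc5bc4bc3bc2b91b90b97b96b95b94b93b92b99b98b9fb9eb9db9cb9bb9ab89b88b8fb8eb8db8cb8bb8ab81b80b87b86b85b84b83b82bb1bb0bb7bb6bb5bb4bb3bb2bb9bb8bbfbbebbdbbcbbbbbaba9ba8bafbaebadbacbabbaaba1ba0ba7ba6ba5ba4ba3ba2b71b70b77b76b75b74b73b72b79b78b7fb7eb7db7cb7bb7ab69b68b6fb6eb6db6cb6bb6ab61b60b67b66b65b64b63b62b51b50b57b56b55b54b53b52b59b58b5fb5eb5db5cb5bb5ab49b48b4fb4eb4db4cb4bb4ab41b40b47b46b45b44b43b42b11b10b17b16b15b14b13b12b19b18b1fb1eb1db1cb1bb1ab09b08b0fb0eb0db0cb0bb0ab01b00b07b06b05b04b03b02b31b30b37b36b35b34b33b32b39b38b3fb3eb3db3cb3bb3ab29b28b2fb2eb2db2cb2bb2ab21b20b27b26b25b24b23b2264964864f64e64d64c64b64a64164064764664564464364267167067767667567467367267967867f67e67d67c67b67a66966866f66e66d66c66b66a66166066766666566466366265165065765665565465365265965865f65e65d65c65b65a62962862f62e62d62c62b62a62162062762662562462362261161061761661561461361261961861f61e61d61c61b61a60960860f60e6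0d60c60b60a60160060760660560460360263163063763663563463363263963863f63e63d63c63b63a7a97a87af7ae7ad7ac7ab7aa7a17a07a77a67a57a47a37a279179079779679579479379279979879f79e79d79c79b79a78978878f78e78d78c78b78a7817807877867857847837827b17b07b77b67b57b47b37b27b97b87bf7be7bd7bc7bb7ba7c97c87cf7ce7cd7cc7cb7ca7c17c07c77c67c57c47c37c27f17f07f77f67f57f47f37f27f97f87ff7fe7fd7fc7fb7fa7e97e87ef7ee7ed7ec7eb7ea7e17e07e77e67e57e47e37e27d17d07d77d67d57d47d37d27d97d87df7de7dd7dc7db7da74974874f74e74d74c74b74a74174074774674574474374277177077777677577477377277977877f77e77d77c77b77a76976876f76e76d76c76b76a76176076776676576476376275175075775675575475375275975875f75e75d75c75b75a72972872f72e72d72c72b72a72172072772672572472372271171071771671571471371271971871f71e71d71c71b71a70970870f70e70d70c70b70a70170070770670570470370273173073773673573473373273973873f73e73d73c73b73a6a96a86af6ae6ad6ac6ab6aa6a16a06a76a66a56a46a36a269169069769669569469369269969869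f69e69d69c69b69a68968868f68e68d68c68b68a6816806876866856846836826b16b06b76b66b56b46b36b26b96b86bf6be6bd6bc6bb6ba6c96c86cf6ce6cd6cc6cb6ca6c16c06c76c66c56c46c36c26f16f06f76f66f56f46f36f26f96f86ff6fe6fd6fc6fb6fa6e96e86ef6ee6ed6ec6eb6ea6e16e06e76e66e56e46e36e26d16d06d76d66d56d46d36d26d96d86df6de6dd6dc6db6da42942842f42e42d42c42b42a42142042742642542442342241141041741641541441341241941841f41e41d41c41b41a40940840f40e40d40c40b40a40140040740640540440340243143043743643543443343243943843f43e43d43c43b43a44944844f44e44d44c44b44a44144044744644544444344247147047747647547447347247947847f47e47d47c47b47a46946846f46e46d46c46b46a46146046746646546446346245145045745645545445345245945845f45e45d45c45b45a5c95c85cf5ce5cd5cc5cb5ca5c15c05c75c65c55c45c35c25f15f05f75f65f55f45f35f25f95f85ff5fe5fd5fc5fb5fa5e95e85ef5ee5ed5ec5eb5ea5e15e05e75e65e55e45e35e25d15d05d75d65d55d45d35d25d95d85df5de5dd5dc5db5da5a95a85af5ae5ad5ac5ab5aa5a15a05a75a65a55a45a35a2591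59059759659559459359259959859f59e59d59c59b59a58958858f58e58d58c58b58a5815805875865855845835825b15b05b75b65b55b45b35b25b95b85bf5be5bd5bc5bb5ba52952852f52e52d52c52b52a52152052752652552452352251151051751651551451351251951851f51e51d51c51b51a50950850f50e50d50c50b50a50150050750650550450350253153053753653553453353253953853f53e53d53c53b53a54954854f54e54d54c54b54a54154054754654554454354257157057757657557457357257957857f57e57d57c57b57a56956856f56e56d56c56b56a56156056756656556456356255155055755655555455355255955855f55e55d55c55b55a4c94c84cf4ce4cd4cc4cb4ca4c14c04c74c64c54c44c34c24f14f04f74f64f54f44f34f24f94f84ff4fe4fd4fc4fb4fa4e94e84ef4ee4ed4ec4eb4ea4e14e04e74e64e54e44e34e24d14d04d74d64d54d44d34d24d94d84df4de4dd4dc4db4da4a94a84af4ae4ad4ac4ab4aa4a14a04a74a64a54a44a34a249149049749649549449349249949849f49e49d49c49b49a48948848f48e48d48c48b48a4814804874864854844834824b14b04b74b64b54b44b34b24b94b84bf4be4bd4bc4bb4ba2b12b02b72b62b52b42b32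b22b92b82bf2be2bd2bc2bb2ba2a92a82af2ae2ad2ac2ab2aa2a12a02a72a62a52a42a32a229129029729629529429329229929829f29e29d29c29b29a28928828f28e28d28c28b28a2812802872862852842832822d12d02d72d62d52d42d32d22d92d82df2de2dd2dc2db2da2c92c82cf2ce2cd2cc2cb2ca2c12c02c72c62c52c42c32c22f12f02f72f62f52f42f32f22f92f82ff2fe2fd2fc2fb2fa2e92e82ef2ee2ed2ec2eb2ea2e12e02e72e62e52e42e32e223123023723623523423323223923823f23e23d23c23b23a22922822f22e22d22c22b22a22122022722622522422322221121021721621521421321221921821f21e21d21c21b21a20920820f20e20d20c20b20a20120020720620520420320225125025725625525425325225925825f25e25d25c25b25a24924824f24e24d24c24b24a24124024724624524424324227127027727627527427327227927827f27e27d27c27b27a26926826f26e26d26c26b26a2612602672662652642632623b13b03b73b63b53b43b33b23b93b83bf3be3bd3bc3bb3ba3a93a83af3ae3ad3ac3ab3aa3a13a03a73a63a53a43a33a239139039739639539439339239939839f39e39d39c39b39a38938838f38e38d38c38b38a38138038738638538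43833823d13d03d73d63d53d43d33d23d93d83df3de3dd3dc3db3da3c93c83cf3ce3cd3cc3cb3ca3c13c03c73c63c53c43c33c23f13f03f73f63f53f43f33f23f93f83ff3fe3fd3fc3fb3fa3e93e83ef3ee3ed3ec3eb3ea3e13e03e73e63e53e43e33e233133033733633533433333233933833f33e33d33c33b33a32932832f32e32d32c32b32a32132032732632532432332231131031731631531431331231931831f31e31d31c31b31a30930830f30e30d30c30b30a30130030730630530430330235135035735635535435335235935835f35e35d35c35b35a34934834f34e34d34c34b34a34134034734634534434334237137037737637537437337237937837f37e37d37c37b37a36936836f36e36d36c36b36a3613603673663653643633621d11d01d71d61d51d41d31d21d91d81df1de1dd1dc1db1da1c91c81cf1ce1cd1cc1cb1ca1c11c01c71c61c51c41c31c21f11f01f71f61f51f41f31f21f91f81ff1fe1fd1fc1fb1fa1e91e81ef1ee1ed1ec1eb1ea1e11e01e71e61e51e41e31e21b11b01b71b61b51b41b31b21b91b81bf1be1bd1bc1bb1ba1a91a81af1ae1ad1ac1ab1aa1a11a01a71a61a51a41a31a219119019719619519419319219919819f19e19d19c19b19a18918818f18e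18d18c18b18a18118018718618518418318215115015715615515415315215915815f15e15d15c15b15a14914814f14e14d14c14b14a14114014714614514414314217117017717617517417317217917817f17e17d17c17b17a16916816f16e16d16c16b16a16116016716616516416316213113013713613513413313213913813f13e13d13c13b13a12912812f12e12d12c12b12a12112012712612512412312211111011711611511411311211911811f11e11d11c11b11a10910810f10e10d10c10b10a1011001071061051041031020d10d00d70d60d50d40d30d20d90d80df0de0dd0dc0db0da0c90c80cf0ce0cd0cc0cb0ca0c10c00c70c60c50c40c30c20f10f00f70f60f50f40f30f20f90f80ff0fe0fd0fc0fb0fa0e90e80ef0ee0ed0ec0eb0ea0e10e00e70e60e50e40e30e20b10b00b70b60b50b40b30b20b90b80bf0be0bd0bc0bb0ba0a90a80af0ae0ad0ac0ab0aa0a10a00a70a60a50a40a30a209109009709609509409309209909809f09e09d09c09b09a08908808f08e08d08c08b08a08108008708608508408308205105005705605505405305205905805f05e05d05c05b05a04904804f04e04d04c04b04a04104004704604504404304207107007707607507407307207907807f07e07d07c07b07a06906806f06e06d06c06b06a06106006706606506406306203103003703603503403303203903803f03e03d03c03b03a02902802f02e02d02c02b02a02102002702602502402302201101001701601501401301201901801f01e01d01c01b01a00900800f00e00d00c00b00a001000007006005004003002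

/-- table of right multiplication by generator 2 -/
def T2 : Nat := 0xed3ed2ed1ed0ed7ed6ed5ed4edbedaed9ed8edfedeeddedcec3ec2ec1ec0ec7ec6ec5ec4ecbecaec9ec8ecfeceecdeccef3ef2ef1ef0ef7ef6ef5ef4efbefaef9ef8effefeefdefcee3ee2ee1ee0ee7ee6ee5ee4eebeeaee9ee8eefeeeeedeece93e92e91e90e97e96e95e94e9be9ae99e98e9fe9ee9de9ce83e82e81e80e87e86e85e84e8be8ae89e88e8fe8ee8de8ceb3eb2eb1eb0eb7eb6eb5eb4ebbebaeb9eb8ebfebeebdebcea3ea2ea1ea0ea7ea6ea5ea4eabeaaea9ea8eafeaeeadeace73e72e71e70e77e76e75e74e7be7ae79e78e7fe7ee7de7ce63e62e61e60e67e66e65e64e6be6ae69e68e6fe6ee6de6ce53e52e51e50e57e56e55e54e5be5ae59e58e5fe5ee5de5ce43e42e41e40e47e46e45e44e4be4ae49e48e4fe4ee4de4ce33e32e31e30e37e36e35e34e3be3ae39e38e3fe3ee3de3ce23e22e21e20e27e26e25e24e2be2ae29e28e2fe2ee2de2ce13e12e11e10e17e16e15e14e1be1ae19e18e1fe1ee1de1ce03e02e01e00e07e06e05e04e0be0ae09e08e0fe0ee0de0cfd3fd2fd1fd0fd7fd6fd5fd4fdbfdafd9fd8fdffdefddfdcfc3fc2fc1fc0fc7fc6fc5fc4fcbfcafc9fc8fcffcef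cdfccff3ff2ff1ff0ff7ff6ff5ff4ffbffaff9ff8fffffeffdffcfe3fe2fe1fe0fe7fe6fe5fe4febfeafe9fe8feffeefedfecf93f92f91f90f97f96f95f94f9bf9af99f98f9ff9ef9df9cf83f82f81f80f87f86f85f84f8bf8af89f88f8ff8ef8df8cfb3fb2fb1fb0fb7fb6fb5fb4fbbfbafb9fb8fbffbefbdfbcfa3fa2fa1fa0fa7fa6fa5fa4fabfaafa9fa8faffaefadfacf73f72f71f70f77f76f75f74f7bf7af79f78f7ff7ef7df7cf63f62f61f60f67f66f65f64f6bf6af69f68f6ff6ef6df6cf53f52f51f50f57f56f55f54f5bf5af59f58f5ff5ef5df5cf43f42f41f40f47f46f45f44f4bf4af49f48f4ff4ef4df4cf33f32f31f30f37f36f35f34f3bf3af39f38f3ff3ef3df3cf23f22f21f20f27f26f25f24f2bf2af29f28f2ff2ef2df2cf13f12f11f10f17f16f15f14f1bf1af19f18f1ff1ef1df1cf03f02f01f00f07f06f05f04f0bf0af09f08f0ff0ef0df0ccf3cf2cf1cf0cf7cf6cf5cf4cfbcfacf9cf8cffcfecfdcfcce3ce2ce1ce0ce7ce6ce5ce4cebceace9ce8cefceecedceccd3cd2cd1cd0cd7cd6cd5cd4cdbcdacd9cd8cdfcdecddcdccc3cc2cc1cc0cc7cc6cc5cc4ccbccacc9cc8ccfcceccdccccb3cb2cb1cb0cb7cb6cb5cb4cbbcbacb9cb8cbfcbecbdcbcca3ca2ca1ca0ca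7ca6ca5ca4cabcaaca9ca8cafcaecadcacc93c92c91c90c97c96c95c94c9bc9ac99c98c9fc9ec9dc9cc83c82c81c80c87c86c85c84c8bc8ac89c88c8fc8ec8dc8cc53c52c51c50c57c56c55c54c5bc5ac59c58c5fc5ec5dc5cc43c42c41c40c47c46c45c44c4bc4ac49c48c4fc4ec4dc4cc73c72c71c70c77c76c75c74c7bc7ac79c78c7fc7ec7dc7cc63c62c61c60c67c66c65c64c6bc6ac69c68c6fc6ec6dc6cc13c12c11c10c17c16c15c14c1bc1ac19c18c1fc1ec1dc1cc03c02c01c00c07c06c05c04c0bc0ac09c08c0fc0ec0dc0cc33c32c31c30c37c36c35c34c3bc3ac39c38c3fc3ec3dc3cc23c22c21c20c27c26c25c24c2bc2ac29c28c2fc2ec2dc2cdf3df2df1df0df7df6df5df4dfbdfadf9df8dffdfedfddfcde3de2de1de0de7de6de5de4debdeade9de8defdeededdecdd3dd2dd1dd0dd7dd6dd5dd4ddbddadd9dd8ddfddedddddcdc3dc2dc1dc0dc7dc6dc5dc4dcbdcadc9dc8dcfdcedcddccdb3db2db1db0db7db6db5db4dbbdbadb9db8dbfdbedbddbcda3da2da1da0da7da6da5da4dabdaada9da8dafdaedaddacd93d92d91d90d97d96d95d94d9bd9ad99d98d9fd9ed9dd9cd83d82d81d80d87d86d85d84d8bd8ad89d88d8fd8ed8dd8cd53d52d51d50d57d56d55d54d5bd5ad59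d58d5fd5ed5dd5cd43d42d41d40d47d46d45d44d4bd4ad49d48d4fd4ed4dd4cd73d72d71d70d77d76d75d74d7bd7ad79d78d7fd7ed7dd7cd63d62d61d60d67d66d65d64d6bd6ad69d68d6fd6ed6dd6cd13d12d11d10d17d16d15d14d1bd1ad19d18d1fd1ed1dd1cd03d02d01d00d07d06d05d04d0bd0ad09d08d0fd0ed0dd0cd33d32d31d30d37d36d35d34d3bd3ad39d38d3fd3ed3dd3cd23d22d21d20d27d26d25d24d2bd2ad29d28d2fd2ed2dd2cabbabaab9ab8abfabeabdabcab3ab2ab1ab0ab7ab6ab5ab4aabaaaaa9aa8aafaaeaadaacaa3aa2aa1aa0aa7aa6aa5aa4a9ba9aa99a98a9fa9ea9da9ca93a92a91a90a97a96a95a94a8ba8aa89a88a8fa8ea8da8ca83a82a81a80a87a86a85a84afbafaaf9af8affafeafdafcaf3af2af1af0af7af6af5af4aebaeaae9ae8aefaeeaedaecae3ae2ae1ae0ae7ae6ae5ae4adbadaad9ad8adfadeaddadcad3ad2ad1ad0ad7ad6ad5ad4acbacaac9ac8acfaceacdaccac3ac2ac1ac0ac7ac6ac5ac4a3ba3aa39a38a3fa3ea3da3ca33a32a31a30a37a36a35a34a2ba2aa29a28a2fa2ea2da2ca23a22a21a20a27a26a25a24a1ba1aa19a18a1fa1ea1da1ca13a12a11a10a17a16a15a14a0ba0aa09a08a0fa0ea0da0ca03a02a01a00a07a06a05a04a7ba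7aa79a78a7fa7ea7da7ca73a72a71a70a77a76a75a74a6ba6aa69a68a6fa6ea6da6ca63a62a61a60a67a66a65a64a5ba5aa59a58a5fa5ea5da5ca53a52a51a50a57a56a55a54a4ba4aa49a48a4fa4ea4da4ca43a42a41a40a47a46a45a44bbbbbabb9bb8bbfbbebbdbbcbb3bb2bb1bb0bb7bb6bb5bb4babbaaba9ba8bafbaebadbacba3ba2ba1ba0ba7ba6ba5ba4b9bb9ab99b98b9fb9eb9db9cb93b92b91b90b97b96b95b94b8bb8ab89b88b8fb8eb8db8cb83b82b81b80b87b86b85b84bfbbfabf9bf8bffbfebfdbfcbf3bf2bf1bf0bf7bf6bf5bf4bebbeabe9be8befbeebedbecbe3be2be1be0be7be6be5be4bdbbdabd9bd8bdfbdebddbdcbd3bd2bd1bd0bd7bd6bd5bd4bcbbcabc9bc8bcfbcebcdbccbc3bc2bc1bc0bc7bc6bc5bc4b3bb3ab39b38b3fb3eb3db3cb33b32b31b30b37b36b35b34b2bb2ab29b28b2fb2eb2db2cb23b22b21b20b27b26b25b24b1bb1ab19b18b1fb1eb1db1cb13b12b11b10b17b16b15b14b0bb0ab09b08b0fb0eb0db0cb03b02b01b00b07b06b05b04b7bb7ab79b78b7fb7eb7db7cb73b72b71b70b77b76b75b74b6bb6ab69b68b6fb6eb6db6cb63b62b61b60b67b66b65b64b5bb5ab59b58b5fb5eb5db5cb53b52b51b50b57b56b55b54b4bb4ab49b48b4fb4eb4db4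cb43b42b41b40b47b46b45b4489b89a89989889f89e89d89c89389289189089789689589488b88a88988888f88e88d88c8838828818808878868858848bb8ba8b98b88bf8be8bd8bc8b38b28b18b08b78b68b58b48ab8aa8a98a88af8ae8ad8ac8a38a28a18a08a78a68a58a48db8da8d98d88df8de8dd8dc8d38d28d18d08d78d68d58d48cb8ca8c98c88cf8ce8cd8cc8c38c28c18c08c78c68c58c48fb8fa8f98f88ff8fe8fd8fc8f38f28f18f08f78f68f58f48eb8ea8e98e88ef8ee8ed8ec8e38e28e18e08e78e68e58e481b81a81981881f81e81d81c81381281181081781681581480b80a80980880f80e80d80c80380280180080780680580483b83a83983883f83e83d83c83383283183083783683583482b82a82982882f82e82d82c82382282182082782682582485b85a85985885f85e85d85c85385285185085785685585484b84a84984884f84e84d84c84384284184084784684584487b87a87987887f87e87d87c87387287187087787687587486b86a86986886f86e86d86c86386286186086786686586499b99a99999899f99e99d99c99399299199099799699599498b98a98998898f98e98d98c9839829819809879869859849bb9ba9b99b89bf9be9bd9bc9b39b29b19b09b79b6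9b59b49ab9aa9a99a89af9ae9ad9ac9a39a29a19a09a79a69a59a49db9da9d99d89df9de9dd9dc9d39d29d19d09d79d69d59d49cb9ca9c99c89cf9ce9cd9cc9c39c29c19c09c79c69c59c49fb9fa9f99f89ff9fe9fd9fc9f39f29f19f09f79f69f59f49eb9ea9e99e89ef9ee9ed9ec9e39e29e19e09e79e69e59e491b91a91991891f91e91d91c91391291191091791691591490b90a90990890f90e90d90c90390290190090790690590493b93a93993893f93e93d93c93393293193093793693593492b92a92992892f92e92d92c92392292192092792692592495b95a95995895f95e95d95c95395295195095795695595494b94a94994894f94e94d94c94394294194094794694594497b97a97997897f97e97d97c97397297197097797697597496b96a96996896f96e96d96c9639629619609679669659646b36b26b16b06b76b66b56b46bb6ba6b96b86bf6be6bd6bc6a36a26a16a06a76a66a56a46ab6aa6a96a86af6ae6ad6ac69369269169069769669569469b69a69969869f69e69d69c68368268168068768668568468b68a68968868f68e68d68c6f36f26f16f06f76f66f56f46fb6fa6f96f86ff6fe6fd6fc6e36e26e16e06e76e66e56e46eb6ea6e96e86ef6ee6ed6ec6d36d26d16d06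d76d66d56d46db6da6d96d86df6de6dd6dc6c36c26c16c06c76c66c56c46cb6ca6c96c86cf6ce6cd6cc61361261161061761661561461b61a61961861f61e61d61c60360260160060760660560460b60a60960860f60e60d60c63363263163063763663563463b63a63963863f63e63d63c62362262162062762662562462b62a62962862f62e62d62c65365265165065765665565465b65a65965865f65e65d65c64364264164064764664564464b64a64964864f64e64d64c67367267167067767667567467b67a67967867f67e67d67c66366266166066766666566466b66a66966866f66e66d66c7b37b27b17b07b77b67b57b47bb7ba7b97b87bf7be7bd7bc7a37a27a17a07a77a67a57a47ab7aa7a97a87af7ae7ad7ac79379279179079779679579479b79a79979879f79e79d79c78378278178078778678578478b78a78978878f78e78d78c7f37f27f17f07f77f67f57f47fb7fa7f97f87ff7fe7fd7fc7e37e27e17e07e77e67e57e47eb7ea7e97e87ef7ee7ed7ec7d37d27d17d07d77d67d57d47db7da7d97d87df7de7dd7dc7c37c27c17c07c77c67c57c47cb7ca7c97c87cf7ce7cd7cc71371271171071771671571471b71a71971871f71e71d71c70370270170070770670570470b70a70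970870f70e70d70c73373273173073773673573473b73a73973873f73e73d73c72372272172072772672572472b72a72972872f72e72d72c75375275175075775675575475b75a75975875f75e75d75c74374274174074774674574474b74a74974874f74e74d74c77377277177077777677577477b77a77977877f77e77d77c76376276176076776676576476b76a76976876f76e76d76c49349249149049749649549449b49a49949849f49e49d49c48348248148048748648548448b48a48948848f48e48d48c4b34b24b14b04b74b64b54b44bb4ba4b94b84bf4be4bd4bc4a34a24a14a04a74a64a54a44ab4aa4a94a84af4ae4ad4ac4d34d24d14d04d74d64d54d44db4da4d94d84df4de4dd4dc4c34c24c14c04c74c64c54c44cb4ca4c94c84cf4ce4cd4cc4f34f24f14f04f74f64f54f44fb4fa4f94f84ff4fe4fd4fc4e34e24e14e04e74e64e54e44eb4ea4e94e84ef4ee4ed4ec43343243143043743643543443b43a43943843f43e43d43c42342242142042742642542442b42a42942842f42e42d42c41341241141041741641541441b41a41941841f41e41d41c40340240140040740640540440b40a40940840f40e40d40c47347247147047747647547447b47a47947847f47e47d47c463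46246146046746646546446b46a46946846f46e46d46c45345245145045745645545445b45a45945845f45e45d45c44344244144044744644544444b44a44944844f44e44d44c59359259159059759659559459b59a59959859f59e59d59c58358258158058758658558458b58a58958858f58e58d58c5b35b25b15b05b75b65b55b45bb5ba5b95b85bf5be5bd5bc5a35a25a15a05a75a65a55a45ab5aa5a95a85af5ae5ad5ac5d35d25d15d05d75d65d55d45db5da5d95d85df5de5dd5dc5c35c25c15c05c75c65c55c45cb5ca5c95c85cf5ce5cd5cc5f35f25f15f05f75f65f55f45fb5fa5f95f85ff5fe5fd5fc5e35e25e15e05e75e65e55e45eb5ea5e95e85ef5ee5ed5ec53353253153053753653553453b53a53953853f53e53d53c52352252152052752652552452b52a52952852f52e52d52c51351251151051751651551451b51a51951851f51e51d51c50350250150050750650550450b50a50950850f50e50d50c57357257157057757657557457b57a57957857f57e57d57c56356256156056756656556456b56a56956856f56e56d56c55355255155055755655555455b55a55955855f55e55d55c54354254154054754654554454b54a54954854f54e54d54c3db3da3d93d83df3de3dd3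dc3d33d23d13d03d73d63d53d43cb3ca3c93c83cf3ce3cd3cc3c33c23c13c03c73c63c53c43fb3fa3f93f83ff3fe3fd3fc3f33f23f13f03f73f63f53f43eb3ea3e93e83ef3ee3ed3ec3e33e23e13e03e73e63e53e439b39a39939839f39e39d39c39339239139039739639539438b38a38938838f38e38d38c3833823813803873863853843bb3ba3b93b83bf3be3bd3bc3b33b23b13b03b73b63b53b43ab3aa3a93a83af3ae3ad3ac3a33a23a13a03a73a63a53a435b35a35935835f35e35d35c35335235135035735635535434b34a34934834f34e34d34c34334234134034734634534437b37a37937837f37e37d37c37337237137037737637537436b36a36936836f36e36d36c36336236136036736636536431b31a31931831f31e31d31c31331231131031731631531430b30a30930830f30e30d30c30330230130030730630530433b33a33933833f33e33d33c33333233133033733633533432b32a32932832f32e32d32c3233223213203273263253242db2da2d92d82df2de2dd2dc2d32d22d12d02d72d62d52d42cb2ca2c92c82cf2ce2cd2cc2c32c22c12c02c72c62c52c42fb2fa2f92f82ff2fe2fd2fc2f32f22f12f02f72f62f52f42eb2ea2e92e82ef2ee2ed2ec2e32e22e12e02e72e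62e52e429b29a29929829f29e29d29c29329229129029729629529428b28a28928828f28e28d28c2832822812802872862852842bb2ba2b92b82bf2be2bd2bc2b32b22b12b02b72b62b52b42ab2aa2a92a82af2ae2ad2ac2a32a22a12a02a72a62a52a425b25a25925825f25e25d25c25325225125025725625525424b24a24924824f24e24d24c24324224124024724624524427b27a27927827f27e27d27c27327227127027727627527426b26a26926826f26e26d26c26326226126026726626526421b21a21921821f21e21d21c21321221121021721621521420b20a20920820f20e20d20c20320220120020720620520423b23a23923823f23e23d23c23323223123023723623523422b22a22922822f22e22d22c2232222212202272262252241fb1fa1f91f81ff1fe1fd1fc1f31f21f11f01f71f61f51f41eb1ea1e91e81ef1ee1ed1ec1e31e21e11e01e71e61e51e41db1da1d91d81df1de1dd1dc1d31d21d11d01d71d61d51d41cb1ca1c91c81cf1ce1cd1cc1c31c21c11c01c71c61c51c41bb1ba1b91b81bf1be1bd1bc1b31b21b11b01b71b61b51b41ab1aa1a91a81af1ae1ad1ac1a31a21a11a01a71a61a51a419b19a19919819f19e19d19c19319219119019719619519418b18a189188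18f18e18d18c18318218118018718618518417b17a17917817f17e17d17c17317217117017717617517416b16a16916816f16e16d16c16316216116016716616516415b15a15915815f15e15d15c15315215115015715615515414b14a14914814f14e14d14c14314214114014714614514413b13a13913813f13e13d13c13313213113013713613513412b12a12912812f12e12d12c12312212112012712612512411b11a11911811f11e11d11c11311211111011711611511410b10a10910810f10e10d10c1031021011001071061051040fb0fa0f90f80ff0fe0fd0fc0f30f20f10f00f70f60f50f40eb0ea0e90e80ef0ee0ed0ec0e30e20e10e00e70e60e50e40db0da0d90d80df0de0dd0dc0d30d20d10d00d70d60d50d40cb0ca0c90c80cf0ce0cd0cc0c30c20c10c00c70c60c50c40bb0ba0b90b80bf0be0bd0bc0b30b20b10b00b70b60b50b40ab0aa0a90a80af0ae0ad0ac0a30a20a10a00a70a60a50a409b09a09909809f09e09d09c09309209109009709609509408b08a08908808f08e08d08c08308208108008708608508407b07a07907807f07e07d07c07307207107007707607507406b06a06906806f06e06d06c06306206106006706606506405b05a05905805f05e05d05c05305205105005705605505404b04a04904804f04e04d04c04304204104004704604504403b03a03903803f03e03d03c03303203103003703603503402b02a02902802f02e02d02c02302202102002702602502401b01a01901801f01e01d01c01301201101001701601501400b00a00900800f00e00d00c003002001000007006005004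

/-- table of right multiplication by generator 3 -/
def T3 : Nat := 0xeb7eb6eb5eb4eb3eb2eb1eb0ebfebeebdebcebbebaeb9eb8ea7ea6ea5ea4ea3ea2ea1ea0eafeaeeadeaceabeaaea9ea8e97e96e95e94e93e92e91e90e9fe9ee9de9ce9be9ae99e98e87e86e85e84e83e82e81e80e8fe8ee8de8ce8be8ae89e88ef7ef6ef5ef4ef3ef2ef1ef0effefeefdefcefbefaef9ef8ee7ee6ee5ee4ee3ee2ee1ee0eefeeeeedeeceebeeaee9ee8ed7ed6ed5ed4ed3ed2ed1ed0edfedeeddedcedbedaed9ed8ec7ec6ec5ec4ec3ec2ec1ec0ecfeceecdeccecbecaec9ec8e17e16e15e14e13e12e11e10e1fe1ee1de1ce1be1ae19e18e07e06e05e04e03e02e01e00e0fe0ee0de0ce0be0ae09e08e37e36e35e34e33e32e31e30e3fe3ee3de3ce3be3ae39e38e27e26e25e24e23e22e21e20e2fe2ee2de2ce2be2ae29e28e57e56e55e54e53e52e51e50e5fe5ee5de5ce5be5ae59e58e47e46e45e44e43e42e41e40e4fe4ee4de4ce4be4ae49e48e77e76e75e74e73e72e71e70e7fe7ee7de7ce7be7ae79e78e67e66e65e64e63e62e61e60e6fe6ee6de6ce6be6ae69e68fb7fb6fb5fb4fb3fb2fb1fb0fbffbefbdfbcfbbfbafb9fb8fa7fa6fa5fa4fa3fa2fa1fa0faffaefadfacfabfaaf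a9fa8f97f96f95f94f93f92f91f90f9ff9ef9df9cf9bf9af99f98f87f86f85f84f83f82f81f80f8ff8ef8df8cf8bf8af89f88ff7ff6ff5ff4ff3ff2ff1ff0fffffeffdffcffbffaff9ff8fe7fe6fe5fe4fe3fe2fe1fe0feffeefedfecfebfeafe9fe8fd7fd6fd5fd4fd3fd2fd1fd0fdffdefddfdcfdbfdafd9fd8fc7fc6fc5fc4fc3fc2fc1fc0fcffcefcdfccfcbfcafc9fc8f17f16f15f14f13f12f11f10f1ff1ef1df1cf1bf1af19f18f07f06f05f04f03f02f01f00f0ff0ef0df0cf0bf0af09f08f37f36f35f34f33f32f31f30f3ff3ef3df3cf3bf3af39f38f27f26f25f24f23f22f21f20f2ff2ef2df2cf2bf2af29f28f57f56f55f54f53f52f51f50f5ff5ef5df5cf5bf5af59f58f47f46f45f44f43f42f41f40f4ff4ef4df4cf4bf4af49f48f77f76f75f74f73f72f71f70f7ff7ef7df7cf7bf7af79f78f67f66f65f64f63f62f61f60f6ff6ef6df6cf6bf6af69f68cb7cb6cb5cb4cb3cb2cb1cb0cbfcbecbdcbccbbcbacb9cb8ca7ca6ca5ca4ca3ca2ca1ca0cafcaecadcaccabcaaca9ca8c97c96c95c94c93c92c91c90c9fc9ec9dc9cc9bc9ac99c98c87c86c85c84c83c82c81c80c8fc8ec8dc8cc8bc8ac89c88cf7cf6cf5cf4cf3cf2cf1cf0cffcfecfdcfccfbcfacf9cf8ce7ce6ce5ce4ce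3ce2ce1ce0cefceecedceccebceace9ce8cd7cd6cd5cd4cd3cd2cd1cd0cdfcdecddcdccdbcdacd9cd8cc7cc6cc5cc4cc3cc2cc1cc0ccfcceccdcccccbccacc9cc8c17c16c15c14c13c12c11c10c1fc1ec1dc1cc1bc1ac19c18c07c06c05c04c03c02c01c00c0fc0ec0dc0cc0bc0ac09c08c37c36c35c34c33c32c31c30c3fc3ec3dc3cc3bc3ac39c38c27c26c25c24c23c22c21c20c2fc2ec2dc2cc2bc2ac29c28c57c56c55c54c53c52c51c50c5fc5ec5dc5cc5bc5ac59c58c47c46c45c44c43c42c41c40c4fc4ec4dc4cc4bc4ac49c48c77c76c75c74c73c72c71c70c7fc7ec7dc7cc7bc7ac79c78c67c66c65c64c63c62c61c60c6fc6ec6dc6cc6bc6ac69c68db7db6db5db4db3db2db1db0dbfdbedbddbcdbbdbadb9db8da7da6da5da4da3da2da1da0dafdaedaddacdabdaada9da8d97d96d95d94d93d92d91d90d9fd9ed9dd9cd9bd9ad99d98d87d86d85d84d83d82d81d80d8fd8ed8dd8cd8bd8ad89d88df7df6df5df4df3df2df1df0dffdfedfddfcdfbdfadf9df8de7de6de5de4de3de2de1de0defdeededdecdebdeade9de8dd7dd6dd5dd4dd3dd2dd1dd0ddfddedddddcddbddadd9dd8dc7dc6dc5dc4dc3dc2dc1dc0dcfdcedcddccdcbdcadc9dc8d17d16d15d14d13d12d11d10d1fd1ed1d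d1cd1bd1ad19d18d07d06d05d04d03d02d01d00d0fd0ed0dd0cd0bd0ad09d08d37d36d35d34d33d32d31d30d3fd3ed3dd3cd3bd3ad39d38d27d26d25d24d23d22d21d20d2fd2ed2dd2cd2bd2ad29d28d57d56d55d54d53d52d51d50d5fd5ed5dd5cd5bd5ad59d58d47d46d45d44d43d42d41d40d4fd4ed4dd4cd4bd4ad49d48d77d76d75d74d73d72d71d70d7fd7ed7dd7cd7bd7ad79d78d67d66d65d64d63d62d61d60d6fd6ed6dd6cd6bd6ad69d68ad7ad6ad5ad4ad3ad2ad1ad0adfadeaddadcadbadaad9ad8ac7ac6ac5ac4ac3ac2ac1ac0acfaceacdaccacbacaac9ac8af7af6af5af4af3af2af1af0affafeafdafcafbafaaf9af8ae7ae6ae5ae4ae3ae2ae1ae0aefaeeaedaecaebaeaae9ae8a97a96a95a94a93a92a91a90a9fa9ea9da9ca9ba9aa99a98a87a86a85a84a83a82a81a80a8fa8ea8da8ca8ba8aa89a88ab7ab6ab5ab4ab3ab2ab1ab0abfabeabdabcabbabaab9ab8aa7aa6aa5aa4aa3aa2aa1aa0aafaaeaadaacaabaaaaa9aa8a77a76a75a74a73a72a71a70a7fa7ea7da7ca7ba7aa79a78a67a66a65a64a63a62a61a60a6fa6ea6da6ca6ba6aa69a68a57a56a55a54a53a52a51a50a5fa5ea5da5ca5ba5aa59a58a47a46a45a44a43a42a41a40a4fa4ea4da4ca4ba4aa49a48a37a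36a35a34a33a32a31a30a3fa3ea3da3ca3ba3aa39a38a27a26a25a24a23a22a21a20a2fa2ea2da2ca2ba2aa29a28a17a16a15a14a13a12a11a10a1fa1ea1da1ca1ba1aa19a18a07a06a05a04a03a02a01a00a0fa0ea0da0ca0ba0aa09a08bd7bd6bd5bd4bd3bd2bd1bd0bdfbdebddbdcbdbbdabd9bd8bc7bc6bc5bc4bc3bc2bc1bc0bcfbcebcdbccbcbbcabc9bc8bf7bf6bf5bf4bf3bf2bf1bf0bffbfebfdbfcbfbbfabf9bf8be7be6be5be4be3be2be1be0befbeebedbecbebbeabe9be8b97b96b95b94b93b92b91b90b9fb9eb9db9cb9bb9ab99b98b87b86b85b84b83b82b81b80b8fb8eb8db8cb8bb8ab89b88bb7bb6bb5bb4bb3bb2bb1bb0bbfbbebbdbbcbbbbbabb9bb8ba7ba6ba5ba4ba3ba2ba1ba0bafbaebadbacbabbaaba9ba8b77b76b75b74b73b72b71b70b7fb7eb7db7cb7bb7ab79b78b67b66b65b64b63b62b61b60b6fb6eb6db6cb6bb6ab69b68b57b56b55b54b53b52b51b50b5fb5eb5db5cb5bb5ab59b58b47b46b45b44b43b42b41b40b4fb4eb4db4cb4bb4ab49b48b37b36b35b34b33b32b31b30b3fb3eb3db3cb3bb3ab39b38b27b26b25b24b23b22b21b20b2fb2eb2db2cb2bb2ab29b28b17b16b15b14b13b12b11b10b1fb1eb1db1cb1bb1ab19b18b07b06b05b04b03b02b01b0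0b0fb0eb0db0cb0bb0ab09b088d78d68d58d48d38d28d18d08df8de8dd8dc8db8da8d98d88c78c68c58c48c38c28c18c08cf8ce8cd8cc8cb8ca8c98c88f78f68f58f48f38f28f18f08ff8fe8fd8fc8fb8fa8f98f88e78e68e58e48e38e28e18e08ef8ee8ed8ec8eb8ea8e98e889789689589489389289189089f89e89d89c89b89a89989888788688588488388288188088f88e88d88c88b88a8898888b78b68b58b48b38b28b18b08bf8be8bd8bc8bb8ba8b98b88a78a68a58a48a38a28a18a08af8ae8ad8ac8ab8aa8a98a887787687587487387287187087f87e87d87c87b87a87987886786686586486386286186086f86e86d86c86b86a86986885785685585485385285185085f85e85d85c85b85a85985884784684584484384284184084f84e84d84c84b84a84984883783683583483383283183083f83e83d83c83b83a83983882782682582482382282182082f82e82d82c82b82a82982881781681581481381281181081f81e81d81c81b81a81981880780680580480380280180080f80e80d80c80b80a8098089d79d69d59d49d39d29d19d09df9de9dd9dc9db9da9d99d89c79c69c59c49c39c29c19c09cf9ce9cd9cc9cb9ca9c99c89f79f69f59f49f39f29f19f09ff9fe9fd9fc9fb9fa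9f99f89e79e69e59e49e39e29e19e09ef9ee9ed9ec9eb9ea9e99e899799699599499399299199099f99e99d99c99b99a99999898798698598498398298198098f98e98d98c98b98a9899889b79b69b59b49b39b29b19b09bf9be9bd9bc9bb9ba9b99b89a79a69a59a49a39a29a19a09af9ae9ad9ac9ab9aa9a99a897797697597497397297197097f97e97d97c97b97a97997896796696596496396296196096f96e96d96c96b96a96996895795695595495395295195095f95e95d95c95b95a95995894794694594494394294194094f94e94d94c94b94a94994893793693593493393293193093f93e93d93c93b93a93993892792692592492392292192092f92e92d92c92b92a92992891791691591491391291191091f91e91d91c91b91a91991890790690590490390290190090f90e90d90c90b90a9099087b77b67b57b47b37b27b17b07bf7be7bd7bc7bb7ba7b97b87a77a67a57a47a37a27a17a07af7ae7ad7ac7ab7aa7a97a879779679579479379279179079f79e79d79c79b79a79979878778678578478378278178078f78e78d78c78b78a7897887f77f67f57f47f37f27f17f07ff7fe7fd7fc7fb7fa7f97f87e77e67e57e47e37e27e17e07ef7ee7ed7ec7eb7ea7e97e87d77d67d57d47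d37d27d17d07df7de7dd7dc7db7da7d97d87c77c67c57c47c37c27c17c07cf7ce7cd7cc7cb7ca7c97c871771671571471371271171071f71e71d71c71b71a71971870770670570470370270170070f70e70d70c70b70a70970873773673573473373273173073f73e73d73c73b73a73973872772672572472372272172072f72e72d72c72b72a72972875775675575475375275175075f75e75d75c75b75a75975874774674574474374274174074f74e74d74c74b74a74974877777677577477377277177077f77e77d77c77b77a77977876776676576476376276176076f76e76d76c76b76a7697686b76b66b56b46b36b26b16b06bf6be6bd6bc6bb6ba6b96b86a76a66a56a46a36a26a16a06af6ae6ad6ac6ab6aa6a96a869769669569469369269169069f69e69d69c69b69a69969868768668568468368268168068f68e68d68c68b68a6896886f76f66f56f46f36f26f16f06ff6fe6fd6fc6fb6fa6f96f86e76e66e56e46e36e26e16e06ef6ee6ed6ec6eb6ea6e96e86d76d66d56d46d36d26d16d06df6de6dd6dc6db6da6d96d86c76c66c56c46c36c26c16c06cf6ce6cd6cc6cb6ca6c96c861761661561461361261161061f61e61d61c61b61a61961860760660560460360260160060f60e60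d60c60b60a60960863763663563463363263163063f63e63d63c63b63a63963862762662562462362262162062f62e62d62c62b62a62962865765665565465365265165065f65e65d65c65b65a65965864764664564464364264164064f64e64d64c64b64a64964867767667567467367267167067f67e67d67c67b67a67967866766666566466366266166066f66e66d66c66b66a6696685b75b65b55b45b35b25b15b05bf5be5bd5bc5bb5ba5b95b85a75a65a55a45a35a25a15a05af5ae5ad5ac5ab5aa5a95a859759659559459359259159059f59e59d59c59b59a59959858758658558458358258158058f58e58d58c58b58a5895885f75f65f55f45f35f25f15f05ff5fe5fd5fc5fb5fa5f95f85e75e65e55e45e35e25e15e05ef5ee5ed5ec5eb5ea5e95e85d75d65d55d45d35d25d15d05df5de5dd5dc5db5da5d95d85c75c65c55c45c35c25c15c05cf5ce5cd5cc5cb5ca5c95c851751651551451351251151051f51e51d51c51b51a51951850750650550450350250150050f50e50d50c50b50a50950853753653553453353253153053f53e53d53c53b53a53953852752652552452352252152052f52e52d52c52b52a52952855755655555455355255155055f55e55d55c55b55a559558547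54654554454354254154054f54e54d54c54b54a54954857757657557457357257157057f57e57d57c57b57a57957856756656556456356256156056f56e56d56c56b56a5695684b74b64b54b44b34b24b14b04bf4be4bd4bc4bb4ba4b94b84a74a64a54a44a34a24a14a04af4ae4ad4ac4ab4aa4a94a849749649549449349249149049f49e49d49c49b49a49949848748648548448348248148048f48e48d48c48b48a4894884f74f64f54f44f34f24f14f04ff4fe4fd4fc4fb4fa4f94f84e74e64e54e44e34e24e14e04ef4ee4ed4ec4eb4ea4e94e84d74d64d54d44d34d24d14d04df4de4dd4dc4db4da4d94d84c74c64c54c44c34c24c14c04cf4ce4cd4cc4cb4ca4c94c841741641541441341241141041f41e41d41c41b41a41941840740640540440340240140040f40e40d40c40b40a40940843743643543443343243143043f43e43d43c43b43a43943842742642542442342242142042f42e42d42c42b42a42942845745645545445345245145045f45e45d45c45b45a45945844744644544444344244144044f44e44d44c44b44a44944847747647547447347247147047f47e47d47c47b47a47947846746646546446346246146046f46e46d46c46b46a4694683d73d63d53d43d33d23d13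d03df3de3dd3dc3db3da3d93d83c73c63c53c43c33c23c13c03cf3ce3cd3cc3cb3ca3c93c83f73f63f53f43f33f23f13f03ff3fe3fd3fc3fb3fa3f93f83e73e63e53e43e33e23e13e03ef3ee3ed3ec3eb3ea3e93e839739639539439339239139039f39e39d39c39b39a39939838738638538438338238138038f38e38d38c38b38a3893883b73b63b53b43b33b23b13b03bf3be3bd3bc3bb3ba3b93b83a73a63a53a43a33a23a13a03af3ae3ad3ac3ab3aa3a93a837737637537437337237137037f37e37d37c37b37a37937836736636536436336236136036f36e36d36c36b36a36936835735635535435335235135035f35e35d35c35b35a35935834734634534434334234134034f34e34d34c34b34a34934833733633533433333233133033f33e33d33c33b33a33933832732632532432332232132032f32e32d32c32b32a32932831731631531431331231131031f31e31d31c31b31a31931830730630530430330230130030f30e30d30c30b30a3093082d72d62d52d42d32d22d12d02df2de2dd2dc2db2da2d92d82c72c62c52c42c32c22c12c02cf2ce2cd2cc2cb2ca2c92c82f72f62f52f42f32f22f12f02ff2fe2fd2fc2fb2fa2f92f82e72e62e52e42e32e22e12e02ef2ee2ed2ec2eb2e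a2e92e829729629529429329229129029f29e29d29c29b29a29929828728628528428328228128028f28e28d28c28b28a2892882b72b62b52b42b32b22b12b02bf2be2bd2bc2bb2ba2b92b82a72a62a52a42a32a22a12a02af2ae2ad2ac2ab2aa2a92a827727627527427327227127027f27e27d27c27b27a27927826726626526426326226126026f26e26d26c26b26a26926825725625525425325225125025f25e25d25c25b25a25925824724624524424324224124024f24e24d24c24b24a24924823723623523423323223123023f23e23d23c23b23a23923822722622522422322222122022f22e22d22c22b22a22922821721621521421321221121021f21e21d21c21b21a21921820720620520420320220120020f20e20d20c20b20a2092081d71d61d51d41d31d21d11d01df1de1dd1dc1db1da1d91d81c71c61c51c41c31c21c11c01cf1ce1cd1cc1cb1ca1c91c81f71f61f51f41f31f21f11f01ff1fe1fd1fc1fb1fa1f91f81e71e61e51e41e31e21e11e01ef1ee1ed1ec1eb1ea1e91e819719619519419319219119019f19e19d19c19b19a19919818718618518418318218118018f18e18d18c18b18a1891881b71b61b51b41b31b21b11b01bf1be1bd1bc1bb1ba1b91b81a71a61a51a4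1a31a21a11a01af1ae1ad1ac1ab1aa1a91a817717617517417317217117017f17e17d17c17b17a17917816716616516416316216116016f16e16d16c16b16a16916815715615515415315215115015f15e15d15c15b15a15915814714614514414314214114014f14e14d14c14b14a14914813713613513413313213113013f13e13d13c13b13a13913812712612512412312212112012f12e12d12c12b12a12912811711611511411311211111011f11e11d11c11b11a11911810710610510410310210110010f10e10d10c10b10a1091080d70d60d50d40d30d20d10d00df0de0dd0dc0db0da0d90d80c70c60c50c40c30c20c10c00cf0ce0cd0cc0cb0ca0c90c80f70f60f50f40f30f20f10f00ff0fe0fd0fc0fb0fa0f90f80e70e60e50e40e30e20e10e00ef0ee0ed0ec0eb0ea0e90e809709609509409309209109009f09e09d09c09b09a09909808708608508408308208108008f08e08d08c08b08a0890880b70b60b50b40b30b20b10b00bf0be0bd0bc0bb0ba0b90b80a70a60a50a40a30a20a10a00af0ae0ad0ac0ab0aa0a90a807707607507407307207107007f07e07d07c07b07a07907806706606506406306206106006f06e06d06c06b06a06906805705605505405305205105005f05e05d05c05b05a05905804704604504404304204104004f04e04d04c04b04a04904803703603503403303203103003f03e03d03c03b03a03903802702602502402302202102002f02e02d02c02b02a02902801701601501401301201101001f01e01d01c01b01a01901800700600500400300200100000f00e00d00c00b00a009008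

/-- table of right multiplication by generator 4 -/
def T4 : Nat := 0xe8fe8ee8de8ce8be8ae89e88e87e86e85e84e83e82e81e80ebfebeebdebcebbebaeb9eb8eb7eb6eb5eb4eb3eb2eb1eb0eafeaeeadeaceabeaaea9ea8ea7ea6ea5ea4ea3ea2ea1ea0e9fe9ee9de9ce9be9ae99e98e97e96e95e94e93e92e91e90ecfeceecdeccecbecaec9ec8ec7ec6ec5ec4ec3ec2ec1ec0effefeefdefcefbefaef9ef8ef7ef6ef5ef4ef3ef2ef1ef0eefeeeeedeeceebeeaee9ee8ee7ee6ee5ee4ee3ee2ee1ee0edfedeeddedcedbedaed9ed8ed7ed6ed5ed4ed3ed2ed1ed0e4fe4ee4de4ce4be4ae49e48e47e46e45e44e43e42e41e40e7fe7ee7de7ce7be7ae79e78e77e76e75e74e73e72e71e70e6fe6ee6de6ce6be6ae69e68e67e66e65e64e63e62e61e60e5fe5ee5de5ce5be5ae59e58e57e56e55e54e53e52e51e50e0fe0ee0de0ce0be0ae09e08e07e06e05e04e03e02e01e00e3fe3ee3de3ce3be3ae39e38e37e36e35e34e33e32e31e30e2fe2ee2de2ce2be2ae29e28e27e26e25e24e23e22e21e20e1fe1ee1de1ce1be1ae19e18e17e16e15e14e13e12e11e10f8ff8ef8df8cf8bf8af89f88f87f86f85f84f83f82f81f80fbffbefbdfbcfbbfbafb9fb8fb7fb6fb5fb4fb3fb2f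b1fb0faffaefadfacfabfaafa9fa8fa7fa6fa5fa4fa3fa2fa1fa0f9ff9ef9df9cf9bf9af99f98f97f96f95f94f93f92f91f90fcffcefcdfccfcbfcafc9fc8fc7fc6fc5fc4fc3fc2fc1fc0fffffeffdffcffbffaff9ff8ff7ff6ff5ff4ff3ff2ff1ff0feffeefedfecfebfeafe9fe8fe7fe6fe5fe4fe3fe2fe1fe0fdffdefddfdcfdbfdafd9fd8fd7fd6fd5fd4fd3fd2fd1fd0f4ff4ef4df4cf4bf4af49f48f47f46f45f44f43f42f41f40f7ff7ef7df7cf7bf7af79f78f77f76f75f74f73f72f71f70f6ff6ef6df6cf6bf6af69f68f67f66f65f64f63f62f61f60f5ff5ef5df5cf5bf5af59f58f57f56f55f54f53f52f51f50f0ff0ef0df0cf0bf0af09f08f07f06f05f04f03f02f01f00f3ff3ef3df3cf3bf3af39f38f37f36f35f34f33f32f31f30f2ff2ef2df2cf2bf2af29f28f27f26f25f24f23f22f21f20f1ff1ef1df1cf1bf1af19f18f17f16f15f14f13f12f11f10d8fd8ed8dd8cd8bd8ad89d88d87d86d85d84d83d82d81d80dbfdbedbddbcdbbdbadb9db8db7db6db5db4db3db2db1db0dafdaedaddacdabdaada9da8da7da6da5da4da3da2da1da0d9fd9ed9dd9cd9bd9ad99d98d97d96d95d94d93d92d91d90dcfdcedcddccdcbdcadc9dc8dc7dc6dc5dc4dc3dc2dc1dc0dffdfedfddfcdf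bdfadf9df8df7df6df5df4df3df2df1df0defdeededdecdebdeade9de8de7de6de5de4de3de2de1de0ddfddedddddcddbddadd9dd8dd7dd6dd5dd4dd3dd2dd1dd0d4fd4ed4dd4cd4bd4ad49d48d47d46d45d44d43d42d41d40d7fd7ed7dd7cd7bd7ad79d78d77d76d75d74d73d72d71d70d6fd6ed6dd6cd6bd6ad69d68d67d66d65d64d63d62d61d60d5fd5ed5dd5cd5bd5ad59d58d57d56d55d54d53d52d51d50d0fd0ed0dd0cd0bd0ad09d08d07d06d05d04d03d02d01d00d3fd3ed3dd3cd3bd3ad39d38d37d36d35d34d33d32d31d30d2fd2ed2dd2cd2bd2ad29d28d27d26d25d24d23d22d21d20d1fd1ed1dd1cd1bd1ad19d18d17d16d15d14d13d12d11d10c8fc8ec8dc8cc8bc8ac89c88c87c86c85c84c83c82c81c80cbfcbecbdcbccbbcbacb9cb8cb7cb6cb5cb4cb3cb2cb1cb0cafcaecadcaccabcaaca9ca8ca7ca6ca5ca4ca3ca2ca1ca0c9fc9ec9dc9cc9bc9ac99c98c97c96c95c94c93c92c91c90ccfcceccdcccccbccacc9cc8cc7cc6cc5cc4cc3cc2cc1cc0cffcfecfdcfccfbcfacf9cf8cf7cf6cf5cf4cf3cf2cf1cf0cefceecedceccebceace9ce8ce7ce6ce5ce4ce3ce2ce1ce0cdfcdecddcdccdbcdacd9cd8cd7cd6cd5cd4cd3cd2cd1cd0c4fc4ec4dc4cc4bc4ac49c48c47c46c45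c44c43c42c41c40c7fc7ec7dc7cc7bc7ac79c78c77c76c75c74c73c72c71c70c6fc6ec6dc6cc6bc6ac69c68c67c66c65c64c63c62c61c60c5fc5ec5dc5cc5bc5ac59c58c57c56c55c54c53c52c51c50c0fc0ec0dc0cc0bc0ac09c08c07c06c05c04c03c02c01c00c3fc3ec3dc3cc3bc3ac39c38c37c36c35c34c33c32c31c30c2fc2ec2dc2cc2bc2ac29c28c27c26c25c24c23c22c21c20c1fc1ec1dc1cc1bc1ac19c18c17c16c15c14c13c12c11c10a8fa8ea8da8ca8ba8aa89a88a87a86a85a84a83a82a81a80abfabeabdabcabbabaab9ab8ab7ab6ab5ab4ab3ab2ab1ab0aafaaeaadaacaabaaaaa9aa8aa7aa6aa5aa4aa3aa2aa1aa0a9fa9ea9da9ca9ba9aa99a98a97a96a95a94a93a92a91a90acfaceacdaccacbacaac9ac8ac7ac6ac5ac4ac3ac2ac1ac0affafeafdafcafbafaaf9af8af7af6af5af4af3af2af1af0aefaeeaedaecaebaeaae9ae8ae7ae6ae5ae4ae3ae2ae1ae0adfadeaddadcadbadaad9ad8ad7ad6ad5ad4ad3ad2ad1ad0a4fa4ea4da4ca4ba4aa49a48a47a46a45a44a43a42a41a40a7fa7ea7da7ca7ba7aa79a78a77a76a75a74a73a72a71a70a6fa6ea6da6ca6ba6aa69a68a67a66a65a64a63a62a61a60a5fa5ea5da5ca5ba5aa59a58a57a56a55a54a53a52a51a50a0fa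0ea0da0ca0ba0aa09a08a07a06a05a04a03a02a01a00a3fa3ea3da3ca3ba3aa39a38a37a36a35a34a33a32a31a30a2fa2ea2da2ca2ba2aa29a28a27a26a25a24a23a22a21a20a1fa1ea1da1ca1ba1aa19a18a17a16a15a14a13a12a11a10b8fb8eb8db8cb8bb8ab89b88b87b86b85b84b83b82b81b80bbfbbebbdbbcbbbbbabb9bb8bb7bb6bb5bb4bb3bb2bb1bb0bafbaebadbacbabbaaba9ba8ba7ba6ba5ba4ba3ba2ba1ba0b9fb9eb9db9cb9bb9ab99b98b97b96b95b94b93b92b91b90bcfbcebcdbccbcbbcabc9bc8bc7bc6bc5bc4bc3bc2bc1bc0bffbfebfdbfcbfbbfabf9bf8bf7bf6bf5bf4bf3bf2bf1bf0befbeebedbecbebbeabe9be8be7be6be5be4be3be2be1be0bdfbdebddbdcbdbbdabd9bd8bd7bd6bd5bd4bd3bd2bd1bd0b4fb4eb4db4cb4bb4ab49b48b47b46b45b44b43b42b41b40b7fb7eb7db7cb7bb7ab79b78b77b76b75b74b73b72b71b70b6fb6eb6db6cb6bb6ab69b68b67b66b65b64b63b62b61b60b5fb5eb5db5cb5bb5ab59b58b57b56b55b54b53b52b51b50b0fb0eb0db0cb0bb0ab09b08b07b06b05b04b03b02b01b00b3fb3eb3db3cb3bb3ab39b38b37b36b35b34b33b32b31b30b2fb2eb2db2cb2bb2ab29b28b27b26b25b24b23b22b21b20b1fb1eb1db1cb1bb1ab19b1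8b17b16b15b14b13b12b11b1098f98e98d98c98b98a9899889879869859849839829819809bf9be9bd9bc9bb9ba9b99b89b79b69b59b49b39b29b19b09af9ae9ad9ac9ab9aa9a99a89a79a69a59a49a39a29a19a099f99e99d99c99b99a9999989979969959949939929919909cf9ce9cd9cc9cb9ca9c99c89c79c69c59c49c39c29c19c09ff9fe9fd9fc9fb9fa9f99f89f79f69f59f49f39f29f19f09ef9ee9ed9ec9eb9ea9e99e89e79e69e59e49e39e29e19e09df9de9dd9dc9db9da9d99d89d79d69d59d49d39d29d19d094f94e94d94c94b94a94994894794694594494394294194097f97e97d97c97b97a97997897797697597497397297197096f96e96d96c96b96a96996896796696596496396296196095f95e95d95c95b95a95995895795695595495395295195090f90e90d90c90b90a90990890790690590490390290190093f93e93d93c93b93a93993893793693593493393293193092f92e92d92c92b92a92992892792692592492392292192091f91e91d91c91b91a91991891791691591491391291191088f88e88d88c88b88a8898888878868858848838828818808bf8be8bd8bc8bb8ba8b98b88b78b68b58b48b38b28b18b08af8ae8ad8ac8ab8aa8a98a88a78a68a58a48a38a2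8a18a089f89e89d89c89b89a8998988978968958948938928918908cf8ce8cd8cc8cb8ca8c98c88c78c68c58c48c38c28c18c08ff8fe8fd8fc8fb8fa8f98f88f78f68f58f48f38f28f18f08ef8ee8ed8ec8eb8ea8e98e88e78e68e58e48e38e28e18e08df8de8dd8dc8db8da8d98d88d78d68d58d48d38d28d18d084f84e84d84c84b84a84984884784684584484384284184087f87e87d87c87b87a87987887787687587487387287187086f86e86d86c86b86a86986886786686586486386286186085f85e85d85c85b85a85985885785685585485385285185080f80e80d80c80b80a80980880780680580480380280180083f83e83d83c83b83a83983883783683583483383283183082f82e82d82c82b82a82982882782682582482382282182081f81e81d81c81b81a81981881781681581481381281181068f68e68d68c68b68a6896886876866856846836826816806bf6be6bd6bc6bb6ba6b96b86b76b66b56b46b36b26b16b06af6ae6ad6ac6ab6aa6a96a86a76a66a56a46a36a26a16a069f69e69d69c69b69a6996986976966956946936926916906cf6ce6cd6cc6cb6ca6c96c86c76c66c56c46c36c26c16c06ff6fe6fd6fc6fb6fa6f96f86f76f66f56f46f36f26f16f06ef6ee6ed6ec6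eb6ea6e96e86e76e66e56e46e36e26e16e06df6de6dd6dc6db6da6d96d86d76d66d56d46d36d26d16d064f64e64d64c64b64a64964864764664564464364264164067f67e67d67c67b67a67967867767667567467367267167066f66e66d66c66b66a66966866766666566466366266166065f65e65d65c65b65a65965865765665565465365265165060f60e60d60c60b60a60960860760660560460360260160063f63e63d63c63b63a63963863763663563463363263163062f62e62d62c62b62a62962862762662562462362262162061f61e61d61c61b61a61961861761661561461361261161078f78e78d78c78b78a7897887877867857847837827817807bf7be7bd7bc7bb7ba7b97b87b77b67b57b47b37b27b17b07af7ae7ad7ac7ab7aa7a97a87a77a67a57a47a37a27a17a079f79e79d79c79b79a7997987977967957947937927917907cf7ce7cd7cc7cb7ca7c97c87c77c67c57c47c37c27c17c07ff7fe7fd7fc7fb7fa7f97f87f77f67f57f47f37f27f17f07ef7ee7ed7ec7eb7ea7e97e87e77e67e57e47e37e27e17e07df7de7dd7dc7db7da7d97d87d77d67d57d47d37d27d17d074f74e74d74c74b74a74974874774674574474374274174077f77e77d77c77b77a77977877777677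577477377277177076f76e76d76c76b76a76976876776676576476376276176075f75e75d75c75b75a75975875775675575475375275175070f70e70d70c70b70a70970870770670570470370270170073f73e73d73c73b73a73973873773673573473373273173072f72e72d72c72b72a72972872772672572472372272172071f71e71d71c71b71a71971871771671571471371271171058f58e58d58c58b58a5895885875865855845835825815805bf5be5bd5bc5bb5ba5b95b85b75b65b55b45b35b25b15b05af5ae5ad5ac5ab5aa5a95a85a75a65a55a45a35a25a15a059f59e59d59c59b59a5995985975965955945935925915905cf5ce5cd5cc5cb5ca5c95c85c75c65c55c45c35c25c15c05ff5fe5fd5fc5fb5fa5f95f85f75f65f55f45f35f25f15f05ef5ee5ed5ec5eb5ea5e95e85e75e65e55e45e35e25e15e05df5de5dd5dc5db5da5d95d85d75d65d55d45d35d25d15d054f54e54d54c54b54a54954854754654554454354254154057f57e57d57c57b57a57957857757657557457357257157056f56e56d56c56b56a56956856756656556456356256156055f55e55d55c55b55a55955855755655555455355255155050f50e50d50c50b50a50950850750650550450350250150053f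53e53d53c53b53a53953853753653553453353253153052f52e52d52c52b52a52952852752652552452352252152051f51e51d51c51b51a51951851751651551451351251151048f48e48d48c48b48a4894884874864854844834824814804bf4be4bd4bc4bb4ba4b94b84b74b64b54b44b34b24b14b04af4ae4ad4ac4ab4aa4a94a84a74a64a54a44a34a24a14a049f49e49d49c49b49a4994984974964954944934924914904cf4ce4cd4cc4cb4ca4c94c84c74c64c54c44c34c24c14c04ff4fe4fd4fc4fb4fa4f94f84f74f64f54f44f34f24f14f04ef4ee4ed4ec4eb4ea4e94e84e74e64e54e44e34e24e14e04df4de4dd4dc4db4da4d94d84d74d64d54d44d34d24d14d044f44e44d44c44b44a44944844744644544444344244144047f47e47d47c47b47a47947847747647547447347247147046f46e46d46c46b46a46946846746646546446346246146045f45e45d45c45b45a45945845745645545445345245145040f40e40d40c40b40a40940840740640540440340240140043f43e43d43c43b43a43943843743643543443343243143042f42e42d42c42b42a42942842742642542442342242142041f41e41d41c41b41a41941841741641541441341241141028f28e28d28c28b28a2892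882872862852842832822812802bf2be2bd2bc2bb2ba2b92b82b72b62b52b42b32b22b12b02af2ae2ad2ac2ab2aa2a92a82a72a62a52a42a32a22a12a029f29e29d29c29b29a2992982972962952942932922912902cf2ce2cd2cc2cb2ca2c92c82c72c62c52c42c32c22c12c02ff2fe2fd2fc2fb2fa2f92f82f72f62f52f42f32f22f12f02ef2ee2ed2ec2eb2ea2e92e82e72e62e52e42e32e22e12e02df2de2dd2dc2db2da2d92d82d72d62d52d42d32d22d12d024f24e24d24c24b24a24924824724624524424324224124027f27e27d27c27b27a27927827727627527427327227127026f26e26d26c26b26a26926826726626526426326226126025f25e25d25c25b25a25925825725625525425325225125020f20e20d20c20b20a20920820720620520420320220120023f23e23d23c23b23a23923823723623523423323223123022f22e22d22c22b22a22922822722622522422322222122021f21e21d21c21b21a21921821721621521421321221121038f38e38d38c38b38a3893883873863853843833823813803bf3be3bd3bc3bb3ba3b93b83b73b63b53b43b33b23b13b03af3ae3ad3ac3ab3aa3a93a83a73a63a53a43a33a23a13a039f39e39d39c39b39a39939839739639539439339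23913903cf3ce3cd3cc3cb3ca3c93c83c73c63c53c43c33c23c13c03ff3fe3fd3fc3fb3fa3f93f83f73f63f53f43f33f23f13f03ef3ee3ed3ec3eb3ea3e93e83e73e63e53e43e33e23e13e03df3de3dd3dc3db3da3d93d83d73d63d53d43d33d23d13d034f34e34d34c34b34a34934834734634534434334234134037f37e37d37c37b37a37937837737637537437337237137036f36e36d36c36b36a36936836736636536436336236136035f35e35d35c35b35a35935835735635535435335235135030f30e30d30c30b30a30930830730630530430330230130033f33e33d33c33b33a33933833733633533433333233133032f32e32d32c32b32a32932832732632532432332232132031f31e31d31c31b31a31931831731631531431331231131018f18e18d18c18b18a1891881871861851841831821811801bf1be1bd1bc1bb1ba1b91b81b71b61b51b41b31b21b11b01af1ae1ad1ac1ab1aa1a91a81a71a61a51a41a31a21a11a019f19e19d19c19b19a1991981971961951941931921911901cf1ce1cd1cc1cb1ca1c91c81c71c61c51c41c31c21c11c01ff1fe1fd1fc1fb1fa1f91f81f71f61f51f41f31f21f11f01ef1ee1ed1ec1eb1ea1e91e81e71e61e51e41e31e21e11e01df1de1dd1dc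1db1da1d91d81d71d61d51d41d31d21d11d014f14e14d14c14b14a14914814714614514414314214114017f17e17d17c17b17a17917817717617517417317217117016f16e16d16c16b16a16916816716616516416316216116015f15e15d15c15b15a15915815715615515415315215115010f10e10d10c10b10a10910810710610510410310210110013f13e13d13c13b13a13913813713613513413313213113012f12e12d12c12b12a12912812712612512412312212112011f11e11d11c11b11a11911811711611511411311211111008f08e08d08c08b08a0890880870860850840830820810800bf0be0bd0bc0bb0ba0b90b80b70b60b50b40b30b20b10b00af0ae0ad0ac0ab0aa0a90a80a70a60a50a40a30a20a10a009f09e09d09c09b09a0990980970960950940930920910900cf0ce0cd0cc0cb0ca0c90c80c70c60c50c40c30c20c10c00ff0fe0fd0fc0fb0fa0f90f80f70f60f50f40f30f20f10f00ef0ee0ed0ec0eb0ea0e90e80e70e60e50e40e30e20e10e00df0de0dd0dc0db0da0d90d80d70d60d50d40d30d20d10d004f04e04d04c04b04a04904804704604504404304204104007f07e07d07c07b07a07907807707607507407307207107006f06e06d06c06b06a06906806706606506406306206106005f05e05d05c05b05a05905805705605505405305205105000f00e00d00c00b00a00900800700600500400300200100003f03e03d03c03b03a03903803703603503403303203103002f02e02d02c02b02a02902802702602502402302202102001f01e01d01c01b01a019018017016015014013012011010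

/-- table of right multiplication by generator 5 -/
def T5 : Nat := 0xfdffdefddfdcfdbfdafd9fd8fd7fd6fd5fd4fd3fd2fd1fd0fcffcefcdfccfcbfcafc9fc8fc7fc6fc5fc4fc3fc2fc1fc0fffffeffdffcffbffaff9ff8ff7ff6ff5ff4ff3ff2ff1ff0feffeefedfecfebfeafe9fe8fe7fe6fe5fe4fe3fe2fe1fe0f9ff9ef9df9cf9bf9af99f98f97f96f95f94f93f92f91f90f8ff8ef8df8cf8bf8af89f88f87f86f85f84f83f82f81f80fbffbefbdfbcfbbfbafb9fb8fb7fb6fb5fb4fb3fb2fb1fb0faffaefadfacfabfaafa9fa8fa7fa6fa5fa4fa3fa2fa1fa0f5ff5ef5df5cf5bf5af59f58f57f56f55f54f53f52f51f50f4ff4ef4df4cf4bf4af49f48f47f46f45f44f43f42f41f40f7ff7ef7df7cf7bf7af79f78f77f76f75f74f73f72f71f70f6ff6ef6df6cf6bf6af69f68f67f66f65f64f63f62f61f60f1ff1ef1df1cf1bf1af19f18f17f16f15f14f13f12f11f10f0ff0ef0df0cf0bf0af09f08f07f06f05f04f03f02f01f00f3ff3ef3df3cf3bf3af39f38f37f36f35f34f33f32f31f30f2ff2ef2df2cf2bf2af29f28f27f26f25f24f23f22f21f20edfedeeddedcedbedaed9ed8ed7ed6ed5ed4ed3ed2ed1ed0ecfeceecdeccecbecaec9ec8ec7ec6ec5ec4ec3ec2e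c1ec0effefeefdefcefbefaef9ef8ef7ef6ef5ef4ef3ef2ef1ef0eefeeeeedeeceebeeaee9ee8ee7ee6ee5ee4ee3ee2ee1ee0e9fe9ee9de9ce9be9ae99e98e97e96e95e94e93e92e91e90e8fe8ee8de8ce8be8ae89e88e87e86e85e84e83e82e81e80ebfebeebdebcebbebaeb9eb8eb7eb6eb5eb4eb3eb2eb1eb0eafeaeeadeaceabeaaea9ea8ea7ea6ea5ea4ea3ea2ea1ea0e5fe5ee5de5ce5be5ae59e58e57e56e55e54e53e52e51e50e4fe4ee4de4ce4be4ae49e48e47e46e45e44e43e42e41e40e7fe7ee7de7ce7be7ae79e78e77e76e75e74e73e72e71e70e6fe6ee6de6ce6be6ae69e68e67e66e65e64e63e62e61e60e1fe1ee1de1ce1be1ae19e18e17e16e15e14e13e12e11e10e0fe0ee0de0ce0be0ae09e08e07e06e05e04e03e02e01e00e3fe3ee3de3ce3be3ae39e38e37e36e35e34e33e32e31e30e2fe2ee2de2ce2be2ae29e28e27e26e25e24e23e22e21e20ddfddedddddcddbddadd9dd8dd7dd6dd5dd4dd3dd2dd1dd0dcfdcedcddccdcbdcadc9dc8dc7dc6dc5dc4dc3dc2dc1dc0dffdfedfddfcdfbdfadf9df8df7df6df5df4df3df2df1df0defdeededdecdebdeade9de8de7de6de5de4de3de2de1de0d9fd9ed9dd9cd9bd9ad99d98d97d96d95d94d93d92d91d90d8fd8ed8dd8cd8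bd8ad89d88d87d86d85d84d83d82d81d80dbfdbedbddbcdbbdbadb9db8db7db6db5db4db3db2db1db0dafdaedaddacdabdaada9da8da7da6da5da4da3da2da1da0d5fd5ed5dd5cd5bd5ad59d58d57d56d55d54d53d52d51d50d4fd4ed4dd4cd4bd4ad49d48d47d46d45d44d43d42d41d40d7fd7ed7dd7cd7bd7ad79d78d77d76d75d74d73d72d71d70d6fd6ed6dd6cd6bd6ad69d68d67d66d65d64d63d62d61d60d1fd1ed1dd1cd1bd1ad19d18d17d16d15d14d13d12d11d10d0fd0ed0dd0cd0bd0ad09d08d07d06d05d04d03d02d01d00d3fd3ed3dd3cd3bd3ad39d38d37d36d35d34d33d32d31d30d2fd2ed2dd2cd2bd2ad29d28d27d26d25d24d23d22d21d20cdfcdecddcdccdbcdacd9cd8cd7cd6cd5cd4cd3cd2cd1cd0ccfcceccdcccccbccacc9cc8cc7cc6cc5cc4cc3cc2cc1cc0cffcfecfdcfccfbcfacf9cf8cf7cf6cf5cf4cf3cf2cf1cf0cefceecedceccebceace9ce8ce7ce6ce5ce4ce3ce2ce1ce0c9fc9ec9dc9cc9bc9ac99c98c97c96c95c94c93c92c91c90c8fc8ec8dc8cc8bc8ac89c88c87c86c85c84c83c82c81c80cbfcbecbdcbccbbcbacb9cb8cb7cb6cb5cb4cb3cb2cb1cb0cafcaecadcaccabcaaca9ca8ca7ca6ca5ca4ca3ca2ca1ca0c5fc5ec5dc5cc5bc5ac59c58c57c56c55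c54c53c52c51c50c4fc4ec4dc4cc4bc4ac49c48c47c46c45c44c43c42c41c40c7fc7ec7dc7cc7bc7ac79c78c77c76c75c74c73c72c71c70c6fc6ec6dc6cc6bc6ac69c68c67c66c65c64c63c62c61c60c1fc1ec1dc1cc1bc1ac19c18c17c16c15c14c13c12c11c10c0fc0ec0dc0cc0bc0ac09c08c07c06c05c04c03c02c01c00c3fc3ec3dc3cc3bc3ac39c38c37c36c35c34c33c32c31c30c2fc2ec2dc2cc2bc2ac29c28c27c26c25c24c23c22c21c20bdfbdebddbdcbdbbdabd9bd8bd7bd6bd5bd4bd3bd2bd1bd0bcfbcebcdbccbcbbcabc9bc8bc7bc6bc5bc4bc3bc2bc1bc0bffbfebfdbfcbfbbfabf9bf8bf7bf6bf5bf4bf3bf2bf1bf0befbeebedbecbebbeabe9be8be7be6be5be4be3be2be1be0b9fb9eb9db9cb9bb9ab99b98b97b96b95b94b93b92b91b90b8fb8eb8db8cb8bb8ab89b88b87b86b85b84b83b82b81b80bbfbbebbdbbcbbbbbabb9bb8bb7bb6bb5bb4bb3bb2bb1bb0bafbaebadbacbabbaaba9ba8ba7ba6ba5ba4ba3ba2ba1ba0b5fb5eb5db5cb5bb5ab59b58b57b56b55b54b53b52b51b50b4fb4eb4db4cb4bb4ab49b48b47b46b45b44b43b42b41b40b7fb7eb7db7cb7bb7ab79b78b77b76b75b74b73b72b71b70b6fb6eb6db6cb6bb6ab69b68b67b66b65b64b63b62b61b60b1fb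1eb1db1cb1bb1ab19b18b17b16b15b14b13b12b11b10b0fb0eb0db0cb0bb0ab09b08b07b06b05b04b03b02b01b00b3fb3eb3db3cb3bb3ab39b38b37b36b35b34b33b32b31b30b2fb2eb2db2cb2bb2ab29b28b27b26b25b24b23b22b21b20adfadeaddadcadbadaad9ad8ad7ad6ad5ad4ad3ad2ad1ad0acfaceacdaccacbacaac9ac8ac7ac6ac5ac4ac3ac2ac1ac0affafeafdafcafbafaaf9af8af7af6af5af4af3af2af1af0aefaeeaedaecaebaeaae9ae8ae7ae6ae5ae4ae3ae2ae1ae0a9fa9ea9da9ca9ba9aa99a98a97a96a95a94a93a92a91a90a8fa8ea8da8ca8ba8aa89a88a87a86a85a84a83a82a81a80abfabeabdabcabbabaab9ab8ab7ab6ab5ab4ab3ab2ab1ab0aafaaeaadaacaabaaaaa9aa8aa7aa6aa5aa4aa3aa2aa1aa0a5fa5ea5da5ca5ba5aa59a58a57a56a55a54a53a52a51a50a4fa4ea4da4ca4ba4aa49a48a47a46a45a44a43a42a41a40a7fa7ea7da7ca7ba7aa79a78a77a76a75a74a73a72a71a70a6fa6ea6da6ca6ba6aa69a68a67a66a65a64a63a62a61a60a1fa1ea1da1ca1ba1aa19a18a17a16a15a14a13a12a11a10a0fa0ea0da0ca0ba0aa09a08a07a06a05a04a03a02a01a00a3fa3ea3da3ca3ba3aa39a38a37a36a35a34a33a32a31a30a2fa2ea2da2ca2ba2aa29a2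8a27a26a25a24a23a22a21a209df9de9dd9dc9db9da9d99d89d79d69d59d49d39d29d19d09cf9ce9cd9cc9cb9ca9c99c89c79c69c59c49c39c29c19c09ff9fe9fd9fc9fb9fa9f99f89f79f69f59f49f39f29f19f09ef9ee9ed9ec9eb9ea9e99e89e79e69e59e49e39e29e19e099f99e99d99c99b99a99999899799699599499399299199098f98e98d98c98b98a9899889879869859849839829819809bf9be9bd9bc9bb9ba9b99b89b79b69b59b49b39b29b19b09af9ae9ad9ac9ab9aa9a99a89a79a69a59a49a39a29a19a095f95e95d95c95b95a95995895795695595495395295195094f94e94d94c94b94a94994894794694594494394294194097f97e97d97c97b97a97997897797697597497397297197096f96e96d96c96b96a96996896796696596496396296196091f91e91d91c91b91a91991891791691591491391291191090f90e90d90c90b90a90990890790690590490390290190093f93e93d93c93b93a93993893793693593493393293193092f92e92d92c92b92a9299289279269259249239229219208df8de8dd8dc8db8da8d98d88d78d68d58d48d38d28d18d08cf8ce8cd8cc8cb8ca8c98c88c78c68c58c48c38c28c18c08ff8fe8fd8fc8fb8fa8f98f88f78f68f58f48f38f2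8f18f08ef8ee8ed8ec8eb8ea8e98e88e78e68e58e48e38e28e18e089f89e89d89c89b89a89989889789689589489389289189088f88e88d88c88b88a8898888878868858848838828818808bf8be8bd8bc8bb8ba8b98b88b78b68b58b48b38b28b18b08af8ae8ad8ac8ab8aa8a98a88a78a68a58a48a38a28a18a085f85e85d85c85b85a85985885785685585485385285185084f84e84d84c84b84a84984884784684584484384284184087f87e87d87c87b87a87987887787687587487387287187086f86e86d86c86b86a86986886786686586486386286186081f81e81d81c81b81a81981881781681581481381281181080f80e80d80c80b80a80980880780680580480380280180083f83e83d83c83b83a83983883783683583483383283183082f82e82d82c82b82a8298288278268258248238228218207df7de7dd7dc7db7da7d97d87d77d67d57d47d37d27d17d07cf7ce7cd7cc7cb7ca7c97c87c77c67c57c47c37c27c17c07ff7fe7fd7fc7fb7fa7f97f87f77f67f57f47f37f27f17f07ef7ee7ed7ec7eb7ea7e97e87e77e67e57e47e37e27e17e079f79e79d79c79b79a79979879779679579479379279179078f78e78d78c78b78a7897887877867857847837827817807bf7be7bd7bc7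bb7ba7b97b87b77b67b57b47b37b27b17b07af7ae7ad7ac7ab7aa7a97a87a77a67a57a47a37a27a17a075f75e75d75c75b75a75975875775675575475375275175074f74e74d74c74b74a74974874774674574474374274174077f77e77d77c77b77a77977877777677577477377277177076f76e76d76c76b76a76976876776676576476376276176071f71e71d71c71b71a71971871771671571471371271171070f70e70d70c70b70a70970870770670570470370270170073f73e73d73c73b73a73973873773673573473373273173072f72e72d72c72b72a7297287277267257247237227217206df6de6dd6dc6db6da6d96d86d76d66d56d46d36d26d16d06cf6ce6cd6cc6cb6ca6c96c86c76c66c56c46c36c26c16c06ff6fe6fd6fc6fb6fa6f96f86f76f66f56f46f36f26f16f06ef6ee6ed6ec6eb6ea6e96e86e76e66e56e46e36e26e16e069f69e69d69c69b69a69969869769669569469369269169068f68e68d68c68b68a6896886876866856846836826816806bf6be6bd6bc6bb6ba6b96b86b76b66b56b46b36b26b16b06af6ae6ad6ac6ab6aa6a96a86a76a66a56a46a36a26a16a065f65e65d65c65b65a65965865765665565465365265165064f64e64d64c64b64a64964864764664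564464364264164067f67e67d67c67b67a67967867767667567467367267167066f66e66d66c66b66a66966866766666566466366266166061f61e61d61c61b61a61961861761661561461361261161060f60e60d60c60b60a60960860760660560460360260160063f63e63d63c63b63a63963863763663563463363263163062f62e62d62c62b62a6296286276266256246236226216205df5de5dd5dc5db5da5d95d85d75d65d55d45d35d25d15d05cf5ce5cd5cc5cb5ca5c95c85c75c65c55c45c35c25c15c05ff5fe5fd5fc5fb5fa5f95f85f75f65f55f45f35f25f15f05ef5ee5ed5ec5eb5ea5e95e85e75e65e55e45e35e25e15e059f59e59d59c59b59a59959859759659559459359259159058f58e58d58c58b58a5895885875865855845835825815805bf5be5bd5bc5bb5ba5b95b85b75b65b55b45b35b25b15b05af5ae5ad5ac5ab5aa5a95a85a75a65a55a45a35a25a15a055f55e55d55c55b55a55955855755655555455355255155054f54e54d54c54b54a54954854754654554454354254154057f57e57d57c57b57a57957857757657557457357257157056f56e56d56c56b56a56956856756656556456356256156051f51e51d51c51b51a51951851751651551451351251151050f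50e50d50c50b50a50950850750650550450350250150053f53e53d53c53b53a53953853753653553453353253153052f52e52d52c52b52a5295285275265255245235225215204df4de4dd4dc4db4da4d94d84d74d64d54d44d34d24d14d04cf4ce4cd4cc4cb4ca4c94c84c74c64c54c44c34c24c14c04ff4fe4fd4fc4fb4fa4f94f84f74f64f54f44f34f24f14f04ef4ee4ed4ec4eb4ea4e94e84e74e64e54e44e34e24e14e049f49e49d49c49b49a49949849749649549449349249149048f48e48d48c48b48a4894884874864854844834824814804bf4be4bd4bc4bb4ba4b94b84b74b64b54b44b34b24b14b04af4ae4ad4ac4ab4aa4a94a84a74a64a54a44a34a24a14a045f45e45d45c45b45a45945845745645545445345245145044f44e44d44c44b44a44944844744644544444344244144047f47e47d47c47b47a47947847747647547447347247147046f46e46d46c46b46a46946846746646546446346246146041f41e41d41c41b41a41941841741641541441341241141040f40e40d40c40b40a40940840740640540440340240140043f43e43d43c43b43a43943843743643543443343243143042f42e42d42c42b42a4294284274264254244234224214203df3de3dd3dc3db3da3d93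d83d73d63d53d43d33d23d13d03cf3ce3cd3cc3cb3ca3c93c83c73c63c53c43c33c23c13c03ff3fe3fd3fc3fb3fa3f93f83f73f63f53f43f33f23f13f03ef3ee3ed3ec3eb3ea3e93e83e73e63e53e43e33e23e13e039f39e39d39c39b39a39939839739639539439339239139038f38e38d38c38b38a3893883873863853843833823813803bf3be3bd3bc3bb3ba3b93b83b73b63b53b43b33b23b13b03af3ae3ad3ac3ab3aa3a93a83a73a63a53a43a33a23a13a035f35e35d35c35b35a35935835735635535435335235135034f34e34d34c34b34a34934834734634534434334234134037f37e37d37c37b37a37937837737637537437337237137036f36e36d36c36b36a36936836736636536436336236136031f31e31d31c31b31a31931831731631531431331231131030f30e30d30c30b30a30930830730630530430330230130033f33e33d33c33b33a33933833733633533433333233133032f32e32d32c32b32a3293283273263253243233223213202df2de2dd2dc2db2da2d92d82d72d62d52d42d32d22d12d02cf2ce2cd2cc2cb2ca2c92c82c72c62c52c42c32c22c12c02ff2fe2fd2fc2fb2fa2f92f82f72f62f52f42f32f22f12f02ef2ee2ed2ec2eb2ea2e92e82e72e62e52e42e32e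22e12e029f29e29d29c29b29a29929829729629529429329229129028f28e28d28c28b28a2892882872862852842832822812802bf2be2bd2bc2bb2ba2b92b82b72b62b52b42b32b22b12b02af2ae2ad2ac2ab2aa2a92a82a72a62a52a42a32a22a12a025f25e25d25c25b25a25925825725625525425325225125024f24e24d24c24b24a24924824724624524424324224124027f27e27d27c27b27a27927827727627527427327227127026f26e26d26c26b26a26926826726626526426326226126021f21e21d21c21b21a21921821721621521421321221121020f20e20d20c20b20a20920820720620520420320220120023f23e23d23c23b23a23923823723623523423323223123022f22e22d22c22b22a2292282272262252242232222212201df1de1dd1dc1db1da1d91d81d71d61d51d41d31d21d11d01cf1ce1cd1cc1cb1ca1c91c81c71c61c51c41c31c21c11c01ff1fe1fd1fc1fb1fa1f91f81f71f61f51f41f31f21f11f01ef1ee1ed1ec1eb1ea1e91e81e71e61e51e41e31e21e11e019f19e19d19c19b19a19919819719619519419319219119018f18e18d18c18b18a1891881871861851841831821811801bf1be1bd1bc1bb1ba1b91b81b71b61b51b41b31b21b11b01af1ae1ad1ac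1ab1aa1a91a81a71a61a51a41a31a21a11a015f15e15d15c15b15a15915815715615515415315215115014f14e14d14c14b14a14914814714614514414314214114017f17e17d17c17b17a17917817717617517417317217117016f16e16d16c16b16a16916816716616516416316216116011f11e11d11c11b11a11911811711611511411311211111010f10e10d10c10b10a10910810710610510410310210110013f13e13d13c13b13a13913813713613513413313213113012f12e12d12c12b12a1291281271261251241231221211200df0de0dd0dc0db0da0d90d80d70d60d50d40d30d20d10d00cf0ce0cd0cc0cb0ca0c90c80c70c60c50c40c30c20c10c00ff0fe0fd0fc0fb0fa0f90f80f70f60f50f40f30f20f10f00ef0ee0ed0ec0eb0ea0e90e80e70e60e50e40e30e20e10e009f09e09d09c09b09a09909809709609509409309209109008f08e08d08c08b08a0890880870860850840830820810800bf0be0bd0bc0bb0ba0b90b80b70b60b50b40b30b20b10b00af0ae0ad0ac0ab0aa0a90a80a70a60a50a40a30a20a10a005f05e05d05c05b05a05905805705605505405305205105004f04e04d04c04b04a04904804704604504404304204104007f07e07d07c07b07a07907807707607507407307207107006f06e06d06c06b06a06906806706606506406306206106001f01e01d01c01b01a01901801701601501401301201101000f00e00d00c00b00a00900800700600500400300200100003f03e03d03c03b03a03903803703603503403303203103002f02e02d02c02b02a029028027026025024023022021020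

/-- table of right multiplication by generator 6 -/
def T6 : Nat := 0xebfebeebdebcebbebaeb9eb8eb7eb6eb5eb4eb3eb2eb1eb0eafeaeeadeaceabeaaea9ea8ea7ea6ea5ea4ea3ea2ea1ea0e9fe9ee9de9ce9be9ae99e98e97e96e95e94e93e92e91e90e8fe8ee8de8ce8be8ae89e88e87e86e85e84e83e82e81e80effefeefdefcefbefaef9ef8ef7ef6ef5ef4ef3ef2ef1ef0eefeeeeedeeceebeeaee9ee8ee7ee6ee5ee4ee3ee2ee1ee0edfedeeddedcedbedaed9ed8ed7ed6ed5ed4ed3ed2ed1ed0ecfeceecdeccecbecaec9ec8ec7ec6ec5ec4ec3ec2ec1ec0e3fe3ee3de3ce3be3ae39e38e37e36e35e34e33e32e31e30e2fe2ee2de2ce2be2ae29e28e27e26e25e24e23e22e21e20e1fe1ee1de1ce1be1ae19e18e17e16e15e14e13e12e11e10e0fe0ee0de0ce0be0ae09e08e07e06e05e04e03e02e01e00e7fe7ee7de7ce7be7ae79e78e77e76e75e74e73e72e71e70e6fe6ee6de6ce6be6ae69e68e67e66e65e64e63e62e61e60e5fe5ee5de5ce5be5ae59e58e57e56e55e54e53e52e51e50e4fe4ee4de4ce4be4ae49e48e47e46e45e44e43e42e41e40fbffbefbdfbcfbbfbafb9fb8fb7fb6fb5fb4fb3fb2fb1fb0faffaefadfacfabfaafa9fa8fa7fa6fa5fa4fa3fa2f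a1fa0f9ff9ef9df9cf9bf9af99f98f97f96f95f94f93f92f91f90f8ff8ef8df8cf8bf8af89f88f87f86f85f84f83f82f81f80fffffeffdffcffbffaff9ff8ff7ff6ff5ff4ff3ff2ff1ff0feffeefedfecfebfeafe9fe8fe7fe6fe5fe4fe3fe2fe1fe0fdffdefddfdcfdbfdafd9fd8fd7fd6fd5fd4fd3fd2fd1fd0fcffcefcdfccfcbfcafc9fc8fc7fc6fc5fc4fc3fc2fc1fc0f3ff3ef3df3cf3bf3af39f38f37f36f35f34f33f32f31f30f2ff2ef2df2cf2bf2af29f28f27f26f25f24f23f22f21f20f1ff1ef1df1cf1bf1af19f18f17f16f15f14f13f12f11f10f0ff0ef0df0cf0bf0af09f08f07f06f05f04f03f02f01f00f7ff7ef7df7cf7bf7af79f78f77f76f75f74f73f72f71f70f6ff6ef6df6cf6bf6af69f68f67f66f65f64f63f62f61f60f5ff5ef5df5cf5bf5af59f58f57f56f55f54f53f52f51f50f4ff4ef4df4cf4bf4af49f48f47f46f45f44f43f42f41f40cbfcbecbdcbccbbcbacb9cb8cb7cb6cb5cb4cb3cb2cb1cb0cafcaecadcaccabcaaca9ca8ca7ca6ca5ca4ca3ca2ca1ca0c9fc9ec9dc9cc9bc9ac99c98c97c96c95c94c93c92c91c90c8fc8ec8dc8cc8bc8ac89c88c87c86c85c84c83c82c81c80cffcfecfdcfccfbcfacf9cf8cf7cf6cf5cf4cf3cf2cf1cf0cefceecedcecce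bceace9ce8ce7ce6ce5ce4ce3ce2ce1ce0cdfcdecddcdccdbcdacd9cd8cd7cd6cd5cd4cd3cd2cd1cd0ccfcceccdcccccbccacc9cc8cc7cc6cc5cc4cc3cc2cc1cc0c3fc3ec3dc3cc3bc3ac39c38c37c36c35c34c33c32c31c30c2fc2ec2dc2cc2bc2ac29c28c27c26c25c24c23c22c21c20c1fc1ec1dc1cc1bc1ac19c18c17c16c15c14c13c12c11c10c0fc0ec0dc0cc0bc0ac09c08c07c06c05c04c03c02c01c00c7fc7ec7dc7cc7bc7ac79c78c77c76c75c74c73c72c71c70c6fc6ec6dc6cc6bc6ac69c68c67c66c65c64c63c62c61c60c5fc5ec5dc5cc5bc5ac59c58c57c56c55c54c53c52c51c50c4fc4ec4dc4cc4bc4ac49c48c47c46c45c44c43c42c41c40dbfdbedbddbcdbbdbadb9db8db7db6db5db4db3db2db1db0dafdaedaddacdabdaada9da8da7da6da5da4da3da2da1da0d9fd9ed9dd9cd9bd9ad99d98d97d96d95d94d93d92d91d90d8fd8ed8dd8cd8bd8ad89d88d87d86d85d84d83d82d81d80dffdfedfddfcdfbdfadf9df8df7df6df5df4df3df2df1df0defdeededdecdebdeade9de8de7de6de5de4de3de2de1de0ddfddedddddcddbddadd9dd8dd7dd6dd5dd4dd3dd2dd1dd0dcfdcedcddccdcbdcadc9dc8dc7dc6dc5dc4dc3dc2dc1dc0d3fd3ed3dd3cd3bd3ad39d38d37d36d35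d34d33d32d31d30d2fd2ed2dd2cd2bd2ad29d28d27d26d25d24d23d22d21d20d1fd1ed1dd1cd1bd1ad19d18d17d16d15d14d13d12d11d10d0fd0ed0dd0cd0bd0ad09d08d07d06d05d04d03d02d01d00d7fd7ed7dd7cd7bd7ad79d78d77d76d75d74d73d72d71d70d6fd6ed6dd6cd6bd6ad69d68d67d66d65d64d63d62d61d60d5fd5ed5dd5cd5bd5ad59d58d57d56d55d54d53d52d51d50d4fd4ed4dd4cd4bd4ad49d48d47d46d45d44d43d42d41d40bbfbbebbdbbcbbbbbabb9bb8bb7bb6bb5bb4bb3bb2bb1bb0bafbaebadbacbabbaaba9ba8ba7ba6ba5ba4ba3ba2ba1ba0b9fb9eb9db9cb9bb9ab99b98b97b96b95b94b93b92b91b90b8fb8eb8db8cb8bb8ab89b88b87b86b85b84b83b82b81b80bffbfebfdbfcbfbbfabf9bf8bf7bf6bf5bf4bf3bf2bf1bf0befbeebedbecbebbeabe9be8be7be6be5be4be3be2be1be0bdfbdebddbdcbdbbdabd9bd8bd7bd6bd5bd4bd3bd2bd1bd0bcfbcebcdbccbcbbcabc9bc8bc7bc6bc5bc4bc3bc2bc1bc0b3fb3eb3db3cb3bb3ab39b38b37b36b35b34b33b32b31b30b2fb2eb2db2cb2bb2ab29b28b27b26b25b24b23b22b21b20b1fb1eb1db1cb1bb1ab19b18b17b16b15b14b13b12b11b10b0fb0eb0db0cb0bb0ab09b08b07b06b05b04b03b02b01b00b7fb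7eb7db7cb7bb7ab79b78b77b76b75b74b73b72b71b70b6fb6eb6db6cb6bb6ab69b68b67b66b65b64b63b62b61b60b5fb5eb5db5cb5bb5ab59b58b57b56b55b54b53b52b51b50b4fb4eb4db4cb4bb4ab49b48b47b46b45b44b43b42b41b40abfabeabdabcabbabaab9ab8ab7ab6ab5ab4ab3ab2ab1ab0aafaaeaadaacaabaaaaa9aa8aa7aa6aa5aa4aa3aa2aa1aa0a9fa9ea9da9ca9ba9aa99a98a97a96a95a94a93a92a91a90a8fa8ea8da8ca8ba8aa89a88a87a86a85a84a83a82a81a80affafeafdafcafbafaaf9af8af7af6af5af4af3af2af1af0aefaeeaedaecaebaeaae9ae8ae7ae6ae5ae4ae3ae2ae1ae0adfadeaddadcadbadaad9ad8ad7ad6ad5ad4ad3ad2ad1ad0acfaceacdaccacbacaac9ac8ac7ac6ac5ac4ac3ac2ac1ac0a3fa3ea3da3ca3ba3aa39a38a37a36a35a34a33a32a31a30a2fa2ea2da2ca2ba2aa29a28a27a26a25a24a23a22a21a20a1fa1ea1da1ca1ba1aa19a18a17a16a15a14a13a12a11a10a0fa0ea0da0ca0ba0aa09a08a07a06a05a04a03a02a01a00a7fa7ea7da7ca7ba7aa79a78a77a76a75a74a73a72a71a70a6fa6ea6da6ca6ba6aa69a68a67a66a65a64a63a62a61a60a5fa5ea5da5ca5ba5aa59a58a57a56a55a54a53a52a51a50a4fa4ea4da4ca4ba4aa49a4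8a47a46a45a44a43a42a41a409bf9be9bd9bc9bb9ba9b99b89b79b69b59b49b39b29b19b09af9ae9ad9ac9ab9aa9a99a89a79a69a59a49a39a29a19a099f99e99d99c99b99a99999899799699599499399299199098f98e98d98c98b98a9899889879869859849839829819809ff9fe9fd9fc9fb9fa9f99f89f79f69f59f49f39f29f19f09ef9ee9ed9ec9eb9ea9e99e89e79e69e59e49e39e29e19e09df9de9dd9dc9db9da9d99d89d79d69d59d49d39d29d19d09cf9ce9cd9cc9cb9ca9c99c89c79c69c59c49c39c29c19c093f93e93d93c93b93a93993893793693593493393293193092f92e92d92c92b92a92992892792692592492392292192091f91e91d91c91b91a91991891791691591491391291191090f90e90d90c90b90a90990890790690590490390290190097f97e97d97c97b97a97997897797697597497397297197096f96e96d96c96b96a96996896796696596496396296196095f95e95d95c95b95a95995895795695595495395295195094f94e94d94c94b94a9499489479469459449439429419408bf8be8bd8bc8bb8ba8b98b88b78b68b58b48b38b28b18b08af8ae8ad8ac8ab8aa8a98a88a78a68a58a48a38a28a18a089f89e89d89c89b89a899898897896895894893892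89189088f88e88d88c88b88a8898888878868858848838828818808ff8fe8fd8fc8fb8fa8f98f88f78f68f58f48f38f28f18f08ef8ee8ed8ec8eb8ea8e98e88e78e68e58e48e38e28e18e08df8de8dd8dc8db8da8d98d88d78d68d58d48d38d28d18d08cf8ce8cd8cc8cb8ca8c98c88c78c68c58c48c38c28c18c083f83e83d83c83b83a83983883783683583483383283183082f82e82d82c82b82a82982882782682582482382282182081f81e81d81c81b81a81981881781681581481381281181080f80e80d80c80b80a80980880780680580480380280180087f87e87d87c87b87a87987887787687587487387287187086f86e86d86c86b86a86986886786686586486386286186085f85e85d85c85b85a85985885785685585485385285185084f84e84d84c84b84a8498488478468458448438428418406bf6be6bd6bc6bb6ba6b96b86b76b66b56b46b36b26b16b06af6ae6ad6ac6ab6aa6a96a86a76a66a56a46a36a26a16a069f69e69d69c69b69a69969869769669569469369269169068f68e68d68c68b68a6896886876866856846836826816806ff6fe6fd6fc6fb6fa6f96f86f76f66f56f46f36f26f16f06ef6ee6ed6ec6eb6ea6e96e86e76e66e56e46e36e26e16e06df6de6dd6dc6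db6da6d96d86d76d66d56d46d36d26d16d06cf6ce6cd6cc6cb6ca6c96c86c76c66c56c46c36c26c16c063f63e63d63c63b63a63963863763663563463363263163062f62e62d62c62b62a62962862762662562462362262162061f61e61d61c61b61a61961861761661561461361261161060f60e60d60c60b60a60960860760660560460360260160067f67e67d67c67b67a67967867767667567467367267167066f66e66d66c66b66a66966866766666566466366266166065f65e65d65c65b65a65965865765665565465365265165064f64e64d64c64b64a6496486476466456446436426416407bf7be7bd7bc7bb7ba7b97b87b77b67b57b47b37b27b17b07af7ae7ad7ac7ab7aa7a97a87a77a67a57a47a37a27a17a079f79e79d79c79b79a79979879779679579479379279179078f78e78d78c78b78a7897887877867857847837827817807ff7fe7fd7fc7fb7fa7f97f87f77f67f57f47f37f27f17f07ef7ee7ed7ec7eb7ea7e97e87e77e67e57e47e37e27e17e07df7de7dd7dc7db7da7d97d87d77d67d57d47d37d27d17d07cf7ce7cd7cc7cb7ca7c97c87c77c67c57c47c37c27c17c073f73e73d73c73b73a73973873773673573473373273173072f72e72d72c72b72a72972872772672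572472372272172071f71e71d71c71b71a71971871771671571471371271171070f70e70d70c70b70a70970870770670570470370270170077f77e77d77c77b77a77977877777677577477377277177076f76e76d76c76b76a76976876776676576476376276176075f75e75d75c75b75a75975875775675575475375275175074f74e74d74c74b74a7497487477467457447437427417404bf4be4bd4bc4bb4ba4b94b84b74b64b54b44b34b24b14b04af4ae4ad4ac4ab4aa4a94a84a74a64a54a44a34a24a14a049f49e49d49c49b49a49949849749649549449349249149048f48e48d48c48b48a4894884874864854844834824814804ff4fe4fd4fc4fb4fa4f94f84f74f64f54f44f34f24f14f04ef4ee4ed4ec4eb4ea4e94e84e74e64e54e44e34e24e14e04df4de4dd4dc4db4da4d94d84d74d64d54d44d34d24d14d04cf4ce4cd4cc4cb4ca4c94c84c74c64c54c44c34c24c14c043f43e43d43c43b43a43943843743643543443343243143042f42e42d42c42b42a42942842742642542442342242142041f41e41d41c41b41a41941841741641541441341241141040f40e40d40c40b40a40940840740640540440340240140047f47e47d47c47b47a47947847747647547447347247147046f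46e46d46c46b46a46946846746646546446346246146045f45e45d45c45b45a45945845745645545445345245145044f44e44d44c44b44a4494484474464454444434424414405bf5be5bd5bc5bb5ba5b95b85b75b65b55b45b35b25b15b05af5ae5ad5ac5ab5aa5a95a85a75a65a55a45a35a25a15a059f59e59d59c59b59a59959859759659559459359259159058f58e58d58c58b58a5895885875865855845835825815805ff5fe5fd5fc5fb5fa5f95f85f75f65f55f45f35f25f15f05ef5ee5ed5ec5eb5ea5e95e85e75e65e55e45e35e25e15e05df5de5dd5dc5db5da5d95d85d75d65d55d45d35d25d15d05cf5ce5cd5cc5cb5ca5c95c85c75c65c55c45c35c25c15c053f53e53d53c53b53a53953853753653553453353253153052f52e52d52c52b52a52952852752652552452352252152051f51e51d51c51b51a51951851751651551451351251151050f50e50d50c50b50a50950850750650550450350250150057f57e57d57c57b57a57957857757657557457357257157056f56e56d56c56b56a56956856756656556456356256156055f55e55d55c55b55a55955855755655555455355255155054f54e54d54c54b54a5495485475465455445435425415403bf3be3bd3bc3bb3ba3b93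b83b73b63b53b43b33b23b13b03af3ae3ad3ac3ab3aa3a93a83a73a63a53a43a33a23a13a039f39e39d39c39b39a39939839739639539439339239139038f38e38d38c38b38a3893883873863853843833823813803ff3fe3fd3fc3fb3fa3f93f83f73f63f53f43f33f23f13f03ef3ee3ed3ec3eb3ea3e93e83e73e63e53e43e33e23e13e03df3de3dd3dc3db3da3d93d83d73d63d53d43d33d23d13d03cf3ce3cd3cc3cb3ca3c93c83c73c63c53c43c33c23c13c033f33e33d33c33b33a33933833733633533433333233133032f32e32d32c32b32a32932832732632532432332232132031f31e31d31c31b31a31931831731631531431331231131030f30e30d30c30b30a30930830730630530430330230130037f37e37d37c37b37a37937837737637537437337237137036f36e36d36c36b36a36936836736636536436336236136035f35e35d35c35b35a35935835735635535435335235135034f34e34d34c34b34a3493483473463453443433423413402bf2be2bd2bc2bb2ba2b92b82b72b62b52b42b32b22b12b02af2ae2ad2ac2ab2aa2a92a82a72a62a52a42a32a22a12a029f29e29d29c29b29a29929829729629529429329229129028f28e28d28c28b28a28928828728628528428328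22812802ff2fe2fd2fc2fb2fa2f92f82f72f62f52f42f32f22f12f02ef2ee2ed2ec2eb2ea2e92e82e72e62e52e42e32e22e12e02df2de2dd2dc2db2da2d92d82d72d62d52d42d32d22d12d02cf2ce2cd2cc2cb2ca2c92c82c72c62c52c42c32c22c12c023f23e23d23c23b23a23923823723623523423323223123022f22e22d22c22b22a22922822722622522422322222122021f21e21d21c21b21a21921821721621521421321221121020f20e20d20c20b20a20920820720620520420320220120027f27e27d27c27b27a27927827727627527427327227127026f26e26d26c26b26a26926826726626526426326226126025f25e25d25c25b25a25925825725625525425325225125024f24e24d24c24b24a2492482472462452442432422412401bf1be1bd1bc1bb1ba1b91b81b71b61b51b41b31b21b11b01af1ae1ad1ac1ab1aa1a91a81a71a61a51a41a31a21a11a019f19e19d19c19b19a19919819719619519419319219119018f18e18d18c18b18a1891881871861851841831821811801ff1fe1fd1fc1fb1fa1f91f81f71f61f51f41f31f21f11f01ef1ee1ed1ec1eb1ea1e91e81e71e61e51e41e31e21e11e01df1de1dd1dc1db1da1d91d81d71d61d51d41d31d21d11d01cf1ce1cd1cc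1cb1ca1c91c81c71c61c51c41c31c21c11c013f13e13d13c13b13a13913813713613513413313213113012f12e12d12c12b12a12912812712612512412312212112011f11e11d11c11b11a11911811711611511411311211111010f10e10d10c10b10a10910810710610510410310210110017f17e17d17c17b17a17917817717617517417317217117016f16e16d16c16b16a16916816716616516416316216116015f15e15d15c15b15a15915815715615515415315215115014f14e14d14c14b14a1491481471461451441431421411400bf0be0bd0bc0bb0ba0b90b80b70b60b50b40b30b20b10b00af0ae0ad0ac0ab0aa0a90a80a70a60a50a40a30a20a10a009f09e09d09c09b09a09909809709609509409309209109008f08e08d08c08b08a0890880870860850840830820810800ff0fe0fd0fc0fb0fa0f90f80f70f60f50f40f30f20f10f00ef0ee0ed0ec0eb0ea0e90e80e70e60e50e40e30e20e10e00df0de0dd0dc0db0da0d90d80d70d60d50d40d30d20d10d00cf0ce0cd0cc0cb0ca0c90c80c70c60c50c40c30c20c10c003f03e03d03c03b03a03903803703603503403303203103002f02e02d02c02b02a02902802702602502402302202102001f01e01d01c01b01a01901801701601501401301201101000f00e00d00c00b00a00900800700600500400300200100007f07e07d07c07b07a07907807707607507407307207107006f06e06d06c06b06a06906806706606506406306206106005f05e05d05c05b05a05905805705605505405305205105004f04e04d04c04b04a049048047046045044043042041040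

/-- table of right multiplication by generator 7 -/
def T7 : Nat := 0xc7fc7ec7dc7cc7bc7ac79c78c77c76c75c74c73c72c71c70c6fc6ec6dc6cc6bc6ac69c68c67c66c65c64c63c62c61c60c5fc5ec5dc5cc5bc5ac59c58c57c56c55c54c53c52c51c50c4fc4ec4dc4cc4bc4ac49c48c47c46c45c44c43c42c41c40c3fc3ec3dc3cc3bc3ac39c38c37c36c35c34c33c32c31c30c2fc2ec2dc2cc2bc2ac29c28c27c26c25c24c23c22c21c20c1fc1ec1dc1cc1bc1ac19c18c17c16c15c14c13c12c11c10c0fc0ec0dc0cc0bc0ac09c08c07c06c05c04c03c02c01c00dffdfedfddfcdfbdfadf9df8df7df6df5df4df3df2df1df0defdeededdecdebdeade9de8de7de6de5de4de3de2de1de0ddfddedddddcddbddadd9dd8dd7dd6dd5dd4dd3dd2dd1dd0dcfdcedcddccdcbdcadc9dc8dc7dc6dc5dc4dc3dc2dc1dc0dbfdbedbddbcdbbdbadb9db8db7db6db5db4db3db2db1db0dafdaedaddacdabdaada9da8da7da6da5da4da3da2da1da0d9fd9ed9dd9cd9bd9ad99d98d97d96d95d94d93d92d91d90d8fd8ed8dd8cd8bd8ad89d88d87d86d85d84d83d82d81d80d7fd7ed7dd7cd7bd7ad79d78d77d76d75d74d73d72d71d70d6fd6ed6dd6cd6bd6ad69d68d67d66d65d64d63d62d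61d60d5fd5ed5dd5cd5bd5ad59d58d57d56d55d54d53d52d51d50d4fd4ed4dd4cd4bd4ad49d48d47d46d45d44d43d42d41d40d3fd3ed3dd3cd3bd3ad39d38d37d36d35d34d33d32d31d30d2fd2ed2dd2cd2bd2ad29d28d27d26d25d24d23d22d21d20d1fd1ed1dd1cd1bd1ad19d18d17d16d15d14d13d12d11d10d0fd0ed0dd0cd0bd0ad09d08d07d06d05d04d03d02d01d00cffcfecfdcfccfbcfacf9cf8cf7cf6cf5cf4cf3cf2cf1cf0cefceecedceccebceace9ce8ce7ce6ce5ce4ce3ce2ce1ce0cdfcdecddcdccdbcdacd9cd8cd7cd6cd5cd4cd3cd2cd1cd0ccfcceccdcccccbccacc9cc8cc7cc6cc5cc4cc3cc2cc1cc0cbfcbecbdcbccbbcbacb9cb8cb7cb6cb5cb4cb3cb2cb1cb0cafcaecadcaccabcaaca9ca8ca7ca6ca5ca4ca3ca2ca1ca0c9fc9ec9dc9cc9bc9ac99c98c97c96c95c94c93c92c91c90c8fc8ec8dc8cc8bc8ac89c88c87c86c85c84c83c82c81c80e7fe7ee7de7ce7be7ae79e78e77e76e75e74e73e72e71e70e6fe6ee6de6ce6be6ae69e68e67e66e65e64e63e62e61e60e5fe5ee5de5ce5be5ae59e58e57e56e55e54e53e52e51e50e4fe4ee4de4ce4be4ae49e48e47e46e45e44e43e42e41e40e3fe3ee3de3ce3be3ae39e38e37e36e35e34e33e32e31e30e2fe2ee2de2ce2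be2ae29e28e27e26e25e24e23e22e21e20e1fe1ee1de1ce1be1ae19e18e17e16e15e14e13e12e11e10e0fe0ee0de0ce0be0ae09e08e07e06e05e04e03e02e01e00fffffeffdffcffbffaff9ff8ff7ff6ff5ff4ff3ff2ff1ff0feffeefedfecfebfeafe9fe8fe7fe6fe5fe4fe3fe2fe1fe0fdffdefddfdcfdbfdafd9fd8fd7fd6fd5fd4fd3fd2fd1fd0fcffcefcdfccfcbfcafc9fc8fc7fc6fc5fc4fc3fc2fc1fc0fbffbefbdfbcfbbfbafb9fb8fb7fb6fb5fb4fb3fb2fb1fb0faffaefadfacfabfaafa9fa8fa7fa6fa5fa4fa3fa2fa1fa0f9ff9ef9df9cf9bf9af99f98f97f96f95f94f93f92f91f90f8ff8ef8df8cf8bf8af89f88f87f86f85f84f83f82f81f80f7ff7ef7df7cf7bf7af79f78f77f76f75f74f73f72f71f70f6ff6ef6df6cf6bf6af69f68f67f66f65f64f63f62f61f60f5ff5ef5df5cf5bf5af59f58f57f56f55f54f53f52f51f50f4ff4ef4df4cf4bf4af49f48f47f46f45f44f43f42f41f40f3ff3ef3df3cf3bf3af39f38f37f36f35f34f33f32f31f30f2ff2ef2df2cf2bf2af29f28f27f26f25f24f23f22f21f20f1ff1ef1df1cf1bf1af19f18f17f16f15f14f13f12f11f10f0ff0ef0df0cf0bf0af09f08f07f06f05f04f03f02f01f00effefeefdefcefbefaef9ef8ef7ef6ef5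ef4ef3ef2ef1ef0eefeeeeedeeceebeeaee9ee8ee7ee6ee5ee4ee3ee2ee1ee0edfedeeddedcedbedaed9ed8ed7ed6ed5ed4ed3ed2ed1ed0ecfeceecdeccecbecaec9ec8ec7ec6ec5ec4ec3ec2ec1ec0ebfebeebdebcebbebaeb9eb8eb7eb6eb5eb4eb3eb2eb1eb0eafeaeeadeaceabeaaea9ea8ea7ea6ea5ea4ea3ea2ea1ea0e9fe9ee9de9ce9be9ae99e98e97e96e95e94e93e92e91e90e8fe8ee8de8ce8be8ae89e88e87e86e85e84e83e82e81e80a7fa7ea7da7ca7ba7aa79a78a77a76a75a74a73a72a71a70a6fa6ea6da6ca6ba6aa69a68a67a66a65a64a63a62a61a60a5fa5ea5da5ca5ba5aa59a58a57a56a55a54a53a52a51a50a4fa4ea4da4ca4ba4aa49a48a47a46a45a44a43a42a41a40a3fa3ea3da3ca3ba3aa39a38a37a36a35a34a33a32a31a30a2fa2ea2da2ca2ba2aa29a28a27a26a25a24a23a22a21a20a1fa1ea1da1ca1ba1aa19a18a17a16a15a14a13a12a11a10a0fa0ea0da0ca0ba0aa09a08a07a06a05a04a03a02a01a00bffbfebfdbfcbfbbfabf9bf8bf7bf6bf5bf4bf3bf2bf1bf0befbeebedbecbebbeabe9be8be7be6be5be4be3be2be1be0bdfbdebddbdcbdbbdabd9bd8bd7bd6bd5bd4bd3bd2bd1bd0bcfbcebcdbccbcbbcabc9bc8bc7bc6bc5bc4bc3bc2bc1bc0bbfb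bebbdbbcbbbbbabb9bb8bb7bb6bb5bb4bb3bb2bb1bb0bafbaebadbacbabbaaba9ba8ba7ba6ba5ba4ba3ba2ba1ba0b9fb9eb9db9cb9bb9ab99b98b97b96b95b94b93b92b91b90b8fb8eb8db8cb8bb8ab89b88b87b86b85b84b83b82b81b80b7fb7eb7db7cb7bb7ab79b78b77b76b75b74b73b72b71b70b6fb6eb6db6cb6bb6ab69b68b67b66b65b64b63b62b61b60b5fb5eb5db5cb5bb5ab59b58b57b56b55b54b53b52b51b50b4fb4eb4db4cb4bb4ab49b48b47b46b45b44b43b42b41b40b3fb3eb3db3cb3bb3ab39b38b37b36b35b34b33b32b31b30b2fb2eb2db2cb2bb2ab29b28b27b26b25b24b23b22b21b20b1fb1eb1db1cb1bb1ab19b18b17b16b15b14b13b12b11b10b0fb0eb0db0cb0bb0ab09b08b07b06b05b04b03b02b01b00affafeafdafcafbafaaf9af8af7af6af5af4af3af2af1af0aefaeeaedaecaebaeaae9ae8ae7ae6ae5ae4ae3ae2ae1ae0adfadeaddadcadbadaad9ad8ad7ad6ad5ad4ad3ad2ad1ad0acfaceacdaccacbacaac9ac8ac7ac6ac5ac4ac3ac2ac1ac0abfabeabdabcabbabaab9ab8ab7ab6ab5ab4ab3ab2ab1ab0aafaaeaadaacaabaaaaa9aa8aa7aa6aa5aa4aa3aa2aa1aa0a9fa9ea9da9ca9ba9aa99a98a97a96a95a94a93a92a91a90a8fa8ea8da8ca8ba8aa89a8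8a87a86a85a84a83a82a81a8087f87e87d87c87b87a87987887787687587487387287187086f86e86d86c86b86a86986886786686586486386286186085f85e85d85c85b85a85985885785685585485385285185084f84e84d84c84b84a84984884784684584484384284184083f83e83d83c83b83a83983883783683583483383283183082f82e82d82c82b82a82982882782682582482382282182081f81e81d81c81b81a81981881781681581481381281181080f80e80d80c80b80a8098088078068058048038028018009ff9fe9fd9fc9fb9fa9f99f89f79f69f59f49f39f29f19f09ef9ee9ed9ec9eb9ea9e99e89e79e69e59e49e39e29e19e09df9de9dd9dc9db9da9d99d89d79d69d59d49d39d29d19d09cf9ce9cd9cc9cb9ca9c99c89c79c69c59c49c39c29c19c09bf9be9bd9bc9bb9ba9b99b89b79b69b59b49b39b29b19b09af9ae9ad9ac9ab9aa9a99a89a79a69a59a49a39a29a19a099f99e99d99c99b99a99999899799699599499399299199098f98e98d98c98b98a98998898798698598498398298198097f97e97d97c97b97a97997897797697597497397297197096f96e96d96c96b96a96996896796696596496396296196095f95e95d95c95b95a959958957956955954953952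95195094f94e94d94c94b94a94994894794694594494394294194093f93e93d93c93b93a93993893793693593493393293193092f92e92d92c92b92a92992892792692592492392292192091f91e91d91c91b91a91991891791691591491391291191090f90e90d90c90b90a9099089079069059049039029019008ff8fe8fd8fc8fb8fa8f98f88f78f68f58f48f38f28f18f08ef8ee8ed8ec8eb8ea8e98e88e78e68e58e48e38e28e18e08df8de8dd8dc8db8da8d98d88d78d68d58d48d38d28d18d08cf8ce8cd8cc8cb8ca8c98c88c78c68c58c48c38c28c18c08bf8be8bd8bc8bb8ba8b98b88b78b68b58b48b38b28b18b08af8ae8ad8ac8ab8aa8a98a88a78a68a58a48a38a28a18a089f89e89d89c89b89a89989889789689589489389289189088f88e88d88c88b88a88988888788688588488388288188047f47e47d47c47b47a47947847747647547447347247147046f46e46d46c46b46a46946846746646546446346246146045f45e45d45c45b45a45945845745645545445345245145044f44e44d44c44b44a44944844744644544444344244144043f43e43d43c43b43a43943843743643543443343243143042f42e42d42c42b42a42942842742642542442342242142041f41e41d41c4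1b41a41941841741641541441341241141040f40e40d40c40b40a4094084074064054044034024014005ff5fe5fd5fc5fb5fa5f95f85f75f65f55f45f35f25f15f05ef5ee5ed5ec5eb5ea5e95e85e75e65e55e45e35e25e15e05df5de5dd5dc5db5da5d95d85d75d65d55d45d35d25d15d05cf5ce5cd5cc5cb5ca5c95c85c75c65c55c45c35c25c15c05bf5be5bd5bc5bb5ba5b95b85b75b65b55b45b35b25b15b05af5ae5ad5ac5ab5aa5a95a85a75a65a55a45a35a25a15a059f59e59d59c59b59a59959859759659559459359259159058f58e58d58c58b58a58958858758658558458358258158057f57e57d57c57b57a57957857757657557457357257157056f56e56d56c56b56a56956856756656556456356256156055f55e55d55c55b55a55955855755655555455355255155054f54e54d54c54b54a54954854754654554454354254154053f53e53d53c53b53a53953853753653553453353253153052f52e52d52c52b52a52952852752652552452352252152051f51e51d51c51b51a51951851751651551451351251151050f50e50d50c50b50a5095085075065055045035025015004ff4fe4fd4fc4fb4fa4f94f84f74f64f54f44f34f24f14f04ef4ee4ed4ec4eb4ea4e94e84e74e64e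54e44e34e24e14e04df4de4dd4dc4db4da4d94d84d74d64d54d44d34d24d14d04cf4ce4cd4cc4cb4ca4c94c84c74c64c54c44c34c24c14c04bf4be4bd4bc4bb4ba4b94b84b74b64b54b44b34b24b14b04af4ae4ad4ac4ab4aa4a94a84a74a64a54a44a34a24a14a049f49e49d49c49b49a49949849749649549449349249149048f48e48d48c48b48a48948848748648548448348248148067f67e67d67c67b67a67967867767667567467367267167066f66e66d66c66b66a66966866766666566466366266166065f65e65d65c65b65a65965865765665565465365265165064f64e64d64c64b64a64964864764664564464364264164063f63e63d63c63b63a63963863763663563463363263163062f62e62d62c62b62a62962862762662562462362262162061f61e61d61c61b61a61961861761661561461361261161060f60e60d60c60b60a6096086076066056046036026016007ff7fe7fd7fc7fb7fa7f97f87f77f67f57f47f37f27f17f07ef7ee7ed7ec7eb7ea7e97e87e77e67e57e47e37e27e17e07df7de7dd7dc7db7da7d97d87d77d67d57d47d37d27d17d07cf7ce7cd7cc7cb7ca7c97c87c77c67c57c47c37c27c17c07bf7be7bd7bc7bb7ba7b97b87b77b67b57b47b37b27b17b07af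7ae7ad7ac7ab7aa7a97a87a77a67a57a47a37a27a17a079f79e79d79c79b79a79979879779679579479379279179078f78e78d78c78b78a78978878778678578478378278178077f77e77d77c77b77a77977877777677577477377277177076f76e76d76c76b76a76976876776676576476376276176075f75e75d75c75b75a75975875775675575475375275175074f74e74d74c74b74a74974874774674574474374274174073f73e73d73c73b73a73973873773673573473373273173072f72e72d72c72b72a72972872772672572472372272172071f71e71d71c71b71a71971871771671571471371271171070f70e70d70c70b70a7097087077067057047037027017006ff6fe6fd6fc6fb6fa6f96f86f76f66f56f46f36f26f16f06ef6ee6ed6ec6eb6ea6e96e86e76e66e56e46e36e26e16e06df6de6dd6dc6db6da6d96d86d76d66d56d46d36d26d16d06cf6ce6cd6cc6cb6ca6c96c86c76c66c56c46c36c26c16c06bf6be6bd6bc6bb6ba6b96b86b76b66b56b46b36b26b16b06af6ae6ad6ac6ab6aa6a96a86a76a66a56a46a36a26a16a069f69e69d69c69b69a69969869769669569469369269169068f68e68d68c68b68a68968868768668568468368268168027f27e27d27c27b27a2792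7827727627527427327227127026f26e26d26c26b26a26926826726626526426326226126025f25e25d25c25b25a25925825725625525425325225125024f24e24d24c24b24a24924824724624524424324224124023f23e23d23c23b23a23923823723623523423323223123022f22e22d22c22b22a22922822722622522422322222122021f21e21d21c21b21a21921821721621521421321221121020f20e20d20c20b20a2092082072062052042032022012003ff3fe3fd3fc3fb3fa3f93f83f73f63f53f43f33f23f13f03ef3ee3ed3ec3eb3ea3e93e83e73e63e53e43e33e23e13e03df3de3dd3dc3db3da3d93d83d73d63d53d43d33d23d13d03cf3ce3cd3cc3cb3ca3c93c83c73c63c53c43c33c23c13c03bf3be3bd3bc3bb3ba3b93b83b73b63b53b43b33b23b13b03af3ae3ad3ac3ab3aa3a93a83a73a63a53a43a33a23a13a039f39e39d39c39b39a39939839739639539439339239139038f38e38d38c38b38a38938838738638538438338238138037f37e37d37c37b37a37937837737637537437337237137036f36e36d36c36b36a36936836736636536436336236136035f35e35d35c35b35a35935835735635535435335235135034f34e34d34c34b34a34934834734634534434334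234134033f33e33d33c33b33a33933833733633533433333233133032f32e32d32c32b32a32932832732632532432332232132031f31e31d31c31b31a31931831731631531431331231131030f30e30d30c30b30a3093083073063053043033023013002ff2fe2fd2fc2fb2fa2f92f82f72f62f52f42f32f22f12f02ef2ee2ed2ec2eb2ea2e92e82e72e62e52e42e32e22e12e02df2de2dd2dc2db2da2d92d82d72d62d52d42d32d22d12d02cf2ce2cd2cc2cb2ca2c92c82c72c62c52c42c32c22c12c02bf2be2bd2bc2bb2ba2b92b82b72b62b52b42b32b22b12b02af2ae2ad2ac2ab2aa2a92a82a72a62a52a42a32a22a12a029f29e29d29c29b29a29929829729629529429329229129028f28e28d28c28b28a28928828728628528428328228128007f07e07d07c07b07a07907807707607507407307207107006f06e06d06c06b06a06906806706606506406306206106005f05e05d05c05b05a05905805705605505405305205105004f04e04d04c04b04a04904804704604504404304204104003f03e03d03c03b03a03903803703603503403303203103002f02e02d02c02b02a02902802702602502402302202102001f01e01d01c01b01a01901801701601501401301201101000f00e00d00c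00b00a0090080070060050040030020010001ff1fe1fd1fc1fb1fa1f91f81f71f61f51f41f31f21f11f01ef1ee1ed1ec1eb1ea1e91e81e71e61e51e41e31e21e11e01df1de1dd1dc1db1da1d91d81d71d61d51d41d31d21d11d01cf1ce1cd1cc1cb1ca1c91c81c71c61c51c41c31c21c11c01bf1be1bd1bc1bb1ba1b91b81b71b61b51b41b31b21b11b01af1ae1ad1ac1ab1aa1a91a81a71a61a51a41a31a21a11a019f19e19d19c19b19a19919819719619519419319219119018f18e18d18c18b18a18918818718618518418318218118017f17e17d17c17b17a17917817717617517417317217117016f16e16d16c16b16a16916816716616516416316216116015f15e15d15c15b15a15915815715615515415315215115014f14e14d14c14b14a14914814714614514414314214114013f13e13d13c13b13a13913813713613513413313213113012f12e12d12c12b12a12912812712612512412312212112011f11e11d11c11b11a11911811711611511411311211111010f10e10d10c10b10a1091081071061051041031021011000ff0fe0fd0fc0fb0fa0f90f80f70f60f50f40f30f20f10f00ef0ee0ed0ec0eb0ea0e90e80e70e60e50e40e30e20e10e00df0de0dd0dc0db0da0d90d80d70d60d50d40d30d20d10d00cf0ce0cd0cc0cb0ca0c90c80c70c60c50c40c30c20c10c00bf0be0bd0bc0bb0ba0b90b80b70b60b50b40b30b20b10b00af0ae0ad0ac0ab0aa0a90a80a70a60a50a40a30a20a10a009f09e09d09c09b09a09909809709609509409309209109008f08e08d08c08b08a089088087086085084083082081080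

/-- table of right multiplication by generator 8 -/
def T8 : Nat := 0xeffefeefdefcefbefaef9ef8ef7ef6ef5ef4ef3ef2ef1ef0eefeeeeedeeceebeeaee9ee8ee7ee6ee5ee4ee3ee2ee1ee0edfedeeddedcedbedaed9ed8ed7ed6ed5ed4ed3ed2ed1ed0ecfeceecdeccecbecaec9ec8ec7ec6ec5ec4ec3ec2ec1ec0ebfebeebdebcebbebaeb9eb8eb7eb6eb5eb4eb3eb2eb1eb0eafeaeeadeaceabeaaea9ea8ea7ea6ea5ea4ea3ea2ea1ea0e9fe9ee9de9ce9be9ae99e98e97e96e95e94e93e92e91e90e8fe8ee8de8ce8be8ae89e88e87e86e85e84e83e82e81e80e7fe7ee7de7ce7be7ae79e78e77e76e75e74e73e72e71e70e6fe6ee6de6ce6be6ae69e68e67e66e65e64e63e62e61e60e5fe5ee5de5ce5be5ae59e58e57e56e55e54e53e52e51e50e4fe4ee4de4ce4be4ae49e48e47e46e45e44e43e42e41e40e3fe3ee3de3ce3be3ae39e38e37e36e35e34e33e32e31e30e2fe2ee2de2ce2be2ae29e28e27e26e25e24e23e22e21e20e1fe1ee1de1ce1be1ae19e18e17e16e15e14e13e12e11e10e0fe0ee0de0ce0be0ae09e08e07e06e05e04e03e02e01e00fffffeffdffcffbffaff9ff8ff7ff6ff5ff4ff3ff2ff1ff0feffeefedfecfebfeafe9fe8fe7fe6fe5fe4fe3fe2f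e1fe0fdffdefddfdcfdbfdafd9fd8fd7fd6fd5fd4fd3fd2fd1fd0fcffcefcdfccfcbfcafc9fc8fc7fc6fc5fc4fc3fc2fc1fc0fbffbefbdfbcfbbfbafb9fb8fb7fb6fb5fb4fb3fb2fb1fb0faffaefadfacfabfaafa9fa8fa7fa6fa5fa4fa3fa2fa1fa0f9ff9ef9df9cf9bf9af99f98f97f96f95f94f93f92f91f90f8ff8ef8df8cf8bf8af89f88f87f86f85f84f83f82f81f80f7ff7ef7df7cf7bf7af79f78f77f76f75f74f73f72f71f70f6ff6ef6df6cf6bf6af69f68f67f66f65f64f63f62f61f60f5ff5ef5df5cf5bf5af59f58f57f56f55f54f53f52f51f50f4ff4ef4df4cf4bf4af49f48f47f46f45f44f43f42f41f40f3ff3ef3df3cf3bf3af39f38f37f36f35f34f33f32f31f30f2ff2ef2df2cf2bf2af29f28f27f26f25f24f23f22f21f20f1ff1ef1df1cf1bf1af19f18f17f16f15f14f13f12f11f10f0ff0ef0df0cf0bf0af09f08f07f06f05f04f03f02f01f00cffcfecfdcfccfbcfacf9cf8cf7cf6cf5cf4cf3cf2cf1cf0cefceecedceccebceace9ce8ce7ce6ce5ce4ce3ce2ce1ce0cdfcdecddcdccdbcdacd9cd8cd7cd6cd5cd4cd3cd2cd1cd0ccfcceccdcccccbccacc9cc8cc7cc6cc5cc4cc3cc2cc1cc0cbfcbecbdcbccbbcbacb9cb8cb7cb6cb5cb4cb3cb2cb1cb0cafcaecadcacca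bcaaca9ca8ca7ca6ca5ca4ca3ca2ca1ca0c9fc9ec9dc9cc9bc9ac99c98c97c96c95c94c93c92c91c90c8fc8ec8dc8cc8bc8ac89c88c87c86c85c84c83c82c81c80c7fc7ec7dc7cc7bc7ac79c78c77c76c75c74c73c72c71c70c6fc6ec6dc6cc6bc6ac69c68c67c66c65c64c63c62c61c60c5fc5ec5dc5cc5bc5ac59c58c57c56c55c54c53c52c51c50c4fc4ec4dc4cc4bc4ac49c48c47c46c45c44c43c42c41c40c3fc3ec3dc3cc3bc3ac39c38c37c36c35c34c33c32c31c30c2fc2ec2dc2cc2bc2ac29c28c27c26c25c24c23c22c21c20c1fc1ec1dc1cc1bc1ac19c18c17c16c15c14c13c12c11c10c0fc0ec0dc0cc0bc0ac09c08c07c06c05c04c03c02c01c00dffdfedfddfcdfbdfadf9df8df7df6df5df4df3df2df1df0defdeededdecdebdeade9de8de7de6de5de4de3de2de1de0ddfddedddddcddbddadd9dd8dd7dd6dd5dd4dd3dd2dd1dd0dcfdcedcddccdcbdcadc9dc8dc7dc6dc5dc4dc3dc2dc1dc0dbfdbedbddbcdbbdbadb9db8db7db6db5db4db3db2db1db0dafdaedaddacdabdaada9da8da7da6da5da4da3da2da1da0d9fd9ed9dd9cd9bd9ad99d98d97d96d95d94d93d92d91d90d8fd8ed8dd8cd8bd8ad89d88d87d86d85d84d83d82d81d80d7fd7ed7dd7cd7bd7ad79d78d77d76d75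d74d73d72d71d70d6fd6ed6dd6cd6bd6ad69d68d67d66d65d64d63d62d61d60d5fd5ed5dd5cd5bd5ad59d58d57d56d55d54d53d52d51d50d4fd4ed4dd4cd4bd4ad49d48d47d46d45d44d43d42d41d40d3fd3ed3dd3cd3bd3ad39d38d37d36d35d34d33d32d31d30d2fd2ed2dd2cd2bd2ad29d28d27d26d25d24d23d22d21d20d1fd1ed1dd1cd1bd1ad19d18d17d16d15d14d13d12d11d10d0fd0ed0dd0cd0bd0ad09d08d07d06d05d04d03d02d01d00affafeafdafcafbafaaf9af8af7af6af5af4af3af2af1af0aefaeeaedaecaebaeaae9ae8ae7ae6ae5ae4ae3ae2ae1ae0adfadeaddadcadbadaad9ad8ad7ad6ad5ad4ad3ad2ad1ad0acfaceacdaccacbacaac9ac8ac7ac6ac5ac4ac3ac2ac1ac0abfabeabdabcabbabaab9ab8ab7ab6ab5ab4ab3ab2ab1ab0aafaaeaadaacaabaaaaa9aa8aa7aa6aa5aa4aa3aa2aa1aa0a9fa9ea9da9ca9ba9aa99a98a97a96a95a94a93a92a91a90a8fa8ea8da8ca8ba8aa89a88a87a86a85a84a83a82a81a80a7fa7ea7da7ca7ba7aa79a78a77a76a75a74a73a72a71a70a6fa6ea6da6ca6ba6aa69a68a67a66a65a64a63a62a61a60a5fa5ea5da5ca5ba5aa59a58a57a56a55a54a53a52a51a50a4fa4ea4da4ca4ba4aa49a48a47a46a45a44a43a42a41a40a3fa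3ea3da3ca3ba3aa39a38a37a36a35a34a33a32a31a30a2fa2ea2da2ca2ba2aa29a28a27a26a25a24a23a22a21a20a1fa1ea1da1ca1ba1aa19a18a17a16a15a14a13a12a11a10a0fa0ea0da0ca0ba0aa09a08a07a06a05a04a03a02a01a00bffbfebfdbfcbfbbfabf9bf8bf7bf6bf5bf4bf3bf2bf1bf0befbeebedbecbebbeabe9be8be7be6be5be4be3be2be1be0bdfbdebddbdcbdbbdabd9bd8bd7bd6bd5bd4bd3bd2bd1bd0bcfbcebcdbccbcbbcabc9bc8bc7bc6bc5bc4bc3bc2bc1bc0bbfbbebbdbbcbbbbbabb9bb8bb7bb6bb5bb4bb3bb2bb1bb0bafbaebadbacbabbaaba9ba8ba7ba6ba5ba4ba3ba2ba1ba0b9fb9eb9db9cb9bb9ab99b98b97b96b95b94b93b92b91b90b8fb8eb8db8cb8bb8ab89b88b87b86b85b84b83b82b81b80b7fb7eb7db7cb7bb7ab79b78b77b76b75b74b73b72b71b70b6fb6eb6db6cb6bb6ab69b68b67b66b65b64b63b62b61b60b5fb5eb5db5cb5bb5ab59b58b57b56b55b54b53b52b51b50b4fb4eb4db4cb4bb4ab49b48b47b46b45b44b43b42b41b40b3fb3eb3db3cb3bb3ab39b38b37b36b35b34b33b32b31b30b2fb2eb2db2cb2bb2ab29b28b27b26b25b24b23b22b21b20b1fb1eb1db1cb1bb1ab19b18b17b16b15b14b13b12b11b10b0fb0eb0db0cb0bb0ab09b0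8b07b06b05b04b03b02b01b008ff8fe8fd8fc8fb8fa8f98f88f78f68f58f48f38f28f18f08ef8ee8ed8ec8eb8ea8e98e88e78e68e58e48e38e28e18e08df8de8dd8dc8db8da8d98d88d78d68d58d48d38d28d18d08cf8ce8cd8cc8cb8ca8c98c88c78c68c58c48c38c28c18c08bf8be8bd8bc8bb8ba8b98b88b78b68b58b48b38b28b18b08af8ae8ad8ac8ab8aa8a98a88a78a68a58a48a38a28a18a089f89e89d89c89b89a89989889789689589489389289189088f88e88d88c88b88a88988888788688588488388288188087f87e87d87c87b87a87987887787687587487387287187086f86e86d86c86b86a86986886786686586486386286186085f85e85d85c85b85a85985885785685585485385285185084f84e84d84c84b84a84984884784684584484384284184083f83e83d83c83b83a83983883783683583483383283183082f82e82d82c82b82a82982882782682582482382282182081f81e81d81c81b81a81981881781681581481381281181080f80e80d80c80b80a8098088078068058048038028018009ff9fe9fd9fc9fb9fa9f99f89f79f69f59f49f39f29f19f09ef9ee9ed9ec9eb9ea9e99e89e79e69e59e49e39e29e19e09df9de9dd9dc9db9da9d99d89d79d69d59d49d39d2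9d19d09cf9ce9cd9cc9cb9ca9c99c89c79c69c59c49c39c29c19c09bf9be9bd9bc9bb9ba9b99b89b79b69b59b49b39b29b19b09af9ae9ad9ac9ab9aa9a99a89a79a69a59a49a39a29a19a099f99e99d99c99b99a99999899799699599499399299199098f98e98d98c98b98a98998898798698598498398298198097f97e97d97c97b97a97997897797697597497397297197096f96e96d96c96b96a96996896796696596496396296196095f95e95d95c95b95a95995895795695595495395295195094f94e94d94c94b94a94994894794694594494394294194093f93e93d93c93b93a93993893793693593493393293193092f92e92d92c92b92a92992892792692592492392292192091f91e91d91c91b91a91991891791691591491391291191090f90e90d90c90b90a9099089079069059049039029019006ff6fe6fd6fc6fb6fa6f96f86f76f66f56f46f36f26f16f06ef6ee6ed6ec6eb6ea6e96e86e76e66e56e46e36e26e16e06df6de6dd6dc6db6da6d96d86d76d66d56d46d36d26d16d06cf6ce6cd6cc6cb6ca6c96c86c76c66c56c46c36c26c16c06bf6be6bd6bc6bb6ba6b96b86b76b66b56b46b36b26b16b06af6ae6ad6ac6ab6aa6a96a86a76a66a56a46a36a26a16a069f69e69d69c6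9b69a69969869769669569469369269169068f68e68d68c68b68a68968868768668568468368268168067f67e67d67c67b67a67967867767667567467367267167066f66e66d66c66b66a66966866766666566466366266166065f65e65d65c65b65a65965865765665565465365265165064f64e64d64c64b64a64964864764664564464364264164063f63e63d63c63b63a63963863763663563463363263163062f62e62d62c62b62a62962862762662562462362262162061f61e61d61c61b61a61961861761661561461361261161060f60e60d60c60b60a6096086076066056046036026016007ff7fe7fd7fc7fb7fa7f97f87f77f67f57f47f37f27f17f07ef7ee7ed7ec7eb7ea7e97e87e77e67e57e47e37e27e17e07df7de7dd7dc7db7da7d97d87d77d67d57d47d37d27d17d07cf7ce7cd7cc7cb7ca7c97c87c77c67c57c47c37c27c17c07bf7be7bd7bc7bb7ba7b97b87b77b67b57b47b37b27b17b07af7ae7ad7ac7ab7aa7a97a87a77a67a57a47a37a27a17a079f79e79d79c79b79a79979879779679579479379279179078f78e78d78c78b78a78978878778678578478378278178077f77e77d77c77b77a77977877777677577477377277177076f76e76d76c76b76a76976876776676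576476376276176075f75e75d75c75b75a75975875775675575475375275175074f74e74d74c74b74a74974874774674574474374274174073f73e73d73c73b73a73973873773673573473373273173072f72e72d72c72b72a72972872772672572472372272172071f71e71d71c71b71a71971871771671571471371271171070f70e70d70c70b70a7097087077067057047037027017004ff4fe4fd4fc4fb4fa4f94f84f74f64f54f44f34f24f14f04ef4ee4ed4ec4eb4ea4e94e84e74e64e54e44e34e24e14e04df4de4dd4dc4db4da4d94d84d74d64d54d44d34d24d14d04cf4ce4cd4cc4cb4ca4c94c84c74c64c54c44c34c24c14c04bf4be4bd4bc4bb4ba4b94b84b74b64b54b44b34b24b14b04af4ae4ad4ac4ab4aa4a94a84a74a64a54a44a34a24a14a049f49e49d49c49b49a49949849749649549449349249149048f48e48d48c48b48a48948848748648548448348248148047f47e47d47c47b47a47947847747647547447347247147046f46e46d46c46b46a46946846746646546446346246146045f45e45d45c45b45a45945845745645545445345245145044f44e44d44c44b44a44944844744644544444344244144043f43e43d43c43b43a43943843743643543443343243143042f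42e42d42c42b42a42942842742642542442342242142041f41e41d41c41b41a41941841741641541441341241141040f40e40d40c40b40a4094084074064054044034024014005ff5fe5fd5fc5fb5fa5f95f85f75f65f55f45f35f25f15f05ef5ee5ed5ec5eb5ea5e95e85e75e65e55e45e35e25e15e05df5de5dd5dc5db5da5d95d85d75d65d55d45d35d25d15d05cf5ce5cd5cc5cb5ca5c95c85c75c65c55c45c35c25c15c05bf5be5bd5bc5bb5ba5b95b85b75b65b55b45b35b25b15b05af5ae5ad5ac5ab5aa5a95a85a75a65a55a45a35a25a15a059f59e59d59c59b59a59959859759659559459359259159058f58e58d58c58b58a58958858758658558458358258158057f57e57d57c57b57a57957857757657557457357257157056f56e56d56c56b56a56956856756656556456356256156055f55e55d55c55b55a55955855755655555455355255155054f54e54d54c54b54a54954854754654554454354254154053f53e53d53c53b53a53953853753653553453353253153052f52e52d52c52b52a52952852752652552452352252152051f51e51d51c51b51a51951851751651551451351251151050f50e50d50c50b50a5095085075065055045035025015002ff2fe2fd2fc2fb2fa2f92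f82f72f62f52f42f32f22f12f02ef2ee2ed2ec2eb2ea2e92e82e72e62e52e42e32e22e12e02df2de2dd2dc2db2da2d92d82d72d62d52d42d32d22d12d02cf2ce2cd2cc2cb2ca2c92c82c72c62c52c42c32c22c12c02bf2be2bd2bc2bb2ba2b92b82b72b62b52b42b32b22b12b02af2ae2ad2ac2ab2aa2a92a82a72a62a52a42a32a22a12a029f29e29d29c29b29a29929829729629529429329229129028f28e28d28c28b28a28928828728628528428328228128027f27e27d27c27b27a27927827727627527427327227127026f26e26d26c26b26a26926826726626526426326226126025f25e25d25c25b25a25925825725625525425325225125024f24e24d24c24b24a24924824724624524424324224124023f23e23d23c23b23a23923823723623523423323223123022f22e22d22c22b22a22922822722622522422322222122021f21e21d21c21b21a21921821721621521421321221121020f20e20d20c20b20a2092082072062052042032022012003ff3fe3fd3fc3fb3fa3f93f83f73f63f53f43f33f23f13f03ef3ee3ed3ec3eb3ea3e93e83e73e63e53e43e33e23e13e03df3de3dd3dc3db3da3d93d83d73d63d53d43d33d23d13d03cf3ce3cd3cc3cb3ca3c93c83c73c63c53c43c33c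23c13c03bf3be3bd3bc3bb3ba3b93b83b73b63b53b43b33b23b13b03af3ae3ad3ac3ab3aa3a93a83a73a63a53a43a33a23a13a039f39e39d39c39b39a39939839739639539439339239139038f38e38d38c38b38a38938838738638538438338238138037f37e37d37c37b37a37937837737637537437337237137036f36e36d36c36b36a36936836736636536436336236136035f35e35d35c35b35a35935835735635535435335235135034f34e34d34c34b34a34934834734634534434334234134033f33e33d33c33b33a33933833733633533433333233133032f32e32d32c32b32a32932832732632532432332232132031f31e31d31c31b31a31931831731631531431331231131030f30e30d30c30b30a3093083073063053043033023013000ff0fe0fd0fc0fb0fa0f90f80f70f60f50f40f30f20f10f00ef0ee0ed0ec0eb0ea0e90e80e70e60e50e40e30e20e10e00df0de0dd0dc0db0da0d90d80d70d60d50d40d30d20d10d00cf0ce0cd0cc0cb0ca0c90c80c70c60c50c40c30c20c10c00bf0be0bd0bc0bb0ba0b90b80b70b60b50b40b30b20b10b00af0ae0ad0ac0ab0aa0a90a80a70a60a50a40a30a20a10a009f09e09d09c09b09a09909809709609509409309209109008f08e08d08c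08b08a08908808708608508408308208108007f07e07d07c07b07a07907807707607507407307207107006f06e06d06c06b06a06906806706606506406306206106005f05e05d05c05b05a05905805705605505405305205105004f04e04d04c04b04a04904804704604504404304204104003f03e03d03c03b03a03903803703603503403303203103002f02e02d02c02b02a02902802702602502402302202102001f01e01d01c01b01a01901801701601501401301201101000f00e00d00c00b00a0090080070060050040030020010001ff1fe1fd1fc1fb1fa1f91f81f71f61f51f41f31f21f11f01ef1ee1ed1ec1eb1ea1e91e81e71e61e51e41e31e21e11e01df1de1dd1dc1db1da1d91d81d71d61d51d41d31d21d11d01cf1ce1cd1cc1cb1ca1c91c81c71c61c51c41c31c21c11c01bf1be1bd1bc1bb1ba1b91b81b71b61b51b41b31b21b11b01af1ae1ad1ac1ab1aa1a91a81a71a61a51a41a31a21a11a019f19e19d19c19b19a19919819719619519419319219119018f18e18d18c18b18a18918818718618518418318218118017f17e17d17c17b17a17917817717617517417317217117016f16e16d16c16b16a16916816716616516416316216116015f15e15d15c15b15a15915815715615515415315215115014f14e14d14c14b14a14914814714614514414314214114013f13e13d13c13b13a13913813713613513413313213113012f12e12d12c12b12a12912812712612512412312212112011f11e11d11c11b11a11911811711611511411311211111010f10e10d10c10b10a109108107106105104103102101100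

/-- table of right multiplication by generator 9 -/
def T9 : Nat := 0xdffdfedfddfcdfbdfadf9df8df7df6df5df4df3df2df1df0defdeededdecdebdeade9de8de7de6de5de4de3de2de1de0ddfddedddddcddbddadd9dd8dd7dd6dd5dd4dd3dd2dd1dd0dcfdcedcddccdcbdcadc9dc8dc7dc6dc5dc4dc3dc2dc1dc0dbfdbedbddbcdbbdbadb9db8db7db6db5db4db3db2db1db0dafdaedaddacdabdaada9da8da7da6da5da4da3da2da1da0d9fd9ed9dd9cd9bd9ad99d98d97d96d95d94d93d92d91d90d8fd8ed8dd8cd8bd8ad89d88d87d86d85d84d83d82d81d80d7fd7ed7dd7cd7bd7ad79d78d77d76d75d74d73d72d71d70d6fd6ed6dd6cd6bd6ad69d68d67d66d65d64d63d62d61d60d5fd5ed5dd5cd5bd5ad59d58d57d56d55d54d53d52d51d50d4fd4ed4dd4cd4bd4ad49d48d47d46d45d44d43d42d41d40d3fd3ed3dd3cd3bd3ad39d38d37d36d35d34d33d32d31d30d2fd2ed2dd2cd2bd2ad29d28d27d26d25d24d23d22d21d20d1fd1ed1dd1cd1bd1ad19d18d17d16d15d14d13d12d11d10d0fd0ed0dd0cd0bd0ad09d08d07d06d05d04d03d02d01d00cffcfecfdcfccfbcfacf9cf8cf7cf6cf5cf4cf3cf2cf1cf0cefceecedceccebceace9ce8ce7ce6ce5ce4ce3ce2c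e1ce0cdfcdecddcdccdbcdacd9cd8cd7cd6cd5cd4cd3cd2cd1cd0ccfcceccdcccccbccacc9cc8cc7cc6cc5cc4cc3cc2cc1cc0cbfcbecbdcbccbbcbacb9cb8cb7cb6cb5cb4cb3cb2cb1cb0cafcaecadcaccabcaaca9ca8ca7ca6ca5ca4ca3ca2ca1ca0c9fc9ec9dc9cc9bc9ac99c98c97c96c95c94c93c92c91c90c8fc8ec8dc8cc8bc8ac89c88c87c86c85c84c83c82c81c80c7fc7ec7dc7cc7bc7ac79c78c77c76c75c74c73c72c71c70c6fc6ec6dc6cc6bc6ac69c68c67c66c65c64c63c62c61c60c5fc5ec5dc5cc5bc5ac59c58c57c56c55c54c53c52c51c50c4fc4ec4dc4cc4bc4ac49c48c47c46c45c44c43c42c41c40c3fc3ec3dc3cc3bc3ac39c38c37c36c35c34c33c32c31c30c2fc2ec2dc2cc2bc2ac29c28c27c26c25c24c23c22c21c20c1fc1ec1dc1cc1bc1ac19c18c17c16c15c14c13c12c11c10c0fc0ec0dc0cc0bc0ac09c08c07c06c05c04c03c02c01c00fffffeffdffcffbffaff9ff8ff7ff6ff5ff4ff3ff2ff1ff0feffeefedfecfebfeafe9fe8fe7fe6fe5fe4fe3fe2fe1fe0fdffdefddfdcfdbfdafd9fd8fd7fd6fd5fd4fd3fd2fd1fd0fcffcefcdfccfcbfcafc9fc8fc7fc6fc5fc4fc3fc2fc1fc0fbffbefbdfbcfbbfbafb9fb8fb7fb6fb5fb4fb3fb2fb1fb0faffaefadfacfa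bfaafa9fa8fa7fa6fa5fa4fa3fa2fa1fa0f9ff9ef9df9cf9bf9af99f98f97f96f95f94f93f92f91f90f8ff8ef8df8cf8bf8af89f88f87f86f85f84f83f82f81f80f7ff7ef7df7cf7bf7af79f78f77f76f75f74f73f72f71f70f6ff6ef6df6cf6bf6af69f68f67f66f65f64f63f62f61f60f5ff5ef5df5cf5bf5af59f58f57f56f55f54f53f52f51f50f4ff4ef4df4cf4bf4af49f48f47f46f45f44f43f42f41f40f3ff3ef3df3cf3bf3af39f38f37f36f35f34f33f32f31f30f2ff2ef2df2cf2bf2af29f28f27f26f25f24f23f22f21f20f1ff1ef1df1cf1bf1af19f18f17f16f15f14f13f12f11f10f0ff0ef0df0cf0bf0af09f08f07f06f05f04f03f02f01f00effefeefdefcefbefaef9ef8ef7ef6ef5ef4ef3ef2ef1ef0eefeeeeedeeceebeeaee9ee8ee7ee6ee5ee4ee3ee2ee1ee0edfedeeddedcedbedaed9ed8ed7ed6ed5ed4ed3ed2ed1ed0ecfeceecdeccecbecaec9ec8ec7ec6ec5ec4ec3ec2ec1ec0ebfebeebdebcebbebaeb9eb8eb7eb6eb5eb4eb3eb2eb1eb0eafeaeeadeaceabeaaea9ea8ea7ea6ea5ea4ea3ea2ea1ea0e9fe9ee9de9ce9be9ae99e98e97e96e95e94e93e92e91e90e8fe8ee8de8ce8be8ae89e88e87e86e85e84e83e82e81e80e7fe7ee7de7ce7be7ae79e78e77e76e75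e74e73e72e71e70e6fe6ee6de6ce6be6ae69e68e67e66e65e64e63e62e61e60e5fe5ee5de5ce5be5ae59e58e57e56e55e54e53e52e51e50e4fe4ee4de4ce4be4ae49e48e47e46e45e44e43e42e41e40e3fe3ee3de3ce3be3ae39e38e37e36e35e34e33e32e31e30e2fe2ee2de2ce2be2ae29e28e27e26e25e24e23e22e21e20e1fe1ee1de1ce1be1ae19e18e17e16e15e14e13e12e11e10e0fe0ee0de0ce0be0ae09e08e07e06e05e04e03e02e01e009ff9fe9fd9fc9fb9fa9f99f89f79f69f59f49f39f29f19f09ef9ee9ed9ec9eb9ea9e99e89e79e69e59e49e39e29e19e09df9de9dd9dc9db9da9d99d89d79d69d59d49d39d29d19d09cf9ce9cd9cc9cb9ca9c99c89c79c69c59c49c39c29c19c09bf9be9bd9bc9bb9ba9b99b89b79b69b59b49b39b29b19b09af9ae9ad9ac9ab9aa9a99a89a79a69a59a49a39a29a19a099f99e99d99c99b99a99999899799699599499399299199098f98e98d98c98b98a98998898798698598498398298198097f97e97d97c97b97a97997897797697597497397297197096f96e96d96c96b96a96996896796696596496396296196095f95e95d95c95b95a95995895795695595495395295195094f94e94d94c94b94a94994894794694594494394294194093f9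3e93d93c93b93a93993893793693593493393293193092f92e92d92c92b92a92992892792692592492392292192091f91e91d91c91b91a91991891791691591491391291191090f90e90d90c90b90a9099089079069059049039029019008ff8fe8fd8fc8fb8fa8f98f88f78f68f58f48f38f28f18f08ef8ee8ed8ec8eb8ea8e98e88e78e68e58e48e38e28e18e08df8de8dd8dc8db8da8d98d88d78d68d58d48d38d28d18d08cf8ce8cd8cc8cb8ca8c98c88c78c68c58c48c38c28c18c08bf8be8bd8bc8bb8ba8b98b88b78b68b58b48b38b28b18b08af8ae8ad8ac8ab8aa8a98a88a78a68a58a48a38a28a18a089f89e89d89c89b89a89989889789689589489389289189088f88e88d88c88b88a88988888788688588488388288188087f87e87d87c87b87a87987887787687587487387287187086f86e86d86c86b86a86986886786686586486386286186085f85e85d85c85b85a85985885785685585485385285185084f84e84d84c84b84a84984884784684584484384284184083f83e83d83c83b83a83983883783683583483383283183082f82e82d82c82b82a82982882782682582482382282182081f81e81d81c81b81a81981881781681581481381281181080f80e80d80c80b80a80980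8807806805804803802801800bffbfebfdbfcbfbbfabf9bf8bf7bf6bf5bf4bf3bf2bf1bf0befbeebedbecbebbeabe9be8be7be6be5be4be3be2be1be0bdfbdebddbdcbdbbdabd9bd8bd7bd6bd5bd4bd3bd2bd1bd0bcfbcebcdbccbcbbcabc9bc8bc7bc6bc5bc4bc3bc2bc1bc0bbfbbebbdbbcbbbbbabb9bb8bb7bb6bb5bb4bb3bb2bb1bb0bafbaebadbacbabbaaba9ba8ba7ba6ba5ba4ba3ba2ba1ba0b9fb9eb9db9cb9bb9ab99b98b97b96b95b94b93b92b91b90b8fb8eb8db8cb8bb8ab89b88b87b86b85b84b83b82b81b80b7fb7eb7db7cb7bb7ab79b78b77b76b75b74b73b72b71b70b6fb6eb6db6cb6bb6ab69b68b67b66b65b64b63b62b61b60b5fb5eb5db5cb5bb5ab59b58b57b56b55b54b53b52b51b50b4fb4eb4db4cb4bb4ab49b48b47b46b45b44b43b42b41b40b3fb3eb3db3cb3bb3ab39b38b37b36b35b34b33b32b31b30b2fb2eb2db2cb2bb2ab29b28b27b26b25b24b23b22b21b20b1fb1eb1db1cb1bb1ab19b18b17b16b15b14b13b12b11b10b0fb0eb0db0cb0bb0ab09b08b07b06b05b04b03b02b01b00affafeafdafcafbafaaf9af8af7af6af5af4af3af2af1af0aefaeeaedaecaebaeaae9ae8ae7ae6ae5ae4ae3ae2ae1ae0adfadeaddadcadbadaad9ad8ad7ad6ad5ad4ad3ad2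ad1ad0acfaceacdaccacbacaac9ac8ac7ac6ac5ac4ac3ac2ac1ac0abfabeabdabcabbabaab9ab8ab7ab6ab5ab4ab3ab2ab1ab0aafaaeaadaacaabaaaaa9aa8aa7aa6aa5aa4aa3aa2aa1aa0a9fa9ea9da9ca9ba9aa99a98a97a96a95a94a93a92a91a90a8fa8ea8da8ca8ba8aa89a88a87a86a85a84a83a82a81a80a7fa7ea7da7ca7ba7aa79a78a77a76a75a74a73a72a71a70a6fa6ea6da6ca6ba6aa69a68a67a66a65a64a63a62a61a60a5fa5ea5da5ca5ba5aa59a58a57a56a55a54a53a52a51a50a4fa4ea4da4ca4ba4aa49a48a47a46a45a44a43a42a41a40a3fa3ea3da3ca3ba3aa39a38a37a36a35a34a33a32a31a30a2fa2ea2da2ca2ba2aa29a28a27a26a25a24a23a22a21a20a1fa1ea1da1ca1ba1aa19a18a17a16a15a14a13a12a11a10a0fa0ea0da0ca0ba0aa09a08a07a06a05a04a03a02a01a005ff5fe5fd5fc5fb5fa5f95f85f75f65f55f45f35f25f15f05ef5ee5ed5ec5eb5ea5e95e85e75e65e55e45e35e25e15e05df5de5dd5dc5db5da5d95d85d75d65d55d45d35d25d15d05cf5ce5cd5cc5cb5ca5c95c85c75c65c55c45c35c25c15c05bf5be5bd5bc5bb5ba5b95b85b75b65b55b45b35b25b15b05af5ae5ad5ac5ab5aa5a95a85a75a65a55a45a35a25a15a059f59e59d59c5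9b59a59959859759659559459359259159058f58e58d58c58b58a58958858758658558458358258158057f57e57d57c57b57a57957857757657557457357257157056f56e56d56c56b56a56956856756656556456356256156055f55e55d55c55b55a55955855755655555455355255155054f54e54d54c54b54a54954854754654554454354254154053f53e53d53c53b53a53953853753653553453353253153052f52e52d52c52b52a52952852752652552452352252152051f51e51d51c51b51a51951851751651551451351251151050f50e50d50c50b50a5095085075065055045035025015004ff4fe4fd4fc4fb4fa4f94f84f74f64f54f44f34f24f14f04ef4ee4ed4ec4eb4ea4e94e84e74e64e54e44e34e24e14e04df4de4dd4dc4db4da4d94d84d74d64d54d44d34d24d14d04cf4ce4cd4cc4cb4ca4c94c84c74c64c54c44c34c24c14c04bf4be4bd4bc4bb4ba4b94b84b74b64b54b44b34b24b14b04af4ae4ad4ac4ab4aa4a94a84a74a64a54a44a34a24a14a049f49e49d49c49b49a49949849749649549449349249149048f48e48d48c48b48a48948848748648548448348248148047f47e47d47c47b47a47947847747647547447347247147046f46e46d46c46b46a46946846746646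546446346246146045f45e45d45c45b45a45945845745645545445345245145044f44e44d44c44b44a44944844744644544444344244144043f43e43d43c43b43a43943843743643543443343243143042f42e42d42c42b42a42942842742642542442342242142041f41e41d41c41b41a41941841741641541441341241141040f40e40d40c40b40a4094084074064054044034024014007ff7fe7fd7fc7fb7fa7f97f87f77f67f57f47f37f27f17f07ef7ee7ed7ec7eb7ea7e97e87e77e67e57e47e37e27e17e07df7de7dd7dc7db7da7d97d87d77d67d57d47d37d27d17d07cf7ce7cd7cc7cb7ca7c97c87c77c67c57c47c37c27c17c07bf7be7bd7bc7bb7ba7b97b87b77b67b57b47b37b27b17b07af7ae7ad7ac7ab7aa7a97a87a77a67a57a47a37a27a17a079f79e79d79c79b79a79979879779679579479379279179078f78e78d78c78b78a78978878778678578478378278178077f77e77d77c77b77a77977877777677577477377277177076f76e76d76c76b76a76976876776676576476376276176075f75e75d75c75b75a75975875775675575475375275175074f74e74d74c74b74a74974874774674574474374274174073f73e73d73c73b73a73973873773673573473373273173072f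72e72d72c72b72a72972872772672572472372272172071f71e71d71c71b71a71971871771671571471371271171070f70e70d70c70b70a7097087077067057047037027017006ff6fe6fd6fc6fb6fa6f96f86f76f66f56f46f36f26f16f06ef6ee6ed6ec6eb6ea6e96e86e76e66e56e46e36e26e16e06df6de6dd6dc6db6da6d96d86d76d66d56d46d36d26d16d06cf6ce6cd6cc6cb6ca6c96c86c76c66c56c46c36c26c16c06bf6be6bd6bc6bb6ba6b96b86b76b66b56b46b36b26b16b06af6ae6ad6ac6ab6aa6a96a86a76a66a56a46a36a26a16a069f69e69d69c69b69a69969869769669569469369269169068f68e68d68c68b68a68968868768668568468368268168067f67e67d67c67b67a67967867767667567467367267167066f66e66d66c66b66a66966866766666566466366266166065f65e65d65c65b65a65965865765665565465365265165064f64e64d64c64b64a64964864764664564464364264164063f63e63d63c63b63a63963863763663563463363263163062f62e62d62c62b62a62962862762662562462362262162061f61e61d61c61b61a61961861761661561461361261161060f60e60d60c60b60a6096086076066056046036026016001ff1fe1fd1fc1fb1fa1f91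f81f71f61f51f41f31f21f11f01ef1ee1ed1ec1eb1ea1e91e81e71e61e51e41e31e21e11e01df1de1dd1dc1db1da1d91d81d71d61d51d41d31d21d11d01cf1ce1cd1cc1cb1ca1c91c81c71c61c51c41c31c21c11c01bf1be1bd1bc1bb1ba1b91b81b71b61b51b41b31b21b11b01af1ae1ad1ac1ab1aa1a91a81a71a61a51a41a31a21a11a019f19e19d19c19b19a19919819719619519419319219119018f18e18d18c18b18a18918818718618518418318218118017f17e17d17c17b17a17917817717617517417317217117016f16e16d16c16b16a16916816716616516416316216116015f15e15d15c15b15a15915815715615515415315215115014f14e14d14c14b14a14914814714614514414314214114013f13e13d13c13b13a13913813713613513413313213113012f12e12d12c12b12a12912812712612512412312212112011f11e11d11c11b11a11911811711611511411311211111010f10e10d10c10b10a1091081071061051041031021011000ff0fe0fd0fc0fb0fa0f90f80f70f60f50f40f30f20f10f00ef0ee0ed0ec0eb0ea0e90e80e70e60e50e40e30e20e10e00df0de0dd0dc0db0da0d90d80d70d60d50d40d30d20d10d00cf0ce0cd0cc0cb0ca0c90c80c70c60c50c40c30c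20c10c00bf0be0bd0bc0bb0ba0b90b80b70b60b50b40b30b20b10b00af0ae0ad0ac0ab0aa0a90a80a70a60a50a40a30a20a10a009f09e09d09c09b09a09909809709609509409309209109008f08e08d08c08b08a08908808708608508408308208108007f07e07d07c07b07a07907807707607507407307207107006f06e06d06c06b06a06906806706606506406306206106005f05e05d05c05b05a05905805705605505405305205105004f04e04d04c04b04a04904804704604504404304204104003f03e03d03c03b03a03903803703603503403303203103002f02e02d02c02b02a02902802702602502402302202102001f01e01d01c01b01a01901801701601501401301201101000f00e00d00c00b00a0090080070060050040030020010003ff3fe3fd3fc3fb3fa3f93f83f73f63f53f43f33f23f13f03ef3ee3ed3ec3eb3ea3e93e83e73e63e53e43e33e23e13e03df3de3dd3dc3db3da3d93d83d73d63d53d43d33d23d13d03cf3ce3cd3cc3cb3ca3c93c83c73c63c53c43c33c23c13c03bf3be3bd3bc3bb3ba3b93b83b73b63b53b43b33b23b13b03af3ae3ad3ac3ab3aa3a93a83a73a63a53a43a33a23a13a039f39e39d39c39b39a39939839739639539439339239139038f38e38d38c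38b38a38938838738638538438338238138037f37e37d37c37b37a37937837737637537437337237137036f36e36d36c36b36a36936836736636536436336236136035f35e35d35c35b35a35935835735635535435335235135034f34e34d34c34b34a34934834734634534434334234134033f33e33d33c33b33a33933833733633533433333233133032f32e32d32c32b32a32932832732632532432332232132031f31e31d31c31b31a31931831731631531431331231131030f30e30d30c30b30a3093083073063053043033023013002ff2fe2fd2fc2fb2fa2f92f82f72f62f52f42f32f22f12f02ef2ee2ed2ec2eb2ea2e92e82e72e62e52e42e32e22e12e02df2de2dd2dc2db2da2d92d82d72d62d52d42d32d22d12d02cf2ce2cd2cc2cb2ca2c92c82c72c62c52c42c32c22c12c02bf2be2bd2bc2bb2ba2b92b82b72b62b52b42b32b22b12b02af2ae2ad2ac2ab2aa2a92a82a72a62a52a42a32a22a12a029f29e29d29c29b29a29929829729629529429329229129028f28e28d28c28b28a28928828728628528428328228128027f27e27d27c27b27a27927827727627527427327227127026f26e26d26c26b26a26926826726626526426326226126025f25e25d25c25b25a25925825725625525425325225125024f24e24d24c24b24a24924824724624524424324224124023f23e23d23c23b23a23923823723623523423323223123022f22e22d22c22b22a22922822722622522422322222122021f21e21d21c21b21a21921821721621521421321221121020f20e20d20c20b20a209208207206205204203202201200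

/-- table of right multiplication by generator 10 -/
def T10 : Nat := 0x3ff3fe3fd3fc3fb3fa3f93f83f73f63f53f43f33f23f13f03ef3ee3ed3ec3eb3ea3e93e83e73e63e53e43e33e23e13e03df3de3dd3dc3db3da3d93d83d73d63d53d43d33d23d13d03cf3ce3cd3cc3cb3ca3c93c83c73c63c53c43c33c23c13c03bf3be3bd3bc3bb3ba3b93b83b73b63b53b43b33b23b13b03af3ae3ad3ac3ab3aa3a93a83a73a63a53a43a33a23a13a039f39e39d39c39b39a39939839739639539439339239139038f38e38d38c38b38a38938838738638538438338238138037f37e37d37c37b37a37937837737637537437337237137036f36e36d36c36b36a36936836736636536436336236136035f35e35d35c35b35a35935835735635535435335235135034f34e34d34c34b34a34934834734634534434334234134033f33e33d33c33b33a33933833733633533433333233133032f32e32d32c32b32a32932832732632532432332232132031f31e31d31c31b31a31931831731631531431331231131030f30e30d30c30b30a3093083073063053043033023013002ff2fe2fd2fc2fb2fa2f92f82f72f62f52f42f32f22f12f02ef2ee2ed2ec2eb2ea2e92e82e72e62e52e42e32e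22e12e02df2de2dd2dc2db2da2d92d82d72d62d52d42d32d22d12d02cf2ce2cd2cc2cb2ca2c92c82c72c62c52c42c32c22c12c02bf2be2bd2bc2bb2ba2b92b82b72b62b52b42b32b22b12b02af2ae2ad2ac2ab2aa2a92a82a72a62a52a42a32a22a12a029f29e29d29c29b29a29929829729629529429329229129028f28e28d28c28b28a28928828728628528428328228128027f27e27d27c27b27a27927827727627527427327227127026f26e26d26c26b26a26926826726626526426326226126025f25e25d25c25b25a25925825725625525425325225125024f24e24d24c24b24a24924824724624524424324224124023f23e23d23c23b23a23923823723623523423323223123022f22e22d22c22b22a22922822722622522422322222122021f21e21d21c21b21a21921821721621521421321221121020f20e20d20c20b20a2092082072062052042032022012001ff1fe1fd1fc1fb1fa1f91f81f71f61f51f41f31f21f11f01ef1ee1ed1ec1eb1ea1e91e81e71e61e51e41e31e21e11e01df1de1dd1dc1db1da1d91d81d71d61d51d41d31d21d11d01cf1ce1cd1cc1cb1ca1c91c81c71c61c51c41c31c21c11c01bf1be1bd1bc1bb1ba1b91b81b71b61b51b41b31b21b11b01af1ae1ad1ac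1ab1aa1a91a81a71a61a51a41a31a21a11a019f19e19d19c19b19a19919819719619519419319219119018f18e18d18c18b18a18918818718618518418318218118017f17e17d17c17b17a17917817717617517417317217117016f16e16d16c16b16a16916816716616516416316216116015f15e15d15c15b15a15915815715615515415315215115014f14e14d14c14b14a14914814714614514414314214114013f13e13d13c13b13a13913813713613513413313213113012f12e12d12c12b12a12912812712612512412312212112011f11e11d11c11b11a11911811711611511411311211111010f10e10d10c10b10a1091081071061051041031021011000ff0fe0fd0fc0fb0fa0f90f80f70f60f50f40f30f20f10f00ef0ee0ed0ec0eb0ea0e90e80e70e60e50e40e30e20e10e00df0de0dd0dc0db0da0d90d80d70d60d50d40d30d20d10d00cf0ce0cd0cc0cb0ca0c90c80c70c60c50c40c30c20c10c00bf0be0bd0bc0bb0ba0b90b80b70b60b50b40b30b20b10b00af0ae0ad0ac0ab0aa0a90a80a70a60a50a40a30a20a10a009f09e09d09c09b09a09909809709609509409309209109008f08e08d08c08b08a08908808708608508408308208108007f07e07d07c07b07a0790780770760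7507407307207107006f06e06d06c06b06a06906806706606506406306206106005f05e05d05c05b05a05905805705605505405305205105004f04e04d04c04b04a04904804704604504404304204104003f03e03d03c03b03a03903803703603503403303203103002f02e02d02c02b02a02902802702602502402302202102001f01e01d01c01b01a01901801701601501401301201101000f00e00d00c00b00a009008007006005004003002001000fffffeffdffcffbffaff9ff8ff7ff6ff5ff4ff3ff2ff1ff0feffeefedfecfebfeafe9fe8fe7fe6fe5fe4fe3fe2fe1fe0fdffdefddfdcfdbfdafd9fd8fd7fd6fd5fd4fd3fd2fd1fd0fcffcefcdfccfcbfcafc9fc8fc7fc6fc5fc4fc3fc2fc1fc0fbffbefbdfbcfbbfbafb9fb8fb7fb6fb5fb4fb3fb2fb1fb0faffaefadfacfabfaafa9fa8fa7fa6fa5fa4fa3fa2fa1fa0f9ff9ef9df9cf9bf9af99f98f97f96f95f94f93f92f91f90f8ff8ef8df8cf8bf8af89f88f87f86f85f84f83f82f81f80f7ff7ef7df7cf7bf7af79f78f77f76f75f74f73f72f71f70f6ff6ef6df6cf6bf6af69f68f67f66f65f64f63f62f61f60f5ff5ef5df5cf5bf5af59f58f57f56f55f54f53f52f51f50f4ff4ef4df4cf4bf4af49f48f47f46f45f44f43f42f41f40f3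ff3ef3df3cf3bf3af39f38f37f36f35f34f33f32f31f30f2ff2ef2df2cf2bf2af29f28f27f26f25f24f23f22f21f20f1ff1ef1df1cf1bf1af19f18f17f16f15f14f13f12f11f10f0ff0ef0df0cf0bf0af09f08f07f06f05f04f03f02f01f00effefeefdefcefbefaef9ef8ef7ef6ef5ef4ef3ef2ef1ef0eefeeeeedeeceebeeaee9ee8ee7ee6ee5ee4ee3ee2ee1ee0edfedeeddedcedbedaed9ed8ed7ed6ed5ed4ed3ed2ed1ed0ecfeceecdeccecbecaec9ec8ec7ec6ec5ec4ec3ec2ec1ec0ebfebeebdebcebbebaeb9eb8eb7eb6eb5eb4eb3eb2eb1eb0eafeaeeadeaceabeaaea9ea8ea7ea6ea5ea4ea3ea2ea1ea0e9fe9ee9de9ce9be9ae99e98e97e96e95e94e93e92e91e90e8fe8ee8de8ce8be8ae89e88e87e86e85e84e83e82e81e80e7fe7ee7de7ce7be7ae79e78e77e76e75e74e73e72e71e70e6fe6ee6de6ce6be6ae69e68e67e66e65e64e63e62e61e60e5fe5ee5de5ce5be5ae59e58e57e56e55e54e53e52e51e50e4fe4ee4de4ce4be4ae49e48e47e46e45e44e43e42e41e40e3fe3ee3de3ce3be3ae39e38e37e36e35e34e33e32e31e30e2fe2ee2de2ce2be2ae29e28e27e26e25e24e23e22e21e20e1fe1ee1de1ce1be1ae19e18e17e16e15e14e13e12e11e10e0fe0ee0de0ce0be0ae09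e08e07e06e05e04e03e02e01e00dffdfedfddfcdfbdfadf9df8df7df6df5df4df3df2df1df0defdeededdecdebdeade9de8de7de6de5de4de3de2de1de0ddfddedddddcddbddadd9dd8dd7dd6dd5dd4dd3dd2dd1dd0dcfdcedcddccdcbdcadc9dc8dc7dc6dc5dc4dc3dc2dc1dc0dbfdbedbddbcdbbdbadb9db8db7db6db5db4db3db2db1db0dafdaedaddacdabdaada9da8da7da6da5da4da3da2da1da0d9fd9ed9dd9cd9bd9ad99d98d97d96d95d94d93d92d91d90d8fd8ed8dd8cd8bd8ad89d88d87d86d85d84d83d82d81d80d7fd7ed7dd7cd7bd7ad79d78d77d76d75d74d73d72d71d70d6fd6ed6dd6cd6bd6ad69d68d67d66d65d64d63d62d61d60d5fd5ed5dd5cd5bd5ad59d58d57d56d55d54d53d52d51d50d4fd4ed4dd4cd4bd4ad49d48d47d46d45d44d43d42d41d40d3fd3ed3dd3cd3bd3ad39d38d37d36d35d34d33d32d31d30d2fd2ed2dd2cd2bd2ad29d28d27d26d25d24d23d22d21d20d1fd1ed1dd1cd1bd1ad19d18d17d16d15d14d13d12d11d10d0fd0ed0dd0cd0bd0ad09d08d07d06d05d04d03d02d01d00cffcfecfdcfccfbcfacf9cf8cf7cf6cf5cf4cf3cf2cf1cf0cefceecedceccebceace9ce8ce7ce6ce5ce4ce3ce2ce1ce0cdfcdecddcdccdbcdacd9cd8cd7cd6cd5cd4cd3c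d2cd1cd0ccfcceccdcccccbccacc9cc8cc7cc6cc5cc4cc3cc2cc1cc0cbfcbecbdcbccbbcbacb9cb8cb7cb6cb5cb4cb3cb2cb1cb0cafcaecadcaccabcaaca9ca8ca7ca6ca5ca4ca3ca2ca1ca0c9fc9ec9dc9cc9bc9ac99c98c97c96c95c94c93c92c91c90c8fc8ec8dc8cc8bc8ac89c88c87c86c85c84c83c82c81c80c7fc7ec7dc7cc7bc7ac79c78c77c76c75c74c73c72c71c70c6fc6ec6dc6cc6bc6ac69c68c67c66c65c64c63c62c61c60c5fc5ec5dc5cc5bc5ac59c58c57c56c55c54c53c52c51c50c4fc4ec4dc4cc4bc4ac49c48c47c46c45c44c43c42c41c40c3fc3ec3dc3cc3bc3ac39c38c37c36c35c34c33c32c31c30c2fc2ec2dc2cc2bc2ac29c28c27c26c25c24c23c22c21c20c1fc1ec1dc1cc1bc1ac19c18c17c16c15c14c13c12c11c10c0fc0ec0dc0cc0bc0ac09c08c07c06c05c04c03c02c01c00bffbfebfdbfcbfbbfabf9bf8bf7bf6bf5bf4bf3bf2bf1bf0befbeebedbecbebbeabe9be8be7be6be5be4be3be2be1be0bdfbdebddbdcbdbbdabd9bd8bd7bd6bd5bd4bd3bd2bd1bd0bcfbcebcdbccbcbbcabc9bc8bc7bc6bc5bc4bc3bc2bc1bc0bbfbbebbdbbcbbbbbabb9bb8bb7bb6bb5bb4bb3bb2bb1bb0bafbaebadbacbabbaaba9ba8ba7ba6ba5ba4ba3ba2ba1ba0b9fb9eb9db9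cb9bb9ab99b98b97b96b95b94b93b92b91b90b8fb8eb8db8cb8bb8ab89b88b87b86b85b84b83b82b81b80b7fb7eb7db7cb7bb7ab79b78b77b76b75b74b73b72b71b70b6fb6eb6db6cb6bb6ab69b68b67b66b65b64b63b62b61b60b5fb5eb5db5cb5bb5ab59b58b57b56b55b54b53b52b51b50b4fb4eb4db4cb4bb4ab49b48b47b46b45b44b43b42b41b40b3fb3eb3db3cb3bb3ab39b38b37b36b35b34b33b32b31b30b2fb2eb2db2cb2bb2ab29b28b27b26b25b24b23b22b21b20b1fb1eb1db1cb1bb1ab19b18b17b16b15b14b13b12b11b10b0fb0eb0db0cb0bb0ab09b08b07b06b05b04b03b02b01b00affafeafdafcafbafaaf9af8af7af6af5af4af3af2af1af0aefaeeaedaecaebaeaae9ae8ae7ae6ae5ae4ae3ae2ae1ae0adfadeaddadcadbadaad9ad8ad7ad6ad5ad4ad3ad2ad1ad0acfaceacdaccacbacaac9ac8ac7ac6ac5ac4ac3ac2ac1ac0abfabeabdabcabbabaab9ab8ab7ab6ab5ab4ab3ab2ab1ab0aafaaeaadaacaabaaaaa9aa8aa7aa6aa5aa4aa3aa2aa1aa0a9fa9ea9da9ca9ba9aa99a98a97a96a95a94a93a92a91a90a8fa8ea8da8ca8ba8aa89a88a87a86a85a84a83a82a81a80a7fa7ea7da7ca7ba7aa79a78a77a76a75a74a73a72a71a70a6fa6ea6da6ca6ba6aa69a68a67a66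a65a64a63a62a61a60a5fa5ea5da5ca5ba5aa59a58a57a56a55a54a53a52a51a50a4fa4ea4da4ca4ba4aa49a48a47a46a45a44a43a42a41a40a3fa3ea3da3ca3ba3aa39a38a37a36a35a34a33a32a31a30a2fa2ea2da2ca2ba2aa29a28a27a26a25a24a23a22a21a20a1fa1ea1da1ca1ba1aa19a18a17a16a15a14a13a12a11a10a0fa0ea0da0ca0ba0aa09a08a07a06a05a04a03a02a01a009ff9fe9fd9fc9fb9fa9f99f89f79f69f59f49f39f29f19f09ef9ee9ed9ec9eb9ea9e99e89e79e69e59e49e39e29e19e09df9de9dd9dc9db9da9d99d89d79d69d59d49d39d29d19d09cf9ce9cd9cc9cb9ca9c99c89c79c69c59c49c39c29c19c09bf9be9bd9bc9bb9ba9b99b89b79b69b59b49b39b29b19b09af9ae9ad9ac9ab9aa9a99a89a79a69a59a49a39a29a19a099f99e99d99c99b99a99999899799699599499399299199098f98e98d98c98b98a98998898798698598498398298198097f97e97d97c97b97a97997897797697597497397297197096f96e96d96c96b96a96996896796696596496396296196095f95e95d95c95b95a95995895795695595495395295195094f94e94d94c94b94a94994894794694594494394294194093f93e93d93c93b93a9399389379369359349339329319309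2f92e92d92c92b92a92992892792692592492392292192091f91e91d91c91b91a91991891791691591491391291191090f90e90d90c90b90a9099089079069059049039029019008ff8fe8fd8fc8fb8fa8f98f88f78f68f58f48f38f28f18f08ef8ee8ed8ec8eb8ea8e98e88e78e68e58e48e38e28e18e08df8de8dd8dc8db8da8d98d88d78d68d58d48d38d28d18d08cf8ce8cd8cc8cb8ca8c98c88c78c68c58c48c38c28c18c08bf8be8bd8bc8bb8ba8b98b88b78b68b58b48b38b28b18b08af8ae8ad8ac8ab8aa8a98a88a78a68a58a48a38a28a18a089f89e89d89c89b89a89989889789689589489389289189088f88e88d88c88b88a88988888788688588488388288188087f87e87d87c87b87a87987887787687587487387287187086f86e86d86c86b86a86986886786686586486386286186085f85e85d85c85b85a85985885785685585485385285185084f84e84d84c84b84a84984884784684584484384284184083f83e83d83c83b83a83983883783683583483383283183082f82e82d82c82b82a82982882782682582482382282182081f81e81d81c81b81a81981881781681581481381281181080f80e80d80c80b80a8098088078068058048038028018007ff7fe7fd7fc7fb7fa7f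97f87f77f67f57f47f37f27f17f07ef7ee7ed7ec7eb7ea7e97e87e77e67e57e47e37e27e17e07df7de7dd7dc7db7da7d97d87d77d67d57d47d37d27d17d07cf7ce7cd7cc7cb7ca7c97c87c77c67c57c47c37c27c17c07bf7be7bd7bc7bb7ba7b97b87b77b67b57b47b37b27b17b07af7ae7ad7ac7ab7aa7a97a87a77a67a57a47a37a27a17a079f79e79d79c79b79a79979879779679579479379279179078f78e78d78c78b78a78978878778678578478378278178077f77e77d77c77b77a77977877777677577477377277177076f76e76d76c76b76a76976876776676576476376276176075f75e75d75c75b75a75975875775675575475375275175074f74e74d74c74b74a74974874774674574474374274174073f73e73d73c73b73a73973873773673573473373273173072f72e72d72c72b72a72972872772672572472372272172071f71e71d71c71b71a71971871771671571471371271171070f70e70d70c70b70a7097087077067057047037027017006ff6fe6fd6fc6fb6fa6f96f86f76f66f56f46f36f26f16f06ef6ee6ed6ec6eb6ea6e96e86e76e66e56e46e36e26e16e06df6de6dd6dc6db6da6d96d86d76d66d56d46d36d26d16d06cf6ce6cd6cc6cb6ca6c96c86c76c66c56c46c3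6c26c16c06bf6be6bd6bc6bb6ba6b96b86b76b66b56b46b36b26b16b06af6ae6ad6ac6ab6aa6a96a86a76a66a56a46a36a26a16a069f69e69d69c69b69a69969869769669569469369269169068f68e68d68c68b68a68968868768668568468368268168067f67e67d67c67b67a67967867767667567467367267167066f66e66d66c66b66a66966866766666566466366266166065f65e65d65c65b65a65965865765665565465365265165064f64e64d64c64b64a64964864764664564464364264164063f63e63d63c63b63a63963863763663563463363263163062f62e62d62c62b62a62962862762662562462362262162061f61e61d61c61b61a61961861761661561461361261161060f60e60d60c60b60a6096086076066056046036026016005ff5fe5fd5fc5fb5fa5f95f85f75f65f55f45f35f25f15f05ef5ee5ed5ec5eb5ea5e95e85e75e65e55e45e35e25e15e05df5de5dd5dc5db5da5d95d85d75d65d55d45d35d25d15d05cf5ce5cd5cc5cb5ca5c95c85c75c65c55c45c35c25c15c05bf5be5bd5bc5bb5ba5b95b85b75b65b55b45b35b25b15b05af5ae5ad5ac5ab5aa5a95a85a75a65a55a45a35a25a15a059f59e59d59c59b59a59959859759659559459359259159058f58e58d5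8c58b58a58958858758658558458358258158057f57e57d57c57b57a57957857757657557457357257157056f56e56d56c56b56a56956856756656556456356256156055f55e55d55c55b55a55955855755655555455355255155054f54e54d54c54b54a54954854754654554454354254154053f53e53d53c53b53a53953853753653553453353253153052f52e52d52c52b52a52952852752652552452352252152051f51e51d51c51b51a51951851751651551451351251151050f50e50d50c50b50a5095085075065055045035025015004ff4fe4fd4fc4fb4fa4f94f84f74f64f54f44f34f24f14f04ef4ee4ed4ec4eb4ea4e94e84e74e64e54e44e34e24e14e04df4de4dd4dc4db4da4d94d84d74d64d54d44d34d24d14d04cf4ce4cd4cc4cb4ca4c94c84c74c64c54c44c34c24c14c04bf4be4bd4bc4bb4ba4b94b84b74b64b54b44b34b24b14b04af4ae4ad4ac4ab4aa4a94a84a74a64a54a44a34a24a14a049f49e49d49c49b49a49949849749649549449349249149048f48e48d48c48b48a48948848748648548448348248148047f47e47d47c47b47a47947847747647547447347247147046f46e46d46c46b46a46946846746646546446346246146045f45e45d45c45b45a45945845745645545445345245145044f44e44d44c44b44a44944844744644544444344244144043f43e43d43c43b43a43943843743643543443343243143042f42e42d42c42b42a42942842742642542442342242142041f41e41d41c41b41a41941841741641541441341241141040f40e40d40c40b40a409408407406405404403402401400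

/-- table of right multiplication by generator 11 -/
def T11 : Nat := 0x7ff7fe7fd7fc7fb7fa7f97f87f77f67f57f47f37f27f17f07ef7ee7ed7ec7eb7ea7e97e87e77e67e57e47e37e27e17e07df7de7dd7dc7db7da7d97d87d77d67d57d47d37d27d17d07cf7ce7cd7cc7cb7ca7c97c87c77c67c57c47c37c27c17c07bf7be7bd7bc7bb7ba7b97b87b77b67b57b47b37b27b17b07af7ae7ad7ac7ab7aa7a97a87a77a67a57a47a37a27a17a079f79e79d79c79b79a79979879779679579479379279179078f78e78d78c78b78a78978878778678578478378278178077f77e77d77c77b77a77977877777677577477377277177076f76e76d76c76b76a76976876776676576476376276176075f75e75d75c75b75a75975875775675575475375275175074f74e74d74c74b74a74974874774674574474374274174073f73e73d73c73b73a73973873773673573473373273173072f72e72d72c72b72a72972872772672572472372272172071f71e71d71c71b71a71971871771671571471371271171070f70e70d70c70b70a7097087077067057047037027017006ff6fe6fd6fc6fb6fa6f96f86f76f66f56f46f36f26f16f06ef6ee6ed6ec6eb6ea6e96e86e76e66e56e46e36e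26e16e06df6de6dd6dc6db6da6d96d86d76d66d56d46d36d26d16d06cf6ce6cd6cc6cb6ca6c96c86c76c66c56c46c36c26c16c06bf6be6bd6bc6bb6ba6b96b86b76b66b56b46b36b26b16b06af6ae6ad6ac6ab6aa6a96a86a76a66a56a46a36a26a16a069f69e69d69c69b69a69969869769669569469369269169068f68e68d68c68b68a68968868768668568468368268168067f67e67d67c67b67a67967867767667567467367267167066f66e66d66c66b66a66966866766666566466366266166065f65e65d65c65b65a65965865765665565465365265165064f64e64d64c64b64a64964864764664564464364264164063f63e63d63c63b63a63963863763663563463363263163062f62e62d62c62b62a62962862762662562462362262162061f61e61d61c61b61a61961861761661561461361261161060f60e60d60c60b60a6096086076066056046036026016005ff5fe5fd5fc5fb5fa5f95f85f75f65f55f45f35f25f15f05ef5ee5ed5ec5eb5ea5e95e85e75e65e55e45e35e25e15e05df5de5dd5dc5db5da5d95d85d75d65d55d45d35d25d15d05cf5ce5cd5cc5cb5ca5c95c85c75c65c55c45c35c25c15c05bf5be5bd5bc5bb5ba5b95b85b75b65b55b45b35b25b15b05af5ae5ad5ac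5ab5aa5a95a85a75a65a55a45a35a25a15a059f59e59d59c59b59a59959859759659559459359259159058f58e58d58c58b58a58958858758658558458358258158057f57e57d57c57b57a57957857757657557457357257157056f56e56d56c56b56a56956856756656556456356256156055f55e55d55c55b55a55955855755655555455355255155054f54e54d54c54b54a54954854754654554454354254154053f53e53d53c53b53a53953853753653553453353253153052f52e52d52c52b52a52952852752652552452352252152051f51e51d51c51b51a51951851751651551451351251151050f50e50d50c50b50a5095085075065055045035025015004ff4fe4fd4fc4fb4fa4f94f84f74f64f54f44f34f24f14f04ef4ee4ed4ec4eb4ea4e94e84e74e64e54e44e34e24e14e04df4de4dd4dc4db4da4d94d84d74d64d54d44d34d24d14d04cf4ce4cd4cc4cb4ca4c94c84c74c64c54c44c34c24c14c04bf4be4bd4bc4bb4ba4b94b84b74b64b54b44b34b24b14b04af4ae4ad4ac4ab4aa4a94a84a74a64a54a44a34a24a14a049f49e49d49c49b49a49949849749649549449349249149048f48e48d48c48b48a48948848748648548448348248148047f47e47d47c47b47a4794784774764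7547447347247147046f46e46d46c46b46a46946846746646546446346246146045f45e45d45c45b45a45945845745645545445345245145044f44e44d44c44b44a44944844744644544444344244144043f43e43d43c43b43a43943843743643543443343243143042f42e42d42c42b42a42942842742642542442342242142041f41e41d41c41b41a41941841741641541441341241141040f40e40d40c40b40a4094084074064054044034024014003ff3fe3fd3fc3fb3fa3f93f83f73f63f53f43f33f23f13f03ef3ee3ed3ec3eb3ea3e93e83e73e63e53e43e33e23e13e03df3de3dd3dc3db3da3d93d83d73d63d53d43d33d23d13d03cf3ce3cd3cc3cb3ca3c93c83c73c63c53c43c33c23c13c03bf3be3bd3bc3bb3ba3b93b83b73b63b53b43b33b23b13b03af3ae3ad3ac3ab3aa3a93a83a73a63a53a43a33a23a13a039f39e39d39c39b39a39939839739639539439339239139038f38e38d38c38b38a38938838738638538438338238138037f37e37d37c37b37a37937837737637537437337237137036f36e36d36c36b36a36936836736636536436336236136035f35e35d35c35b35a35935835735635535435335235135034f34e34d34c34b34a34934834734634534434334234134033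f33e33d33c33b33a33933833733633533433333233133032f32e32d32c32b32a32932832732632532432332232132031f31e31d31c31b31a31931831731631531431331231131030f30e30d30c30b30a3093083073063053043033023013002ff2fe2fd2fc2fb2fa2f92f82f72f62f52f42f32f22f12f02ef2ee2ed2ec2eb2ea2e92e82e72e62e52e42e32e22e12e02df2de2dd2dc2db2da2d92d82d72d62d52d42d32d22d12d02cf2ce2cd2cc2cb2ca2c92c82c72c62c52c42c32c22c12c02bf2be2bd2bc2bb2ba2b92b82b72b62b52b42b32b22b12b02af2ae2ad2ac2ab2aa2a92a82a72a62a52a42a32a22a12a029f29e29d29c29b29a29929829729629529429329229129028f28e28d28c28b28a28928828728628528428328228128027f27e27d27c27b27a27927827727627527427327227127026f26e26d26c26b26a26926826726626526426326226126025f25e25d25c25b25a25925825725625525425325225125024f24e24d24c24b24a24924824724624524424324224124023f23e23d23c23b23a23923823723623523423323223123022f22e22d22c22b22a22922822722622522422322222122021f21e21d21c21b21a21921821721621521421321221121020f20e20d20c20b20a209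2082072062052042032022012001ff1fe1fd1fc1fb1fa1f91f81f71f61f51f41f31f21f11f01ef1ee1ed1ec1eb1ea1e91e81e71e61e51e41e31e21e11e01df1de1dd1dc1db1da1d91d81d71d61d51d41d31d21d11d01cf1ce1cd1cc1cb1ca1c91c81c71c61c51c41c31c21c11c01bf1be1bd1bc1bb1ba1b91b81b71b61b51b41b31b21b11b01af1ae1ad1ac1ab1aa1a91a81a71a61a51a41a31a21a11a019f19e19d19c19b19a19919819719619519419319219119018f18e18d18c18b18a18918818718618518418318218118017f17e17d17c17b17a17917817717617517417317217117016f16e16d16c16b16a16916816716616516416316216116015f15e15d15c15b15a15915815715615515415315215115014f14e14d14c14b14a14914814714614514414314214114013f13e13d13c13b13a13913813713613513413313213113012f12e12d12c12b12a12912812712612512412312212112011f11e11d11c11b11a11911811711611511411311211111010f10e10d10c10b10a1091081071061051041031021011000ff0fe0fd0fc0fb0fa0f90f80f70f60f50f40f30f20f10f00ef0ee0ed0ec0eb0ea0e90e80e70e60e50e40e30e20e10e00df0de0dd0dc0db0da0d90d80d70d60d50d40d30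d20d10d00cf0ce0cd0cc0cb0ca0c90c80c70c60c50c40c30c20c10c00bf0be0bd0bc0bb0ba0b90b80b70b60b50b40b30b20b10b00af0ae0ad0ac0ab0aa0a90a80a70a60a50a40a30a20a10a009f09e09d09c09b09a09909809709609509409309209109008f08e08d08c08b08a08908808708608508408308208108007f07e07d07c07b07a07907807707607507407307207107006f06e06d06c06b06a06906806706606506406306206106005f05e05d05c05b05a05905805705605505405305205105004f04e04d04c04b04a04904804704604504404304204104003f03e03d03c03b03a03903803703603503403303203103002f02e02d02c02b02a02902802702602502402302202102001f01e01d01c01b01a01901801701601501401301201101000f00e00d00c00b00a009008007006005004003002001000fffffeffdffcffbffaff9ff8ff7ff6ff5ff4ff3ff2ff1ff0feffeefedfecfebfeafe9fe8fe7fe6fe5fe4fe3fe2fe1fe0fdffdefddfdcfdbfdafd9fd8fd7fd6fd5fd4fd3fd2fd1fd0fcffcefcdfccfcbfcafc9fc8fc7fc6fc5fc4fc3fc2fc1fc0fbffbefbdfbcfbbfbafb9fb8fb7fb6fb5fb4fb3fb2fb1fb0faffaefadfacfabfaafa9fa8fa7fa6fa5fa4fa3fa2fa1fa0f9ff9ef9df9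cf9bf9af99f98f97f96f95f94f93f92f91f90f8ff8ef8df8cf8bf8af89f88f87f86f85f84f83f82f81f80f7ff7ef7df7cf7bf7af79f78f77f76f75f74f73f72f71f70f6ff6ef6df6cf6bf6af69f68f67f66f65f64f63f62f61f60f5ff5ef5df5cf5bf5af59f58f57f56f55f54f53f52f51f50f4ff4ef4df4cf4bf4af49f48f47f46f45f44f43f42f41f40f3ff3ef3df3cf3bf3af39f38f37f36f35f34f33f32f31f30f2ff2ef2df2cf2bf2af29f28f27f26f25f24f23f22f21f20f1ff1ef1df1cf1bf1af19f18f17f16f15f14f13f12f11f10f0ff0ef0df0cf0bf0af09f08f07f06f05f04f03f02f01f00effefeefdefcefbefaef9ef8ef7ef6ef5ef4ef3ef2ef1ef0eefeeeeedeeceebeeaee9ee8ee7ee6ee5ee4ee3ee2ee1ee0edfedeeddedcedbedaed9ed8ed7ed6ed5ed4ed3ed2ed1ed0ecfeceecdeccecbecaec9ec8ec7ec6ec5ec4ec3ec2ec1ec0ebfebeebdebcebbebaeb9eb8eb7eb6eb5eb4eb3eb2eb1eb0eafeaeeadeaceabeaaea9ea8ea7ea6ea5ea4ea3ea2ea1ea0e9fe9ee9de9ce9be9ae99e98e97e96e95e94e93e92e91e90e8fe8ee8de8ce8be8ae89e88e87e86e85e84e83e82e81e80e7fe7ee7de7ce7be7ae79e78e77e76e75e74e73e72e71e70e6fe6ee6de6ce6be6ae69e68e67e66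e65e64e63e62e61e60e5fe5ee5de5ce5be5ae59e58e57e56e55e54e53e52e51e50e4fe4ee4de4ce4be4ae49e48e47e46e45e44e43e42e41e40e3fe3ee3de3ce3be3ae39e38e37e36e35e34e33e32e31e30e2fe2ee2de2ce2be2ae29e28e27e26e25e24e23e22e21e20e1fe1ee1de1ce1be1ae19e18e17e16e15e14e13e12e11e10e0fe0ee0de0ce0be0ae09e08e07e06e05e04e03e02e01e00dffdfedfddfcdfbdfadf9df8df7df6df5df4df3df2df1df0defdeededdecdebdeade9de8de7de6de5de4de3de2de1de0ddfddedddddcddbddadd9dd8dd7dd6dd5dd4dd3dd2dd1dd0dcfdcedcddccdcbdcadc9dc8dc7dc6dc5dc4dc3dc2dc1dc0dbfdbedbddbcdbbdbadb9db8db7db6db5db4db3db2db1db0dafdaedaddacdabdaada9da8da7da6da5da4da3da2da1da0d9fd9ed9dd9cd9bd9ad99d98d97d96d95d94d93d92d91d90d8fd8ed8dd8cd8bd8ad89d88d87d86d85d84d83d82d81d80d7fd7ed7dd7cd7bd7ad79d78d77d76d75d74d73d72d71d70d6fd6ed6dd6cd6bd6ad69d68d67d66d65d64d63d62d61d60d5fd5ed5dd5cd5bd5ad59d58d57d56d55d54d53d52d51d50d4fd4ed4dd4cd4bd4ad49d48d47d46d45d44d43d42d41d40d3fd3ed3dd3cd3bd3ad39d38d37d36d35d34d33d32d31d30d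2fd2ed2dd2cd2bd2ad29d28d27d26d25d24d23d22d21d20d1fd1ed1dd1cd1bd1ad19d18d17d16d15d14d13d12d11d10d0fd0ed0dd0cd0bd0ad09d08d07d06d05d04d03d02d01d00cffcfecfdcfccfbcfacf9cf8cf7cf6cf5cf4cf3cf2cf1cf0cefceecedceccebceace9ce8ce7ce6ce5ce4ce3ce2ce1ce0cdfcdecddcdccdbcdacd9cd8cd7cd6cd5cd4cd3cd2cd1cd0ccfcceccdcccccbccacc9cc8cc7cc6cc5cc4cc3cc2cc1cc0cbfcbecbdcbccbbcbacb9cb8cb7cb6cb5cb4cb3cb2cb1cb0cafcaecadcaccabcaaca9ca8ca7ca6ca5ca4ca3ca2ca1ca0c9fc9ec9dc9cc9bc9ac99c98c97c96c95c94c93c92c91c90c8fc8ec8dc8cc8bc8ac89c88c87c86c85c84c83c82c81c80c7fc7ec7dc7cc7bc7ac79c78c77c76c75c74c73c72c71c70c6fc6ec6dc6cc6bc6ac69c68c67c66c65c64c63c62c61c60c5fc5ec5dc5cc5bc5ac59c58c57c56c55c54c53c52c51c50c4fc4ec4dc4cc4bc4ac49c48c47c46c45c44c43c42c41c40c3fc3ec3dc3cc3bc3ac39c38c37c36c35c34c33c32c31c30c2fc2ec2dc2cc2bc2ac29c28c27c26c25c24c23c22c21c20c1fc1ec1dc1cc1bc1ac19c18c17c16c15c14c13c12c11c10c0fc0ec0dc0cc0bc0ac09c08c07c06c05c04c03c02c01c00bffbfebfdbfcbfbbfabf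9bf8bf7bf6bf5bf4bf3bf2bf1bf0befbeebedbecbebbeabe9be8be7be6be5be4be3be2be1be0bdfbdebddbdcbdbbdabd9bd8bd7bd6bd5bd4bd3bd2bd1bd0bcfbcebcdbccbcbbcabc9bc8bc7bc6bc5bc4bc3bc2bc1bc0bbfbbebbdbbcbbbbbabb9bb8bb7bb6bb5bb4bb3bb2bb1bb0bafbaebadbacbabbaaba9ba8ba7ba6ba5ba4ba3ba2ba1ba0b9fb9eb9db9cb9bb9ab99b98b97b96b95b94b93b92b91b90b8fb8eb8db8cb8bb8ab89b88b87b86b85b84b83b82b81b80b7fb7eb7db7cb7bb7ab79b78b77b76b75b74b73b72b71b70b6fb6eb6db6cb6bb6ab69b68b67b66b65b64b63b62b61b60b5fb5eb5db5cb5bb5ab59b58b57b56b55b54b53b52b51b50b4fb4eb4db4cb4bb4ab49b48b47b46b45b44b43b42b41b40b3fb3eb3db3cb3bb3ab39b38b37b36b35b34b33b32b31b30b2fb2eb2db2cb2bb2ab29b28b27b26b25b24b23b22b21b20b1fb1eb1db1cb1bb1ab19b18b17b16b15b14b13b12b11b10b0fb0eb0db0cb0bb0ab09b08b07b06b05b04b03b02b01b00affafeafdafcafbafaaf9af8af7af6af5af4af3af2af1af0aefaeeaedaecaebaeaae9ae8ae7ae6ae5ae4ae3ae2ae1ae0adfadeaddadcadbadaad9ad8ad7ad6ad5ad4ad3ad2ad1ad0acfaceacdaccacbacaac9ac8ac7ac6ac5ac4ac3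ac2ac1ac0abfabeabdabcabbabaab9ab8ab7ab6ab5ab4ab3ab2ab1ab0aafaaeaadaacaabaaaaa9aa8aa7aa6aa5aa4aa3aa2aa1aa0a9fa9ea9da9ca9ba9aa99a98a97a96a95a94a93a92a91a90a8fa8ea8da8ca8ba8aa89a88a87a86a85a84a83a82a81a80a7fa7ea7da7ca7ba7aa79a78a77a76a75a74a73a72a71a70a6fa6ea6da6ca6ba6aa69a68a67a66a65a64a63a62a61a60a5fa5ea5da5ca5ba5aa59a58a57a56a55a54a53a52a51a50a4fa4ea4da4ca4ba4aa49a48a47a46a45a44a43a42a41a40a3fa3ea3da3ca3ba3aa39a38a37a36a35a34a33a32a31a30a2fa2ea2da2ca2ba2aa29a28a27a26a25a24a23a22a21a20a1fa1ea1da1ca1ba1aa19a18a17a16a15a14a13a12a11a10a0fa0ea0da0ca0ba0aa09a08a07a06a05a04a03a02a01a009ff9fe9fd9fc9fb9fa9f99f89f79f69f59f49f39f29f19f09ef9ee9ed9ec9eb9ea9e99e89e79e69e59e49e39e29e19e09df9de9dd9dc9db9da9d99d89d79d69d59d49d39d29d19d09cf9ce9cd9cc9cb9ca9c99c89c79c69c59c49c39c29c19c09bf9be9bd9bc9bb9ba9b99b89b79b69b59b49b39b29b19b09af9ae9ad9ac9ab9aa9a99a89a79a69a59a49a39a29a19a099f99e99d99c99b99a99999899799699599499399299199098f98e98d9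8c98b98a98998898798698598498398298198097f97e97d97c97b97a97997897797697597497397297197096f96e96d96c96b96a96996896796696596496396296196095f95e95d95c95b95a95995895795695595495395295195094f94e94d94c94b94a94994894794694594494394294194093f93e93d93c93b93a93993893793693593493393293193092f92e92d92c92b92a92992892792692592492392292192091f91e91d91c91b91a91991891791691591491391291191090f90e90d90c90b90a9099089079069059049039029019008ff8fe8fd8fc8fb8fa8f98f88f78f68f58f48f38f28f18f08ef8ee8ed8ec8eb8ea8e98e88e78e68e58e48e38e28e18e08df8de8dd8dc8db8da8d98d88d78d68d58d48d38d28d18d08cf8ce8cd8cc8cb8ca8c98c88c78c68c58c48c38c28c18c08bf8be8bd8bc8bb8ba8b98b88b78b68b58b48b38b28b18b08af8ae8ad8ac8ab8aa8a98a88a78a68a58a48a38a28a18a089f89e89d89c89b89a89989889789689589489389289189088f88e88d88c88b88a88988888788688588488388288188087f87e87d87c87b87a87987887787687587487387287187086f86e86d86c86b86a86986886786686586486386286186085f85e85d85c85b85a85985885785685585485385285185084f84e84d84c84b84a84984884784684584484384284184083f83e83d83c83b83a83983883783683583483383283183082f82e82d82c82b82a82982882782682582482382282182081f81e81d81c81b81a81981881781681581481381281181080f80e80d80c80b80a809808807806805804803802801800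

/-- the table of a generator -/
def tab (g : Gn) : Nat :=
  @Gn.rec (fun _ => Nat) T0 T1 T2 T3 T4 T5 T6 T7 T8 T9 T10 T11 g

/-- the mask `2^k` of a generator -/
def mk (g : Gn) : Nat :=
  @Gn.rec (fun _ => Nat) 1 2 4 8 16 32 64 128 256 512 1024 2048 g

/-- the square of a generator, as a code (`0` or the mask of the next generator) -/
def sqm (g : Gn) : Nat :=
  @Gn.rec (fun _ => Nat) 0 4 0 0 32 0 0 256 0 0 2048 0 g

/-- for `k < j`: `g_k g_j = g_j g_k c` with this word `c` -/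
def cw : Gn → Gn → List Gn
  | .a0, .a4 => [.a2]
  | .a0, .a7 => [.a2, .a3, .a5]
  | .a0, .a8 => [.a5]
  | .a0, .a9 => [.a3, .a6]
  | .a0, .a10 => [.a1, .a2, .a3, .a4, .a6, .a8, .a9]
  | .a0, .a11 => [.a2, .a3, .a4, .a5, .a6, .a7, .a9]
  | .a1, .a4 => [.a3]
  | .a1, .a6 => [.a5]
  | .a1, .a9 => [.a5, .a6, .a8]
  | .a1, .a10 => [.a3, .a4, .a7, .a8, .a9]
  | .a1, .a11 => [.a5, .a8, .a9]
  | .a2, .a9 => [.a5]
  | .a2, .a10 => [.a3, .a5, .a8]
  | .a2, .a11 => [.a5, .a6, .a8]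
  | .a3, .a7 => [.a5]
  | .a3, .a10 => [.a5, .a6, .a8]
  | .a3, .a11 => [.a8]
  | .a4, .a7 => [.a6]
  | .a4, .a9 => [.a8]
  | .a6, .a10 => [.a8]
  | .a7, .a10 => [.a9]
  | _, _ => []

end Cfsg.Agent.H782.TF
end
end

-- part: H782/TF/TabChk
section
/-!
# S5262, q = 2: kernel checks of the tables (helper782)
-/

set_option autoImplicit false
set_option maxRecDepth 100000

noncomputable section

namespace Cfsg.Agent.H782.TF

/-- right multiplication of codes by a generator -/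
def rm (g : Gn) (x : Nat) : Nat := Nat.land (Nat.shiftRight (tab g) (Nat.mul 12 x)) 4095

/-- right multiplication by a word -/
def ap (w : List Gn) : Nat → Nat :=
  @List.rec Gn (fun _ => Nat → Nat) (fun x => x) (fun g _ ih x => ih (rm g x)) w

/-- `P i` for all `i < n` -/
def loopAll (P : Nat → Bool) (n : Nat) : Bool :=
  @Nat.rec (fun _ => Bool) true (fun i ih => cond (P i) ih false) n

/-- the tail of `t * g` -/
def phi (g : Gn) (t : Nat) : Nat := Nat.sub (rm g t) (mk g)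

/-- the relation check -/
def chkA (k j : Gn) : Bool :=
  loopAll (fun u =>
    Nat.beq (ap (cw k j) (phi k (Nat.add (Nat.mul u (Nat.mul 2 (mk k))) (mk j))))
      (rm j (phi k (Nat.mul u (Nat.mul 2 (mk k)))))) (Nat.div (mk j) (Nat.mul 2 (mk k)))

/-- the table is determined by its tails -/
def chkB (k : Gn) : Bool :=
  loopAll (fun n =>
    Nat.beq (rm k n)
      (cond (Nat.beq (Nat.land n (mk k)) 0)
        (Nat.add (Nat.mod n (mk k)) (Nat.add (mk k) (phi k (Nat.sub n (Nat.mod n (Nat.mul 2 (mk k)))))))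
        (Nat.add (Nat.mod n (mk k)) (Nat.xor (phi k (Nat.sub n (Nat.mod n (Nat.mul 2 (mk k))))) (sqm k))))) 4096

/-- low bits -/
def chkC (k : Gn) : Bool :=
  loopAll (fun n =>
    Nat.beq (Nat.mod (rm k n) (Nat.mul 2 (mk k))) (Nat.xor (Nat.mod n (Nat.mul 2 (mk k))) (mk k))) 4096

theorem chkB0 : chkB .a0 = true := by decide +kernel
theorem chkC0 : chkC .a0 = true := by decide +kernel
theorem chkB1 : chkB .a1 = true := by decide +kernel
theorem chkC1 : chkC .a1 = true := by decide +kernel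
theorem chkB2 : chkB .a2 = true := by decide +kernel
theorem chkC2 : chkC .a2 = true := by decide +kernel
theorem chkB3 : chkB .a3 = true := by decide +kernel
theorem chkC3 : chkC .a3 = true := by decide +kernel
theorem chkB4 : chkB .a4 = true := by decide +kernel
theorem chkC4 : chkC .a4 = true := by decide +kernel
theorem chkB5 : chkB .a5 = true := by decide +kernel
theorem chkC5 : chkC .a5 = true := by decide +kernel
theorem chkB6 : chkB .a6 = true := by decide +kernel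
theorem chkC6 : chkC .a6 = true := by decide +kernel
theorem chkB7 : chkB .a7 = true := by decide +kernel
theorem chkC7 : chkC .a7 = true := by decide +kernel
theorem chkB8 : chkB .a8 = true := by decide +kernel
theorem chkC8 : chkC .a8 = true := by decide +kernel
theorem chkB9 : chkB .a9 = true := by decide +kernel
theorem chkC9 : chkC .a9 = true := by decide +kernel
theorem chkB10 : chkB .a10 = true := by decide +kernel
theorem chkC10 : chkC .a10 = true := by decide +kernel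
theorem chkB11 : chkB .a11 = true := by decide +kernel
theorem chkC11 : chkC .a11 = true := by decide +kernel
theorem chkA_0_1 : chkA .a0 .a1 = true := by decide +kernel
theorem chkA_0_2 : chkA .a0 .a2 = true := by decide +kernel
theorem chkA_0_3 : chkA .a0 .a3 = true := by decide +kernel
theorem chkA_0_4 : chkA .a0 .a4 = true := by decide +kernel
theorem chkA_0_5 : chkA .a0 .a5 = true := by decide +kernel
theorem chkA_0_6 : chkA .a0 .a6 = true := by decide +kernel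
theorem chkA_0_7 : chkA .a0 .a7 = true := by decide +kernel
theorem chkA_0_8 : chkA .a0 .a8 = true := by decide +kernel
theorem chkA_0_9 : chkA .a0 .a9 = true := by decide +kernel
theorem chkA_0_10 : chkA .a0 .a10 = true := by decide +kernel
theorem chkA_0_11 : chkA .a0 .a11 = true := by decide +kernel
theorem chkA_1_2 : chkA .a1 .a2 = true := by decide +kernel
theorem chkA_1_3 : chkA .a1 .a3 = true := by decide +kernel
theorem chkA_1_4 : chkA .a1 .a4 = true := by decide +kernel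
theorem chkA_1_5 : chkA .a1 .a5 = true := by decide +kernel
theorem chkA_1_6 : chkA .a1 .a6 = true := by decide +kernel
theorem chkA_1_7 : chkA .a1 .a7 = true := by decide +kernel
theorem chkA_1_8 : chkA .a1 .a8 = true := by decide +kernel
theorem chkA_1_9 : chkA .a1 .a9 = true := by decide +kernel
theorem chkA_1_10 : chkA .a1 .a10 = true := by decide +kernel
theorem chkA_1_11 : chkA .a1 .a11 = true := by decide +kernel
theorem chkA_2_3 : chkA .a2 .a3 = true := by decide +kernel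
theorem chkA_2_4 : chkA .a2 .a4 = true := by decide +kernel
theorem chkA_2_5 : chkA .a2 .a5 = true := by decide +kernel
theorem chkA_2_6 : chkA .a2 .a6 = true := by decide +kernel
theorem chkA_2_7 : chkA .a2 .a7 = true := by decide +kernel
theorem chkA_2_8 : chkA .a2 .a8 = true := by decide +kernel
theorem chkA_2_9 : chkA .a2 .a9 = true := by decide +kernel
theorem chkA_2_10 : chkA .a2 .a10 = true := by decide +kernel
theorem chkA_2_11 : chkA .a2 .a11 = true := by decide +kernel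
theorem chkA_3_4 : chkA .a3 .a4 = true := by decide +kernel
theorem chkA_3_5 : chkA .a3 .a5 = true := by decide +kernel
theorem chkA_3_6 : chkA .a3 .a6 = true := by decide +kernel
theorem chkA_3_7 : chkA .a3 .a7 = true := by decide +kernel
theorem chkA_3_8 : chkA .a3 .a8 = true := by decide +kernel
theorem chkA_3_9 : chkA .a3 .a9 = true := by decide +kernel
theorem chkA_3_10 : chkA .a3 .a10 = true := by decide +kernel
theorem chkA_3_11 : chkA .a3 .a11 = true := by decide +kernel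
theorem chkA_4_5 : chkA .a4 .a5 = true := by decide +kernel
theorem chkA_4_6 : chkA .a4 .a6 = true := by decide +kernel
theorem chkA_4_7 : chkA .a4 .a7 = true := by decide +kernel
theorem chkA_4_8 : chkA .a4 .a8 = true := by decide +kernel
theorem chkA_4_9 : chkA .a4 .a9 = true := by decide +kernel
theorem chkA_4_10 : chkA .a4 .a10 = true := by decide +kernel
theorem chkA_4_11 : chkA .a4 .a11 = true := by decide +kernel
theorem chkA_5_6 : chkA .a5 .a6 = true := by decide +kernel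
theorem chkA_5_7 : chkA .a5 .a7 = true := by decide +kernel
theorem chkA_5_8 : chkA .a5 .a8 = true := by decide +kernel
theorem chkA_5_9 : chkA .a5 .a9 = true := by decide +kernel
theorem chkA_5_10 : chkA .a5 .a10 = true := by decide +kernel
theorem chkA_5_11 : chkA .a5 .a11 = true := by decide +kernel
theorem chkA_6_7 : chkA .a6 .a7 = true := by decide +kernel
theorem chkA_6_8 : chkA .a6 .a8 = true := by decide +kernel
theorem chkA_6_9 : chkA .a6 .a9 = true := by decide +kernel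
theorem chkA_6_10 : chkA .a6 .a10 = true := by decide +kernel
theorem chkA_6_11 : chkA .a6 .a11 = true := by decide +kernel
theorem chkA_7_8 : chkA .a7 .a8 = true := by decide +kernel
theorem chkA_7_9 : chkA .a7 .a9 = true := by decide +kernel
theorem chkA_7_10 : chkA .a7 .a10 = true := by decide +kernel
theorem chkA_7_11 : chkA .a7 .a11 = true := by decide +kernel
theorem chkA_8_9 : chkA .a8 .a9 = true := by decide +kernel
theorem chkA_8_10 : chkA .a8 .a10 = true := by decide +kernel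
theorem chkA_8_11 : chkA .a8 .a11 = true := by decide +kernel
theorem chkA_9_10 : chkA .a9 .a10 = true := by decide +kernel
theorem chkA_9_11 : chkA .a9 .a11 = true := by decide +kernel
theorem chkA_10_11 : chkA .a10 .a11 = true := by decide +kernel

theorem rm_zero : ∀ g : Gn, rm g 0 = mk g := fun g => by cases g <;> decide +kernel

end Cfsg.Agent.H782.TF
end
end

-- part: H782/TF/SiftDef
section
/-!
# S5262, q = 2: sifting, definitions evaluated by the kernel (helper782)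
-/

set_option autoImplicit false

noncomputable section

namespace Cfsg.Agent.H782.TF

/-- an entry of a polycyclic sequence: the mask of its leading bit, a word of the element, a word of its inverse -/
structure Ent where
  m : Nat
  w : List Gn
  v : List Gn

/-- all elements of a list -/
def allL {α : Type} (P : α → Bool) (l : List α) : Bool :=
  @List.rec α (fun _ => Bool) true (fun a _ ih => cond (P a) ih false) l

/-- some element of a list -/
def anyL {α : Type} (P : α → Bool) (l : List α) : Bool :=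
  @List.rec α (fun _ => Bool) false (fun a _ ih => cond (P a) true ih) l

/-- the residue of a code modulo a polycyclic sequence -/
def sift (P : List Ent) : Nat → Nat :=
  @List.rec Ent (fun _ => Nat → Nat) (fun x => x)
    (fun e _ ih x => ih (cond (Nat.beq (Nat.land x e.m) 0) x (ap e.w x))) P

/-- the word starts with the generator of mask `m`, and the other letters are deeper -/
def hdok (m : Nat) (w : List Gn) : Bool :=
  @List.rec Gn (fun _ => Bool) false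
    (fun g r _ => cond (Nat.beq (mk g) m) (allL (fun h => Nat.blt m (mk h)) r) false) w

/-- `v` is the inverse of `w` -/
def invok (w v : List Gn) : Bool := Nat.beq (ap v (ap w 0)) 0

/-- the polycyclic sequence is consistent -/
def valid (P : List Ent) : Bool :=
  @List.rec Ent (fun _ => Bool) true
    (fun e P ih =>
      cond (hdok e.m e.w)
        (cond (invok e.w e.v)
          (cond (allL (fun e' => Nat.blt e.m e'.m) P)
            (cond (Nat.beq (sift P (ap e.w (ap e.w 0))) 0)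
              (cond (allL (fun e' => Nat.beq (sift P (ap e.w (ap e'.w (ap e.v 0)))) 0) P) ih false)
              false) false) false) false) P

end Cfsg.Agent.H782.TF
end
end
end

-- part: H240/TF/B2Def_mg
section
prune_inst 0xc0002004000002000000000000003c2282000000000b000001a00702068044000d020620a8000600080080040030000002000000000000000000000041180080802012021040a00006008f009000000000000000000000000000000000000000000000000
set_option linter.all false
open scoped Cfsg.Agent.FastGrp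

-- part: H240/TF/B2Def
section
/-!
# S5262, `q = 2`, B-side: the finite parts (kernel checks)
-/

set_option autoImplicit false

namespace Cfsg.Agent.H240.TF

open Cfsg Cfsg.FusionSystem Cfsg.Agent.H756.PU Cfsg.Agent.H802 Cfsg.Agent.H745.TF

universe u v

/-- (FINB) an automorphism of `QB` which centralizes `ρ0` and `V`, and for which `s · c_x1 · i` is an involution for some
inner `i`, is inner -/
def StFinB : Prop :=
  ∀ {K : Type u} [Field K] {σ : K →+* K}, HypK σ 0 → ∀ {U : Type v} [Group U] (T : TF σ U)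
    (cx w0 ρ0 s : MulAut T.QB), (∀ e : T.QB, ((cx e : T.QB) : U) = T.x1 1 * e * (T.x1 1)⁻¹) → T.IsWb w0 →
    ρ0 = cx * w0 → s * ρ0 = ρ0 * s → (∀ e : T.QB, (e : U) ∈ T.V → s e = e) →
    (∃ i ∈ Inn T.QB, (s * cx * i) * (s * cx * i) = 1) → s ∈ Inn T.QB

/-- (RHO) `ρ0 = c_x1 ∘ w0` has order 3 -/
def StRhoB : Prop :=
  ∀ {K : Type u} [Field K] {σ : K →+* K}, HypK σ 0 → ∀ {U : Type v} [Group U] (T : TF σ U)
    (cx w0 : MulAut T.QB), (∀ e : T.QB, ((cx e : T.QB) : U) = T.x1 1 * e * (T.x1 1)⁻¹) → T.IsWb w0 →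
    (cx * w0) * (cx * w0) * (cx * w0) = 1

end Cfsg.Agent.H240.TF
end

-- part: H782/TF/NodeDef
section
/-!
# S5262, q = 2: certificates for the nodes of the subgroup tree, definitions evaluated by the kernel (helper782)
-/

set_option autoImplicit false

noncomputable section

namespace Cfsg.Agent.H782.TF

/-- an element (word) with its inverse -/
structure Gv where
  w : List Gn
  v : List Gn

/-- a derived element: `w * ∏ l2 = ∏ l1` -/
structure Dv where
  w : List Gn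
  l1 : List Nat
  l2 : List Nat

/-- a child: a polycyclic sequence, the index of the pivot, a conjugating element -/
structure Ch where
  P : List Ent
  p : Nat
  g : List Gn
  gi : List Gn

/-- entry of a list -/
def nthW (l : List (List Gn)) : Nat → List Gn :=
  @List.rec (List Gn) (fun _ => Nat → List Gn) (fun _ => [])
    (fun a _ ih n => @Nat.rec (fun _ => List Gn) a (fun m _ => ih m) n) l

/-- right multiplication by a product of listed words -/
def catap (env : List (List Gn)) (l : List Nat) : Nat → Nat :=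
  @List.rec Nat (fun _ => Nat → Nat) (fun x => x) (fun i _ ih x => ih (ap (nthW env i) x)) l

/-- derivations -/
def derok (D : List Dv) (k : List (List Gn) → Bool) : List (List Gn) → Bool :=
  @List.rec Dv (fun _ => List (List Gn) → Bool) k
    (fun d _ ih env => cond (Nat.beq (catap env d.l1 0) (catap env d.l2 (ap d.w 0))) (ih (d.w :: env)) false) D

/-- the entries of `P` are among the words of `env` -/
def matchok (env : List (List Gn)) (P : List Ent) : List Nat → Bool :=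
  @List.rec Ent (fun _ => List Nat → Bool) (fun _ => true)
    (fun e _ ih I => @List.rec Nat (fun _ => Bool) false
      (fun i I' _ => cond (Nat.beq (ap e.w 0) (ap (nthW env i) 0)) (ih I') false) I) P

/-- the words -/
def wds (B : List Gv) : List (List Gn) :=
  @List.rec Gv (fun _ => List (List Gn)) [] (fun b _ ih => b.w :: ih) B

/-- `P` is a consistent polycyclic sequence of the group generated by `B` -/
def genchk (B : List Gv) (D : List Dv) (P : List Ent) (I : List Nat) : Bool :=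
  cond (allL (fun b => invok b.w b.v) B)
    (cond (valid P)
      (cond (allL (fun b => Nat.beq (sift P (ap b.w 0)) 0) B) (derok D (fun env => matchok env P I) (wds B)) false)
      false) false

/-- multiplication of codes -/
def mulc (x y : Nat) : Nat :=
  @List.rec Gn (fun _ => Nat → Nat) (fun x => x)
    (fun g _ ih x => ih (cond (Nat.beq (Nat.land y (mk g)) 0) x (rm g x)))
    [.a0, .a1, .a2, .a3, .a4, .a5, .a6, .a7, .a8, .a9, .a10, .a11] x

/-- `k (x y)` for all `y ∈ W(A)` -/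
def enum (A : List Ent) (k : Nat → Bool) : Nat → Bool :=
  @List.rec Ent (fun _ => Nat → Bool) k (fun e _ ih x => cond (ih x) (ih (ap e.w x)) false) A

/-- a step in the construction of characteristic subgroups -/
inductive St
  | cent (a b c : Nat) (R : List Ent)
  | comm (a b : Nat) (R : List Ent) (L : List Gv)
  | phi (a : Nat) (R : List Ent) (L : List (List (List Gn)))
  | om (a : Nat) (R : List Ent) (L : List (List (List Gn)))

/-- `z ∈ C(B)`, `z ∉ W(P)` -/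
def centchk (B : List Gv) (P : List Ent) (z : List Gn) : Bool :=
  cond (Nat.beq (sift P (ap z 0)) 0) false (allL (fun a => Nat.beq (ap a.w (ap z 0)) (ap z (ap a.w 0))) B)

end Cfsg.Agent.H782.TF
end
end

-- part: H782/TF/Code
section
/-!
# S5262, q = 2: the codes compute in every group satisfying the relations (helper782)
-/

set_option autoImplicit false

namespace Cfsg.Agent.H782.TF

/-- the index of a generator -/
def gi : Gn → ℕ
  | .a0 => 0 | .a1 => 1 | .a2 => 2 | .a3 => 3 | .a4 => 4 | .a5 => 5 | .a6 => 6 | .a7 => 7 | .a8 => 8 | .a9 => 9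
  | .a10 => 10 | .a11 => 11

/-- the generator of an index -/
def ig : ℕ → Gn
  | 0 => .a0 | 1 => .a1 | 2 => .a2 | 3 => .a3 | 4 => .a4 | 5 => .a5 | 6 => .a6 | 7 => .a7 | 8 => .a8 | 9 => .a9
  | 10 => .a10 | _ => .a11

theorem gi_lt (g : Gn) : gi g < 12 := by cases g <;> decide

theorem ig_gi (g : Gn) : ig (gi g) = g := by cases g <;> rfl

theorem gi_ig {n : ℕ} (h : n < 12) : gi (ig n) = n := by
  interval_cases n <;> rfl

theorem mk_eq (g : Gn) : mk g = 2 ^ gi g := by cases g <;> rfl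

theorem rm_lt (g : Gn) (x : ℕ) : rm g x < 4096 := by
  have h : rm g x = (tab g >>> (12 * x)) &&& (2 ^ 12 - 1) := rfl
  rw [h, Nat.and_two_pow_sub_one_eq_mod]
  exact Nat.mod_lt _ (by norm_num)

theorem ap_nil (x : ℕ) : ap [] x = x := rfl

theorem ap_cons (g : Gn) (w : List Gn) (x : ℕ) : ap (g :: w) x = ap w (rm g x) := rfl

theorem ap_lt (w : List Gn) {x : ℕ} (h : x < 4096) : ap w x < 4096 := by
  induction w generalizing x with
  | nil => exact h
  | cons g w ih => exact ih (rm_lt g x)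

theorem loopAll_succ (P : ℕ → Bool) (n : ℕ) : loopAll P (n + 1) = cond (P n) (loopAll P n) false := rfl

theorem loopAll_spec {P : ℕ → Bool} {n : ℕ} (h : loopAll P n = true) : ∀ i < n, P i = true := by
  induction n with
  | zero => intro i hi; omega
  | succ n ih =>
    rw [loopAll_succ] at h
    intro i hi
    cases hp : P n with
    | false => rw [hp] at h; exact absurd h (by simp)
    | true =>
      rw [hp] at h
      rcases Nat.lt_succ_iff_lt_or_eq.1 hi with h1 | h1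
      · exact ih h i h1
      · rw [h1, hp]

theorem chkA_all : ∀ k j : Gn, gi k < gi j → chkA k j = true := by
  intro k j h
  cases k <;> cases j <;> [((exfalso; revert h; decide)); (with_reducible exact chkA_0_1); (with_reducible exact chkA_0_2); (with_reducible exact chkA_0_3);
                           (with_reducible exact chkA_0_4); (with_reducible exact chkA_0_5); (with_reducible exact chkA_0_6); (with_reducible exact chkA_0_7);
                           (with_reducible exact chkA_0_8); (with_reducible exact chkA_0_9); (with_reducible exact chkA_0_10); (with_reducible exact chkA_0_11);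
                           ((exfalso; revert h; decide)); ((exfalso; revert h; decide)); (with_reducible exact chkA_1_2); (with_reducible exact chkA_1_3);
                           (with_reducible exact chkA_1_4); (with_reducible exact chkA_1_5); (with_reducible exact chkA_1_6); (with_reducible exact chkA_1_7);
                           (with_reducible exact chkA_1_8); (with_reducible exact chkA_1_9); (with_reducible exact chkA_1_10); (with_reducible exact chkA_1_11);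
                           ((exfalso; revert h; decide)); ((exfalso; revert h; decide)); ((exfalso; revert h; decide)); (with_reducible exact chkA_2_3);
                           (with_reducible exact chkA_2_4); (with_reducible exact chkA_2_5); (with_reducible exact chkA_2_6); (with_reducible exact chkA_2_7);
                           (with_reducible exact chkA_2_8); (with_reducible exact chkA_2_9); (with_reducible exact chkA_2_10); (with_reducible exact chkA_2_11);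
                           ((exfalso; revert h; decide)); ((exfalso; revert h; decide)); ((exfalso; revert h; decide)); ((exfalso; revert h; decide));
                           (with_reducible exact chkA_3_4); (with_reducible exact chkA_3_5); (with_reducible exact chkA_3_6); (with_reducible exact chkA_3_7);
                           (with_reducible exact chkA_3_8); (with_reducible exact chkA_3_9); (with_reducible exact chkA_3_10); (with_reducible exact chkA_3_11);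
                           ((exfalso; revert h; decide)); ((exfalso; revert h; decide)); ((exfalso; revert h; decide)); ((exfalso; revert h; decide));
                           ((exfalso; revert h; decide)); (with_reducible exact chkA_4_5); (with_reducible exact chkA_4_6); (with_reducible exact chkA_4_7);
                           (with_reducible exact chkA_4_8); (with_reducible exact chkA_4_9); (with_reducible exact chkA_4_10); (with_reducible exact chkA_4_11);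
                           ((exfalso; revert h; decide)); ((exfalso; revert h; decide)); ((exfalso; revert h; decide)); ((exfalso; revert h; decide));
                           ((exfalso; revert h; decide)); ((exfalso; revert h; decide)); (with_reducible exact chkA_5_6); (with_reducible exact chkA_5_7);
                           (with_reducible exact chkA_5_8); (with_reducible exact chkA_5_9); (with_reducible exact chkA_5_10); (with_reducible exact chkA_5_11);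
                           ((exfalso; revert h; decide)); ((exfalso; revert h; decide)); ((exfalso; revert h; decide)); ((exfalso; revert h; decide));
                           ((exfalso; revert h; decide)); ((exfalso; revert h; decide)); ((exfalso; revert h; decide)); (with_reducible exact chkA_6_7);
                           (with_reducible exact chkA_6_8); (with_reducible exact chkA_6_9); (with_reducible exact chkA_6_10); (with_reducible exact chkA_6_11);
                           ((exfalso; revert h; decide)); ((exfalso; revert h; decide)); ((exfalso; revert h; decide)); ((exfalso; revert h; decide));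
                           ((exfalso; revert h; decide)); ((exfalso; revert h; decide)); ((exfalso; revert h; decide)); ((exfalso; revert h; decide));
                           (with_reducible exact chkA_7_8); (with_reducible exact chkA_7_9); (with_reducible exact chkA_7_10); (with_reducible exact chkA_7_11);
                           ((exfalso; revert h; decide)); ((exfalso; revert h; decide)); ((exfalso; revert h; decide)); ((exfalso; revert h; decide));
                           ((exfalso; revert h; decide)); ((exfalso; revert h; decide)); ((exfalso; revert h; decide)); ((exfalso; revert h; decide));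
                           ((exfalso; revert h; decide)); (with_reducible exact chkA_8_9); (with_reducible exact chkA_8_10); (with_reducible exact chkA_8_11);
                           ((exfalso; revert h; decide)); ((exfalso; revert h; decide)); ((exfalso; revert h; decide)); ((exfalso; revert h; decide));
                           ((exfalso; revert h; decide)); ((exfalso; revert h; decide)); ((exfalso; revert h; decide)); ((exfalso; revert h; decide));
                           ((exfalso; revert h; decide)); ((exfalso; revert h; decide)); (with_reducible exact chkA_9_10); (with_reducible exact chkA_9_11);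
                           ((exfalso; revert h; decide)); ((exfalso; revert h; decide)); ((exfalso; revert h; decide)); ((exfalso; revert h; decide));
                           ((exfalso; revert h; decide)); ((exfalso; revert h; decide)); ((exfalso; revert h; decide)); ((exfalso; revert h; decide));
                           ((exfalso; revert h; decide)); ((exfalso; revert h; decide)); ((exfalso; revert h; decide)); (with_reducible exact chkA_10_11);
                           ((exfalso; revert h; decide)); ((exfalso; revert h; decide)); ((exfalso; revert h; decide)); ((exfalso; revert h; decide));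
                           ((exfalso; revert h; decide)); ((exfalso; revert h; decide)); ((exfalso; revert h; decide)); ((exfalso; revert h; decide));
                           ((exfalso; revert h; decide)); ((exfalso; revert h; decide)); ((exfalso; revert h; decide)); ((exfalso; revert h; decide))]

theorem chkB_all : ∀ k : Gn, chkB k = true := by
  intro k
  cases k <;> first
    | with_reducible exact chkB0 | with_reducible exact chkB1 | with_reducible exact chkB2 | with_reducible exact chkB3 | with_reducible exact chkB4 | with_reducible exact chkB5 | with_reducible exact chkB6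
    | with_reducible exact chkB7 | with_reducible exact chkB8 | with_reducible exact chkB9 | with_reducible exact chkB10 | with_reducible exact chkB11

theorem chkC_all : ∀ k : Gn, chkC k = true := by
  intro k
  cases k <;> first
    | with_reducible exact chkC0 | with_reducible exact chkC1 | with_reducible exact chkC2 | with_reducible exact chkC3 | with_reducible exact chkC4 | with_reducible exact chkC5 | with_reducible exact chkC6
    | with_reducible exact chkC7 | with_reducible exact chkC8 | with_reducible exact chkC9 | with_reducible exact chkC10 | with_reducible exact chkC11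

section
variable {U : Type*} [Group U] (γ : ℕ → U)

/-- the product of the generators in the positions `< k` of the code `n` -/
def vc : ℕ → ℕ → U
  | 0, _ => 1
  | k + 1, n => vc k n * (if n.testBit k then γ k else 1)

/-- the value of a code -/
def val (n : ℕ) : U := vc γ 12 n

/-- the value of a word -/
def wv (w : List Gn) : U := (w.map fun g => γ (gi g)).prod

theorem vc_succ (k n : ℕ) : vc γ (k + 1) n = vc γ k n * (if n.testBit k then γ k else 1) := rfl

theorem vc_congr {a b : ℕ} : ∀ m, (∀ i < m, a.testBit i = b.testBit i) → vc γ m a = vc γ m b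
  | 0, _ => rfl
  | m + 1, h => by
    rw [vc, vc, vc_congr m fun i hi => h i (by omega), h m (by omega)]

theorem vc_hi {a : ℕ} : ∀ m, (∀ i < m, a.testBit i = false) → vc γ m a = 1
  | 0, _ => rfl
  | m + 1, h => by
    rw [vc, vc_hi m fun i hi => h i (by omega), h m (by omega)]
    simp

theorem vc_add {lo hi k : ℕ} (h1 : lo < 2 ^ k) (h2 : 2 ^ k ∣ hi) : ∀ m, vc γ m (lo + hi) = vc γ m lo * vc γ m hi := by
  obtain ⟨a, rfl⟩ := h2
  have tb : ∀ j, (lo + 2 ^ k * a).testBit j = if j < k then lo.testBit j else a.testBit (j - k) := by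
    intro j
    rw [add_comm, Nat.testBit_two_pow_mul_add a h1 j]
  have tb2 : ∀ j, (2 ^ k * a).testBit j = if j < k then false else a.testBit (j - k) := by
    intro j
    have := Nat.testBit_two_pow_mul_add a (b := 0) (i := k) (by positivity) j
    simpa using this
  have tb1 : ∀ j, k ≤ j → lo.testBit j = false := fun j hj =>
    Nat.testBit_lt_two_pow (lt_of_lt_of_le h1 (Nat.pow_le_pow_right (by norm_num) hj))
  intro m
  by_cases hm : m ≤ k
  · rw [vc_hi γ (a := 2 ^ k * a) m fun i hi => by rw [tb2, if_pos (by omega)], mul_one]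
    exact vc_congr γ m fun i hi => by rw [tb, if_pos (by omega)]
  · push Not at hm
    obtain ⟨d, rfl⟩ := Nat.exists_eq_add_of_lt hm
    clear hm
    induction d with
    | zero =>
      rw [Nat.add_zero, vc, vc, vc, tb1 k le_rfl, vc_hi γ (a := 2 ^ k * a) k fun i hi => by rw [tb2, if_pos hi],
        vc_congr γ k (b := lo) fun i hi => by rw [tb, if_pos hi], tb, tb2]
      simp
    | succ d ih =>
      have e1 : (lo + 2 ^ k * a).testBit (k + d + 1) = a.testBit (k + d + 1 - k) := by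
        rw [tb, if_neg (by omega)]
      have e2 : (2 ^ k * a).testBit (k + d + 1) = a.testBit (k + d + 1 - k) := by
        rw [tb2, if_neg (by omega)]
      rw [show k + (d + 1) + 1 = (k + d + 1) + 1 by omega, vc_succ, vc_succ γ _ lo, vc_succ γ _ (2 ^ k * a), ih, e1, e2,
        tb1 _ (by omega)]
      simp only [mul_assoc, _root_.mul_ite, _root_.mul_assoc, _root_.mul_one, _root_.Bool.false_eq_true, ↓ _root_.reduceIte]

theorem val_add {lo hi k : ℕ} (h1 : lo < 2 ^ k) (h2 : 2 ^ k ∣ hi) : val γ (lo + hi) = val γ lo * val γ hi :=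
  vc_add γ h1 h2 12

theorem val_zero : val γ 0 = 1 := vc_hi γ 12 fun i _ => Nat.zero_testBit i

theorem vc_pow (i : ℕ) : ∀ m, i < m → vc γ m (2 ^ i) = γ i
  | 0, h => by omega
  | m + 1, h => by
    rw [vc_succ]
    rcases Nat.lt_succ_iff_lt_or_eq.1 h with h1 | h1
    · rw [vc_pow i m h1, Nat.testBit_two_pow_of_ne (by omega)]
      simp
    · subst h1
      rw [vc_hi γ i fun j hj => Nat.testBit_two_pow_of_ne (by omega), Nat.testBit_two_pow_self]
      simp

theorem val_mk (g : Gn) : val γ (mk g) = γ (gi g) := by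
  rw [mk_eq]
  exact vc_pow γ _ 12 (gi_lt g)

theorem wv_nil : wv γ [] = 1 := rfl

theorem wv_cons (g : Gn) (w : List Gn) : wv γ (g :: w) = γ (gi g) * wv γ w := by simp [wv]

theorem wv_append (w v : List Gn) : wv γ (w ++ v) = wv γ w * wv γ v := by simp [wv]

/-- the relations -/
structure Rel : Prop where
  sq : ∀ g : Gn, γ (gi g) * γ (gi g) = val γ (sqm g)
  rel : ∀ k j : Gn, gi k < gi j → γ (gi k) * γ (gi j) = γ (gi j) * γ (gi k) * wv γ (cw k j)

variable {γ}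

theorem val_ap_of {w : List Gn} (h : ∀ g ∈ w, ∀ n < 4096, val γ (rm g n) = val γ n * γ (gi g)) {n : ℕ} (hn : n < 4096) :
    val γ (ap w n) = val γ n * wv γ w := by
  induction w generalizing n with
  | nil => simp [ap_nil, wv_nil]
  | cons g w ih =>
    rw [ap_cons, ih (fun g hg => h g (List.mem_cons_of_mem _ hg)) (rm_lt g n), h g List.mem_cons_self n hn, wv_cons,
      mul_assoc]

theorem cw_lt : ∀ k j : Gn, ∀ g ∈ cw k j, gi k < gi g := by
  intro k j
  cases k <;> cases j <;> decide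

theorem xor_pow_add {p i : ℕ} (hp : 2 ^ (i + 1) ∣ p) : p ^^^ 2 ^ i = 2 ^ i + p := by
  obtain ⟨a, rfl⟩ := hp
  apply Nat.eq_of_testBit_eq
  intro j
  have h1 : (2 : ℕ) ^ i < 2 ^ (i + 1) := Nat.pow_lt_pow_right (by norm_num) (by omega)
  have h2 := Nat.testBit_two_pow_mul_add a h1 j
  have h3 := Nat.testBit_two_pow_mul_add a (b := 0) (i := i + 1) (by positivity) j
  rw [Nat.add_zero] at h3
  rw [Nat.testBit_xor, h3, add_comm (2 ^ i), h2]
  by_cases hj : j < i + 1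
  · simp [hj]
  · rw [if_neg hj, if_neg hj, Nat.testBit_two_pow_of_ne (by omega)]
    simp

theorem xor_pow_sub {p i : ℕ} (hp : 2 ^ (i + 1) ∣ p) : (2 ^ i + p) ^^^ 2 ^ i = p := by
  rw [← xor_pow_add hp, Nat.xor_assoc, Nat.xor_self, Nat.xor_zero]

theorem dvd_cases {p i : ℕ} (hp : 2 ^ i ∣ p) : 2 ^ (i + 1) ∣ p ∨ ∃ r, 2 ^ (i + 1) ∣ r ∧ p = 2 ^ i + r := by
  obtain ⟨a, rfl⟩ := hp
  rcases Nat.even_or_odd' a with ⟨b, rfl | rfl⟩
  · exact Or.inl ⟨b, by ring⟩
  · exact Or.inr ⟨2 ^ (i + 1) * b, ⟨b, rfl⟩, by ring⟩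

theorem val_pow (j : Gn) : val γ (2 ^ gi j) = γ (gi j) := by rw [← mk_eq, val_mk]

theorem val_xor (h : Rel γ) {j : Gn} (hj : sqm j = 0) {p : ℕ} (hp : 2 ^ gi j ∣ p) :
    val γ (p ^^^ 2 ^ gi j) = γ (gi j) * val γ p := by
  have hlt : (2 : ℕ) ^ gi j < 2 ^ (gi j + 1) := Nat.pow_lt_pow_right (by norm_num) (by omega)
  rcases dvd_cases hp with h1 | ⟨r, h1, rfl⟩
  · rw [xor_pow_add h1, val_add γ hlt h1, val_pow]
  · rw [xor_pow_sub h1, val_add γ hlt h1, val_pow, ← mul_assoc, h.sq, hj, val_zero, one_mul]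

theorem sqm_cases : ∀ k : Gn, sqm k = 0 ∨ ∃ j : Gn, gi j = gi k + 1 ∧ sqm j = 0 ∧ sqm k = 2 ^ gi j := by
  intro k
  cases k
  · exact Or.inl rfl
  · exact Or.inr ⟨.a2, rfl, rfl, rfl⟩
  · exact Or.inl rfl
  · exact Or.inl rfl
  · exact Or.inr ⟨.a5, rfl, rfl, rfl⟩
  · exact Or.inl rfl
  · exact Or.inl rfl
  · exact Or.inr ⟨.a8, rfl, rfl, rfl⟩
  · exact Or.inl rfl
  · exact Or.inl rfl
  · exact Or.inr ⟨.a11, rfl, rfl, rfl⟩
  · exact Or.inl rfl

theorem rm_mod (k : Gn) {n : ℕ} (hn : n < 4096) :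
    rm k n % 2 ^ (gi k + 1) = (n % 2 ^ (gi k + 1)) ^^^ 2 ^ gi k := by
  have h := loopAll_spec (chkC_all k) n hn
  have h1 := Nat.eq_of_beq_eq_true h
  rw [mk_eq] at h1
  change rm k n % (2 * 2 ^ gi k) = (n % (2 * 2 ^ gi k)) ^^^ 2 ^ gi k at h1
  rwa [pow_succ, mul_comm (2 ^ gi k) 2]

theorem rm_tail (k : Gn) {t : ℕ} (ht : t < 4096) (hd : 2 ^ (gi k + 1) ∣ t) :
    rm k t = 2 ^ gi k + phi k t ∧ 2 ^ (gi k + 1) ∣ phi k t ∧ phi k t < 4096 := by
  have h := rm_mod k ht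
  rw [Nat.mod_eq_zero_of_dvd hd, Nat.zero_xor] at h
  have hphi : phi k t = rm k t - 2 ^ gi k := by rw [phi, mk_eq]; rfl
  have h1 := Nat.div_add_mod (rm k t) (2 ^ (gi k + 1))
  rw [h] at h1
  have h2 : rm k t - 2 ^ gi k = 2 ^ (gi k + 1) * (rm k t / 2 ^ (gi k + 1)) := by omega
  refine ⟨by rw [hphi]; omega, by rw [hphi, h2]; exact Dvd.intro _ rfl, ?_⟩
  rw [hphi]
  exact lt_of_le_of_lt (Nat.sub_le _ _) (rm_lt k t)

theorem val_tail (h : Rel γ) (k : Gn)
    (IH : ∀ j : Gn, gi k < gi j → ∀ n < 4096, val γ (rm j n) = val γ n * γ (gi j)) :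
    ∀ t : ℕ, t < 4096 → 2 ^ (gi k + 1) ∣ t → val γ t * γ (gi k) = γ (gi k) * val γ (phi k t) := by
  intro t
  induction t using Nat.strong_induction_on with
  | _ t ih =>
    intro ht hd
    rcases Nat.eq_zero_or_pos t with h0 | h0
    · subst h0
      have : phi k 0 = 0 := by rw [phi, rm_zero]; exact Nat.sub_self _
      rw [this, val_zero, one_mul, mul_one]
    · set J := Nat.log2 t with hJ
      have ht0 : t ≠ 0 := by omega
      have hJ1 : 2 ^ J ≤ t := Nat.log2_self_le ht0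
      have hJ2 : t < 2 ^ (J + 1) := Nat.lt_log2_self
      have hJ3 : gi k + 1 ≤ J := (Nat.le_log2 ht0).2 (Nat.le_of_dvd h0 hd)
      have hJ4 : J < 12 := (Nat.log2_lt ht0).2 (by norm_num; exact ht)
      set j := ig J with hj
      have hjJ : gi j = J := gi_ig hJ4
      have hMJ : 2 ^ (gi k + 1) ∣ 2 ^ J := Nat.pow_dvd_pow 2 hJ3
      set t' := t - 2 ^ J with ht'
      have hd' : 2 ^ (gi k + 1) ∣ t' := Nat.dvd_sub hd hMJ
      have hlt' : t' < 2 ^ J := by rw [pow_succ] at hJ2; omega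
      have htt : t = t' + 2 ^ J := by omega
      have ht't : t' < t := by
        have : 0 < 2 ^ J := by positivity
        omega
      have hval : val γ t = val γ t' * γ J := by
        rw [htt, val_add γ hlt' dvd_rfl, ← hjJ, val_pow]
      obtain ⟨u, hu⟩ := hd'
      have hulim : u < Nat.div (mk j) (Nat.mul 2 (mk k)) := by
        rw [mk_eq, mk_eq, hjJ]
        change u < 2 ^ J / (2 * 2 ^ gi k)
        rw [Nat.lt_div_iff_mul_lt' (by rw [← pow_succ']; exact hMJ)]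
        rw [← pow_succ', ← hu]
        exact hlt'
      have hA := Nat.eq_of_beq_eq_true (loopAll_spec (chkA_all k j (by omega)) u hulim)
      rw [mk_eq, mk_eq, hjJ] at hA
      change ap (cw k j) (phi k (u * (2 * 2 ^ gi k) + 2 ^ J)) = rm j (phi k (u * (2 * 2 ^ gi k))) at hA
      have e1 : u * (2 * 2 ^ gi k) = t' := by rw [hu, pow_succ]; ring
      rw [e1, ← htt] at hA
      have hc : ∀ g ∈ cw k j, ∀ n < 4096, val γ (rm g n) = val γ n * γ (gi g) := fun g hg => IH g (cw_lt k j g hg)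
      have b1 := rm_tail k ht hd
      have b2 := rm_tail k (t := t') (by omega) ⟨u, hu⟩
      have k1 := val_ap_of hc b1.2.2
      have k2 := ih t' ht't (by omega) ⟨u, hu⟩
      have k3 := IH j (by omega) _ b2.2.2
      have k4 := h.rel k j (by omega)
      apply mul_right_cancel (b := wv γ (cw k j))
      calc val γ t * γ (gi k) * wv γ (cw k j) = val γ t' * (γ (gi j) * γ (gi k) * wv γ (cw k j)) := by
            rw [hval, hjJ]; simp only [mul_assoc]
        _ = (val γ t' * γ (gi k)) * γ (gi j) := by rw [← k4, mul_assoc]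
        _ = γ (gi k) * (val γ (phi k t') * γ (gi j)) := by rw [k2, mul_assoc]
        _ = γ (gi k) * val γ (phi k t) * wv γ (cw k j) := by rw [← k3, ← hA, k1, mul_assoc]

theorem val_rm_aux (h : Rel γ) (k : Gn)
    (IH : ∀ j : Gn, gi k < gi j → ∀ n < 4096, val γ (rm j n) = val γ n * γ (gi j)) :
    ∀ n < 4096, val γ (rm k n) = val γ n * γ (gi k) := by
  intro n hn
  have hB := Nat.eq_of_beq_eq_true (loopAll_spec (chkB_all k) n hn)
  rw [mk_eq] at hB
  change rm k n = cond (Nat.beq (n &&& 2 ^ gi k) 0)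
    (n % 2 ^ gi k + (2 ^ gi k + phi k (n - n % (2 * 2 ^ gi k))))
    (n % 2 ^ gi k + ((phi k (n - n % (2 * 2 ^ gi k))) ^^^ (sqm k))) at hB
  rw [← pow_succ'] at hB
  set K := gi k with hK
  set T := n - n % 2 ^ (K + 1) with hT
  have hTd : 2 ^ (K + 1) ∣ T := Nat.dvd_sub_mod n
  have hT4 : T < 4096 := lt_of_le_of_lt (Nat.sub_le _ _) hn
  have hTK : 2 ^ K ∣ T := dvd_trans (Nat.pow_dvd_pow 2 (by omega)) hTd
  obtain ⟨b1, b2, b3⟩ := rm_tail k hT4 hTd
  have hlo : n % 2 ^ K < 2 ^ K := Nat.mod_lt _ (by positivity)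
  have hlt : (2 : ℕ) ^ K < 2 ^ (K + 1) := Nat.pow_lt_pow_right (by norm_num) (by omega)
  have hv := val_tail h k IH T hT4 hTd
  have hKK : val γ (2 ^ K) = γ K := val_pow k
  have hle : n % 2 ^ (K + 1) ≤ n := Nat.mod_le _ _
  by_cases hb : n &&& 2 ^ K = 0
  · have hmod : n % 2 ^ (K + 1) = n % 2 ^ K := by
      have h1 : n.testBit K = false := by
        have h2 := congrArg (fun x => x.testBit K) hb
        simpa [Nat.testBit_and, Nat.testBit_two_pow_self] using h2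
      rw [Nat.mod_pow_succ, ← Nat.toNat_testBit, h1]
      simp
    rw [hb] at hB
    have hB' : rm k n = n % 2 ^ K + (2 ^ K + phi k T) := hB
    have hn' : n = n % 2 ^ K + T := by omega
    have hvn : val γ n = val γ (n % 2 ^ K) * val γ T := by
      conv_lhs => rw [hn']
      exact val_add γ hlo hTK
    rw [hB', val_add γ hlo (Dvd.dvd.add dvd_rfl (dvd_trans (Nat.pow_dvd_pow 2 (by omega)) b2)), val_add γ hlt b2,
      hKK, ← hv, hvn, mul_assoc]
  · have hmod : n % 2 ^ (K + 1) = 2 ^ K + n % 2 ^ K := by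
      have h1 : n.testBit K = true := by
        by_contra h2
        rw [Bool.not_eq_true] at h2
        apply hb
        apply Nat.eq_of_testBit_eq
        intro j
        rw [Nat.testBit_and, Nat.zero_testBit, Nat.testBit_two_pow]
        by_cases hj : K = j
        · subst hj; simp [h2]
        · simp [hj]
      rw [Nat.mod_pow_succ, ← Nat.toNat_testBit, h1]
      simp [add_comm]
    have hcond : Nat.beq (n &&& 2 ^ K) 0 = false := by
      rw [← Bool.not_eq_true]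
      intro h2
      exact hb (Nat.eq_of_beq_eq_true h2)
    rw [hcond] at hB
    have hB' : rm k n = n % 2 ^ K + (phi k T ^^^ sqm k) := hB
    have hn' : n = n % 2 ^ K + (2 ^ K + T) := by omega
    have hvn : val γ n = val γ (n % 2 ^ K) * (γ K * val γ T) := by
      conv_lhs => rw [hn']
      rw [val_add γ hlo (Dvd.dvd.add dvd_rfl hTK), val_add γ hlt hTd, hKK]
    have hx : val γ (phi k T ^^^ sqm k) = val γ (sqm k) * val γ (phi k T) ∧ 2 ^ K ∣ phi k T ^^^ sqm k := by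
      rcases sqm_cases k with h0 | ⟨j, hj1, hj2, hj3⟩
      · rw [h0, Nat.xor_zero, val_zero, one_mul]
        exact ⟨rfl, dvd_trans (Nat.pow_dvd_pow 2 (by omega)) b2⟩
      · have hjd : 2 ^ gi j ∣ phi k T := by rw [hj1]; exact b2
        rw [hj3, val_xor h hj2 hjd, val_pow]
        refine ⟨rfl, ?_⟩
        rcases dvd_cases hjd with h1 | ⟨r, h1, h2⟩
        · rw [xor_pow_add h1]
          exact Dvd.dvd.add (Nat.pow_dvd_pow 2 (by omega)) (dvd_trans (Nat.pow_dvd_pow 2 (by omega)) h1)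
        · rw [h2, xor_pow_sub h1]
          exact dvd_trans (Nat.pow_dvd_pow 2 (by omega)) h1
    have hsq : γ K * γ K = val γ (sqm k) := h.sq k
    rw [hB', val_add γ hlo hx.2, hx.1, ← hsq, hvn]
    calc val γ (n % 2 ^ K) * (γ K * γ K * val γ (phi k T)) = val γ (n % 2 ^ K) * (γ K * (γ K * val γ (phi k T))) := by
          simp only [mul_assoc]
      _ = val γ (n % 2 ^ K) * (γ K * (val γ T * γ K)) := by rw [hv]
      _ = _ := by simp only [mul_assoc]

/-- the tables are correct -/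
theorem val_rm (h : Rel γ) (k : Gn) : ∀ n < 4096, val γ (rm k n) = val γ n * γ (gi k) := by
  have key : ∀ d, ∀ k : Gn, 12 - gi k = d → ∀ n < 4096, val γ (rm k n) = val γ n * γ (gi k) := by
    intro d
    induction d using Nat.strong_induction_on with
    | _ d ih =>
      intro k hk
      refine val_rm_aux h k fun j hj => ih (12 - gi j) ?_ j rfl
      have := gi_lt j
      omega
  exact key _ k rfl

theorem val_ap (h : Rel γ) (w : List Gn) {n : ℕ} (hn : n < 4096) : val γ (ap w n) = val γ n * wv γ w :=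
  val_ap_of (fun g _ => val_rm h g) hn

end

end Cfsg.Agent.H782.TF
end

-- part: H782/TF/Sift
section
/-!
# S5262, q = 2: sifting is sound (helper782)
-/

set_option autoImplicit false

namespace Cfsg.Agent.H782.TF

theorem cond_false_eq_true {a b : Bool} : cond a b false = true ↔ a = true ∧ b = true := by
  cases a <;> simp

theorem beq_iff {a b : ℕ} : Nat.beq a b = true ↔ a = b :=
  ⟨Nat.eq_of_beq_eq_true, fun h => by subst h; exact Nat.beq_refl a⟩

theorem beq_false_iff {a b : ℕ} : Nat.beq a b = false ↔ a ≠ b := by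
  rw [← Bool.not_eq_true, Ne, beq_iff]

theorem blt_iff {a b : ℕ} : Nat.blt a b = true ↔ a < b := by
  unfold Nat.blt
  rw [Nat.ble_eq]
  exact Nat.succ_le_iff

theorem allL_nil {α : Type} (P : α → Bool) : allL P [] = true := rfl

theorem allL_cons {α : Type} (P : α → Bool) (a : α) (l : List α) :
    allL P (a :: l) = true ↔ P a = true ∧ allL P l = true := cond_false_eq_true

theorem allL_iff {α : Type} (P : α → Bool) (l : List α) : allL P l = true ↔ ∀ a ∈ l, P a = true := by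
  induction l with
  | nil => simp [allL_nil]
  | cons a l ih => rw [allL_cons, ih]; simp only [_root_.List.mem_cons, _root_.forall_eq_or_imp]

theorem anyL_cons {α : Type} (P : α → Bool) (a : α) (l : List α) :
    anyL P (a :: l) = true ↔ P a = true ∨ anyL P l = true := by
  change cond (P a) true (anyL P l) = true ↔ _
  cases P a <;> simp

theorem anyL_iff {α : Type} (P : α → Bool) (l : List α) : anyL P l = true ↔ ∃ a ∈ l, P a = true := by
  induction l with
  | nil => simp only [anyL, _root_.Cfsg.Agent.H782.TF.anyL, _root_.Bool.false_eq_true, _root_.List.not_mem_nil, _root_.false_and, _root_.exists_false]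
  | cons a l ih => rw [anyL_cons, ih]; simp only [_root_.List.mem_cons, _root_.exists_eq_or_imp]

theorem sift_nil (x : ℕ) : sift [] x = x := rfl

theorem sift_cons (e : Ent) (P : List Ent) (x : ℕ) :
    sift (e :: P) x = sift P (cond (Nat.beq (Nat.land x e.m) 0) x (ap e.w x)) := rfl

theorem sift_cons0 {e : Ent} (P : List Ent) {x : ℕ} (h : x &&& e.m = 0) : sift (e :: P) x = sift P x := by
  rw [sift_cons, show Nat.beq (Nat.land x e.m) 0 = true from beq_iff.2 h]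
  rfl

theorem sift_cons1 {e : Ent} (P : List Ent) {x : ℕ} (h : x &&& e.m ≠ 0) : sift (e :: P) x = sift P (ap e.w x) := by
  rw [sift_cons, show Nat.beq (Nat.land x e.m) 0 = false from beq_false_iff.2 h]
  rfl

theorem valid_cons {e : Ent} {P : List Ent} : valid (e :: P) = true ↔
    hdok e.m e.w = true ∧ invok e.w e.v = true ∧ (∀ e' ∈ P, e.m < e'.m) ∧ sift P (ap e.w (ap e.w 0)) = 0 ∧
      (∀ e' ∈ P, sift P (ap e.w (ap e'.w (ap e.v 0))) = 0) ∧ valid P = true := by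
  change cond _ (cond _ (cond _ (cond _ (cond _ _ false) false) false) false) false = true ↔ _
  rw [cond_false_eq_true, cond_false_eq_true, cond_false_eq_true, cond_false_eq_true, cond_false_eq_true, allL_iff,
    allL_iff, beq_iff]
  simp only [blt_iff, beq_iff]
  rfl

theorem hdok_iff {m : ℕ} {w : List Gn} : hdok m w = true ↔ ∃ g r, w = g :: r ∧ mk g = m ∧ ∀ h ∈ r, m < mk h := by
  cases w with
  | nil => simp [hdok]
  | cons g r =>
    change cond _ (allL _ r) false = true ↔ _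
    rw [cond_false_eq_true, beq_iff, allL_iff]
    simp only [blt_iff]
    constructor
    · rintro ⟨h1, h2⟩
      exact ⟨g, r, rfl, h1, h2⟩
    · rintro ⟨g', r', h, h1, h2⟩
      cases h
      exact ⟨h1, h2⟩

section
variable {U : Type*} [Group U]

/-- the codes describe the group `U` -/
structure Cod (γ : ℕ → U) : Prop extends Rel γ where
  surj : ∀ x : U, ∃ n < 4096, val γ n = x
  inj : ∀ m < 4096, ∀ n < 4096, val γ m = val γ n → m = n

variable {γ : ℕ → U}

theorem Cod.ap (h : Cod γ) (w : List Gn) {n : ℕ} (hn : n < 4096) : val γ (ap w n) = val γ n * wv γ w :=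
  val_ap h.toRel w hn

theorem Cod.ap0 (h : Cod γ) (w : List Gn) : val γ (TF.ap w 0) = wv γ w := by
  rw [h.ap w (by norm_num), val_zero, one_mul]

theorem Cod.finite (h : Cod γ) : Finite U :=
  Finite.of_surjective (fun n : Fin 4096 => val γ n) fun x => by
    obtain ⟨n, hn, hx⟩ := h.surj x
    exact ⟨⟨n, hn⟩, hx⟩

theorem Cod.inv (h : Cod γ) {w v : List Gn} (hi : invok w v = true) : wv γ v = (wv γ w)⁻¹ := by
  have h1 : TF.ap v (TF.ap w 0) = 0 := beq_iff.1 hi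
  have h2 := h.ap v (ap_lt w (x := 0) (by norm_num))
  rw [h1, val_zero, h.ap0] at h2
  exact (inv_eq_of_mul_eq_one_right h2.symm).symm

variable (γ) in
/-- the subgroup generated by a polycyclic sequence -/
def W (P : List Ent) : Subgroup U := Subgroup.closure {x | ∃ e ∈ P, x = wv γ e.w}

theorem mem_W {P : List Ent} {e : Ent} (he : e ∈ P) : wv γ e.w ∈ W γ P := Subgroup.subset_closure ⟨e, he, rfl⟩

theorem W_nil : W γ [] = ⊥ := by
  rw [W, Subgroup.closure_eq_bot_iff]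
  rintro x ⟨e, he, -⟩
  simp at he

theorem W_le_cons (e : Ent) (P : List Ent) : W γ P ≤ W γ (e :: P) := by
  rw [W, Subgroup.closure_le]
  rintro x ⟨e', he', rfl⟩
  exact mem_W (List.mem_cons_of_mem _ he')

theorem sift_sound (h : Cod γ) (P : List Ent) {x : ℕ} (hx : x < 4096) :
    sift P x < 4096 ∧ ∃ b ∈ W γ P, val γ (sift P x) = val γ x * b := by
  induction P generalizing x with
  | nil => exact ⟨hx, 1, Subgroup.one_mem _, by rw [sift_nil, mul_one]⟩
  | cons e P ih =>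
    by_cases h0 : x &&& e.m = 0
    · rw [sift_cons0 P h0]
      obtain ⟨h1, b, hb, h2⟩ := ih hx
      exact ⟨h1, b, W_le_cons e P hb, h2⟩
    · rw [sift_cons1 P h0]
      obtain ⟨h1, b, hb, h2⟩ := ih (ap_lt e.w hx)
      refine ⟨h1, wv γ e.w * b, Subgroup.mul_mem _ (mem_W List.mem_cons_self) (W_le_cons e P hb), ?_⟩
      rw [h2, h.ap e.w hx, mul_assoc]

theorem mem_of_sift (h : Cod γ) {P : List Ent} {x : ℕ} (hx : x < 4096) (h0 : sift P x = 0) : val γ x ∈ W γ P := by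
  obtain ⟨-, b, hb, h2⟩ := sift_sound h P hx
  rw [h0, val_zero] at h2
  have : val γ x = b⁻¹ := eq_inv_of_mul_eq_one_left h2.symm
  rw [this]
  exact Subgroup.inv_mem _ hb

theorem wv_mem_of_sift (h : Cod γ) {P : List Ent} {w : List Gn} (h0 : sift P (TF.ap w 0) = 0) : wv γ w ∈ W γ P := by
  rw [← h.ap0]
  exact mem_of_sift h (ap_lt w (by norm_num)) h0

/-- the first element of a consistent sequence -/
structure Top (γ : ℕ → U) (e : Ent) (P : List Ent) : Prop where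
  sq : wv γ e.w * wv γ e.w ∈ W γ P
  conj : ∀ b ∈ W γ P, (wv γ e.w)⁻¹ * b * wv γ e.w ∈ W γ P

theorem top_of_valid (h : Cod γ) {e : Ent} {P : List Ent} (hv : valid (e :: P) = true) : Top γ e P := by
  obtain ⟨h1, h2, h3, h4, h5, h6⟩ := valid_cons.1 hv
  constructor
  · have := mem_of_sift h (ap_lt e.w (ap_lt e.w (x := 0) (by norm_num))) h4
    rwa [h.ap _ (ap_lt e.w (by norm_num)), h.ap0] at this
  · intro b hb
    have hgen : ∀ e' ∈ P, (wv γ e.w)⁻¹ * wv γ e'.w * wv γ e.w ∈ W γ P := by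
      intro e' he'
      have := mem_of_sift h (ap_lt e.w (ap_lt e'.w (ap_lt e.v (x := 0) (by norm_num)))) (h5 e' he')
      rwa [h.ap _ (ap_lt _ (ap_lt _ (by norm_num))), h.ap _ (ap_lt _ (by norm_num)), h.ap0, h.inv h2] at this
    rw [W] at hb
    induction hb using Subgroup.closure_induction with
    | mem x hx =>
      obtain ⟨e', he', rfl⟩ := hx
      exact hgen e' he'
    | one => simp
    | mul x y _ _ ix iy =>
      have := Subgroup.mul_mem _ ix iy
      rwa [show (wv γ e.w)⁻¹ * x * wv γ e.w * ((wv γ e.w)⁻¹ * y * wv γ e.w) = (wv γ e.w)⁻¹ * (x * y) * wv γ e.w by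
        group] at this
    | inv x _ ix =>
      have := Subgroup.inv_mem _ ix
      rwa [show ((wv γ e.w)⁻¹ * x * wv γ e.w)⁻¹ = (wv γ e.w)⁻¹ * x⁻¹ * wv γ e.w by group] at this

theorem W_cons_cases {e : Ent} {P : List Ent} (ht : Top γ e P) {x : U} (hx : x ∈ W γ (e :: P)) :
    x ∈ W γ P ∨ ∃ b ∈ W γ P, x = wv γ e.w * b := by
  have key : x ∈ W γ P ∨ (wv γ e.w)⁻¹ * x ∈ W γ P := by
    rw [W] at hx
    induction hx using Subgroup.closure_induction with
    | mem x hx =>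
      obtain ⟨e', he', rfl⟩ := hx
      rcases List.mem_cons.1 he' with rfl | he'
      · right; rw [inv_mul_cancel]; exact Subgroup.one_mem _
      · left; exact mem_W he'
    | one => left; exact Subgroup.one_mem _
    | mul x y _ _ ix iy =>
      set g := wv γ e.w
      rcases ix with ix | ix <;> rcases iy with iy | iy
      · left; exact Subgroup.mul_mem _ ix iy
      · right
        rw [show g⁻¹ * (x * y) = (g⁻¹ * x * g) * (g⁻¹ * y) by group]
        exact Subgroup.mul_mem _ (ht.conj x ix) iy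
      · right
        rw [show g⁻¹ * (x * y) = (g⁻¹ * x) * y by group]
        exact Subgroup.mul_mem _ ix iy
      · left
        rw [show x * y = (g * g) * (g⁻¹ * (g⁻¹ * x) * g) * (g⁻¹ * y) by group]
        exact Subgroup.mul_mem _ (Subgroup.mul_mem _ ht.sq (ht.conj _ ix)) iy
    | inv x _ ix =>
      set g := wv γ e.w
      rcases ix with ix | ix
      · left; exact Subgroup.inv_mem _ ix
      · right
        rw [show g⁻¹ * x⁻¹ = (g⁻¹ * (g⁻¹ * x)⁻¹ * g) * (g * g)⁻¹ by group]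
        exact Subgroup.mul_mem _ (ht.conj _ (Subgroup.inv_mem _ ix)) (Subgroup.inv_mem _ ht.sq)
  rcases key with h | h
  · exact Or.inl h
  · exact Or.inr ⟨_, h, by rw [mul_inv_cancel_left]⟩

/-- right multiplication by `u` does not change the low `k` bits -/
def LF (γ : ℕ → U) (k : ℕ) (u : U) : Prop :=
  ∀ x < 4096, ∀ y < 4096, val γ y = val γ x * u → y % 2 ^ k = x % 2 ^ k

theorem LF.mul (h : Cod γ) {k : ℕ} {u v : U} (hu : LF γ k u) (hv : LF γ k v) : LF γ k (u * v) := by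
  intro x hx y hy hxy
  obtain ⟨z, hz, hzx⟩ := h.surj (val γ x * u)
  rw [← hu x hx z hz hzx]
  exact hv z hz y hy (by rw [hxy, hzx, mul_assoc])

theorem LF.inv {k : ℕ} {u : U} (hu : LF γ k u) : LF γ k u⁻¹ := by
  intro x hx y hy hxy
  exact (hu y hy x hx (by rw [hxy, inv_mul_cancel_right])).symm

theorem LF.one (h : Cod γ) (k : ℕ) : LF γ k 1 := by
  intro x hx y hy hxy
  rw [mul_one] at hxy
  rw [h.inj y hy x hx hxy]

theorem lf_gen (h : Cod γ) {k : ℕ} {g : Gn} (hk : k ≤ gi g) : LF γ k (γ (gi g)) := by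
  intro x hx y hy hxy
  have h1 : y = rm g x := h.inj y hy _ (rm_lt g x) (by rw [hxy, val_rm h.toRel g x hx])
  have h2 := rm_mod g hx
  have h3 := congrArg (fun t => t % 2 ^ k) h2
  rw [Nat.mod_mod_of_dvd _ (Nat.pow_dvd_pow 2 (by omega)), Nat.xor_mod_two_pow,
    Nat.mod_mod_of_dvd _ (Nat.pow_dvd_pow 2 (by omega)), Nat.mod_eq_zero_of_dvd (Nat.pow_dvd_pow 2 hk), Nat.xor_zero]
    at h3
  rw [h1, h3]

theorem lf_word (h : Cod γ) {k : ℕ} {w : List Gn} (hw : ∀ g ∈ w, k ≤ gi g) : LF γ k (wv γ w) := by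
  induction w with
  | nil => exact LF.one h k
  | cons g w ih =>
    rw [wv_cons]
    exact (lf_gen h (hw g List.mem_cons_self)).mul h (ih fun g hg => hw g (List.mem_cons_of_mem _ hg))

theorem lf_W (h : Cod γ) {k : ℕ} {P : List Ent} (hP : ∀ e ∈ P, ∀ g ∈ e.w, k ≤ gi g) {b : U} (hb : b ∈ W γ P) :
    LF γ k b := by
  rw [W] at hb
  induction hb using Subgroup.closure_induction with
  | mem x hx =>
    obtain ⟨e, he, rfl⟩ := hx
    exact lf_word h (hP e he)
  | one => exact LF.one h k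
  | mul x y _ _ ix iy => exact ix.mul h iy
  | inv x _ ix => exact ix.inv

theorem land_pow_eq_zero {x i : ℕ} : x &&& 2 ^ i = 0 ↔ x.testBit i = false := by
  constructor
  · intro h
    have h2 := congrArg (fun x => x.testBit i) h
    simpa [Nat.testBit_and, Nat.testBit_two_pow_self] using h2
  · intro h
    apply Nat.eq_of_testBit_eq
    intro j
    rw [Nat.testBit_and, Nat.zero_testBit, Nat.testBit_two_pow]
    by_cases hj : i = j
    · subst hj; simp [h]
    · simp [hj]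

theorem land_congr {x y i : ℕ} (h : y % 2 ^ (i + 1) = x % 2 ^ (i + 1)) : (y &&& 2 ^ i = 0 ↔ x &&& 2 ^ i = 0) := by
  rw [land_pow_eq_zero, land_pow_eq_zero]
  have h1 : (y % 2 ^ (i + 1)).testBit i = (x % 2 ^ (i + 1)).testBit i := by rw [h]
  rw [Nat.testBit_mod_two_pow, Nat.testBit_mod_two_pow] at h1
  simp only [Nat.lt_succ_self, decide_true, Bool.true_and] at h1
  rw [h1]

theorem valid_masks {P : List Ent} (hv : valid P = true) : ∀ e ∈ P, ∀ g ∈ e.w, e.m ≤ mk g := by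
  induction P with
  | nil => intro e he; simp at he
  | cons e P ih =>
    obtain ⟨h1, h2, h3, h4, h5, h6⟩ := valid_cons.1 hv
    intro e' he'
    rcases List.mem_cons.1 he' with rfl | he'
    · obtain ⟨g, r, hw, hg, hr⟩ := hdok_iff.1 h1
      intro h hh
      rw [hw] at hh
      rcases List.mem_cons.1 hh with rfl | hh
      · exact hg.ge
      · exact (hr h hh).le
    · exact ih h6 e' he'

theorem lf_tail (h : Cod γ) {e : Ent} {P : List Ent} (hv : valid (e :: P) = true) {i : ℕ} (hi : e.m = 2 ^ i) {b : U}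
    (hb : b ∈ W γ P) : LF γ (i + 1) b := by
  obtain ⟨h1, h2, h3, h4, h5, h6⟩ := valid_cons.1 hv
  refine lf_W h ?_ hb
  intro e' he' g hg
  have h7 := h3 e' he'
  have h8 := valid_masks h6 e' he' g hg
  have h9 : (2 : ℕ) ^ i < 2 ^ gi g := by
    rw [← mk_eq, ← hi]
    omega
  exact (Nat.pow_lt_pow_iff_right (by norm_num)).1 h9

theorem toggle (h : Cod γ) {e : Ent} {i : ℕ} (hi : e.m = 2 ^ i) (hh : hdok e.m e.w = true) {x y : ℕ} (hx : x < 4096)
    (hy : y < 4096) (hxy : val γ y = val γ x * wv γ e.w) : (y &&& e.m = 0 ↔ ¬ x &&& e.m = 0) := by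
  obtain ⟨g, r, hw, hg, hr⟩ := hdok_iff.1 hh
  have hgi : gi g = i := by
    have : (2 : ℕ) ^ gi g = 2 ^ i := by rw [← mk_eq, hg, hi]
    exact Nat.pow_right_injective (le_refl 2) this
  rw [hw, wv_cons, ← mul_assoc, ← val_rm h.toRel g x hx] at hxy
  have h1 : LF γ (i + 1) (wv γ r) := lf_word h fun g' hg' => by
    have h9 : (2 : ℕ) ^ i < 2 ^ gi g' := by
      rw [← mk_eq, ← hi]
      exact hr g' hg'
    exact (Nat.pow_lt_pow_iff_right (by norm_num)).1 h9
  have h2 := h1 _ (rm_lt g x) y hy hxy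
  have h3 := rm_mod g hx
  rw [hgi] at h3
  rw [hi, land_congr h2, land_pow_eq_zero, land_pow_eq_zero]
  have h4 : (rm g x % 2 ^ (i + 1)).testBit i = ((x % 2 ^ (i + 1)) ^^^ 2 ^ i).testBit i := by rw [h3]
  rw [Nat.testBit_mod_two_pow, Nat.testBit_xor, Nat.testBit_mod_two_pow, Nat.testBit_two_pow_self] at h4
  simp only [Nat.lt_succ_self, decide_true, Bool.true_and] at h4
  rw [h4]
  cases x.testBit i <;> simp

/-- **canonical residues** -/
theorem canon (h : Cod γ) {P : List Ent} (hv : valid P = true) {x y : ℕ} (hx : x < 4096) (hy : y < 4096) {b : U}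
    (hb : b ∈ W γ P) (hxy : val γ y = val γ x * b) : sift P x = sift P y := by
  induction P generalizing x y b with
  | nil =>
    rw [W_nil, Subgroup.mem_bot] at hb
    rw [hb, mul_one] at hxy
    rw [h.inj y hy x hx hxy]
  | cons e P ih =>
    have ht := top_of_valid h hv
    obtain ⟨h1, h2, h3, h4, h5, h6⟩ := valid_cons.1 hv
    obtain ⟨i, hi⟩ : ∃ i, e.m = 2 ^ i := by
      obtain ⟨g, r, hw, hg, hr⟩ := hdok_iff.1 h1
      exact ⟨gi g, by rw [← hg, mk_eq]⟩
    have hax := ap_lt e.w hx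
    have hay := ap_lt e.w hy
    have vx := h.ap e.w hx
    have vy := h.ap e.w hy
    rcases W_cons_cases ht hb with hb | ⟨c, hc, rfl⟩
    · have h7 : y &&& e.m = 0 ↔ x &&& e.m = 0 := by
        rw [hi]
        exact land_congr (lf_tail h hv hi hb x hx y hy hxy)
      by_cases h0 : x &&& e.m = 0
      · rw [sift_cons0 P h0, sift_cons0 P (h7.2 h0)]
        exact ih h6 hx hy hb hxy
      · rw [sift_cons1 P h0, sift_cons1 P (fun h => h0 (h7.1 h))]
        refine ih h6 hax hay (ht.conj b hb) ?_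
        rw [vx, vy, hxy]
        group
    · obtain ⟨z, hz, hzx⟩ := h.surj (val γ x * wv γ e.w)
      have h7 := toggle h hi h1 hx hz hzx
      have h8 : y &&& e.m = 0 ↔ z &&& e.m = 0 := by
        rw [hi]
        exact land_congr (lf_tail h hv hi hc z hz y hy (by rw [hxy, hzx, mul_assoc]))
      by_cases h0 : x &&& e.m = 0
      · have h9 : ¬ y &&& e.m = 0 := fun h => (h7.1 (h8.1 h)) h0
        rw [sift_cons0 P h0, sift_cons1 P h9]
        refine ih h6 hx hay (Subgroup.mul_mem _ ht.sq (ht.conj c hc)) ?_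
        rw [vy, hxy]
        group
      · have h9 : y &&& e.m = 0 := h8.2 (h7.2 h0)
        rw [sift_cons1 P h0, sift_cons0 P h9]
        refine ih h6 hax hy hc ?_
        rw [vx, hxy, mul_assoc]

theorem sift_zero (P : List Ent) : sift P 0 = 0 := by
  induction P with
  | nil => rfl
  | cons e P ih => rw [sift_cons0 P (Nat.zero_and _), ih]

theorem mem_iff (h : Cod γ) {P : List Ent} (hv : valid P = true) {x : ℕ} (hx : x < 4096) :
    val γ x ∈ W γ P ↔ sift P x = 0 := by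
  refine ⟨fun hm => ?_, mem_of_sift h hx⟩
  rw [← canon h hv (x := 0) (by norm_num) hx hm (by rw [val_zero, one_mul]), sift_zero]

theorem wv_mem_iff (h : Cod γ) {P : List Ent} (hv : valid P = true) {w : List Gn} :
    wv γ w ∈ W γ P ↔ sift P (TF.ap w 0) = 0 := by
  rw [← h.ap0]
  exact mem_iff h hv (ap_lt w (by norm_num))

end

end Cfsg.Agent.H782.TF
end

-- part: H782/TF/Grp
section
/-!
# S5262, q = 2: general lemmas for the subgroup tree (helper782)
-/

set_option autoImplicit false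

namespace Cfsg.Agent.H782.TF

open Cfsg Cfsg.FusionSystem Cfsg.Agent.H756.PU Cfsg.Agent.H732.PU
open scoped commutatorElement

universe u

section conj
variable {Ω : Type u} [Group Ω]

/-- transport of automorphisms along the conjugation `E → E^g` -/
noncomputable def cj (g : Ω) (E : Subgroup Ω) : E ≃* (E.map (MulAut.conj g).toMonoidHom : Subgroup Ω) :=
  (MulAut.conj g).subgroupMap E

theorem cj_apply (g : Ω) (E : Subgroup Ω) (e : E) : ((cj g E e : _) : Ω) = g * e * g⁻¹ := rfl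

end conj

section chain
variable {Ω : Type u} [Group Ω]

/-- `γ` stabilizes the chain -/
def TC {E : Subgroup Ω} (γ : MulAut E) : Subgroup Ω → List (Subgroup Ω) → Prop
  | A, [] => Triv A ⊥ γ
  | A, B :: L => Triv A B γ ∧ TC γ B L

/-- the chain is a descending chain of invariant subgroups -/
def Dsc {E : Subgroup Ω} (Γ : Subgroup (MulAut E)) : Subgroup Ω → List (Subgroup Ω) → Prop
  | A, [] => Inv Γ A
  | A, B :: L => Inv Γ A ∧ B ≤ A ∧ Dsc Γ B L

theorem tc_one {E : Subgroup Ω} (A : Subgroup Ω) (L : List (Subgroup Ω)) : TC (1 : MulAut E) A L := by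
  induction L generalizing A with
  | nil => exact triv_one _ _
  | cons B L ih => exact ⟨triv_one _ _, ih B⟩

theorem TC.mul {E : Subgroup Ω} {Γ : Subgroup (MulAut E)} {A : Subgroup Ω} {L : List (Subgroup Ω)} (hd : Dsc Γ A L)
    {γ δ : MulAut E} (h1 : TC γ A L) (h2 : TC δ A L) : TC (γ * δ) A L := by
  induction L generalizing A with
  | nil => exact Triv.mul bot_le h1 h2
  | cons B L ih => exact ⟨h1.1.mul hd.2.1 h2.1, ih hd.2.2 h1.2 h2.2⟩

theorem TC.pow_mem {E : Subgroup Ω} {Γ : Subgroup (MulAut E)} {A : Subgroup Ω} {L : List (Subgroup Ω)}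
    (hd : Dsc Γ A L) {γ : MulAut E} (h1 : TC γ A L) (n : ℕ) : TC (γ ^ n) A L := by
  induction n with
  | zero => rw [pow_zero]; exact tc_one A L
  | succ n ih => rw [pow_succ]; exact ih.mul hd h1

end chain

section child
variable {G : Type*} [Group G]

end child

section frat

end frat

end Cfsg.Agent.H782.TF
end

-- part: H782/TF/Node
section
/-!
# S5262, q = 2: the certificates are sound (helper782)
-/

set_option autoImplicit false

namespace Cfsg.Agent.H782.TF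

open Cfsg Cfsg.FusionSystem Cfsg.Agent.H756.PU

universe u

variable {U : Type u} [Group U] {γ : ℕ → U}

variable (γ) in
/-- the subgroup generated by the elements of `B` -/
def WB (B : List Gv) : Subgroup U := Subgroup.closure {x | ∃ b ∈ B, x = wv γ b.w}

theorem mem_WB {B : List Gv} {b : Gv} (hb : b ∈ B) : wv γ b.w ∈ WB γ B := Subgroup.subset_closure ⟨b, hb, rfl⟩

/-! ### generators -/

theorem nthW_mem (l : List (List Gn)) (n : ℕ) : nthW l n ∈ l ∨ nthW l n = [] := by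
  induction l generalizing n with
  | nil => exact Or.inr rfl
  | cons a l ih =>
    cases n with
    | zero => exact Or.inl List.mem_cons_self
    | succ n =>
      rcases ih n with h | h
      · exact Or.inl (List.mem_cons_of_mem _ h)
      · exact Or.inr h

theorem nthW_in {H : Subgroup U} {env : List (List Gn)} (hE : ∀ w ∈ env, wv γ w ∈ H) (n : ℕ) : wv γ (nthW env n) ∈ H := by
  rcases nthW_mem env n with h | h
  · exact hE _ h
  · rw [h, wv_nil]; exact H.one_mem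

theorem catap_sound (h : Cod γ) {H : Subgroup U} {env : List (List Gn)} (hE : ∀ w ∈ env, wv γ w ∈ H) (l : List ℕ)
    {x : ℕ} (hx : x < 4096) : ∃ b ∈ H, val γ (catap env l x) = val γ x * b := by
  induction l generalizing x with
  | nil => exact ⟨1, H.one_mem, by rw [mul_one]; rfl⟩
  | cons i l ih =>
    obtain ⟨b, hb, h1⟩ := ih (ap_lt (nthW env i) hx)
    refine ⟨wv γ (nthW env i) * b, H.mul_mem (nthW_in hE i) hb, ?_⟩
    rw [show catap env (i :: l) x = catap env l (ap (nthW env i) x) from rfl, h1, h.ap _ hx, mul_assoc]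

theorem derok_sound (h : Cod γ) {H : Subgroup U} (D : List Dv) {k : List (List Gn) → Bool} {env : List (List Gn)}
    (hE : ∀ w ∈ env, wv γ w ∈ H) (hd : derok D k env = true) : ∃ env' : List (List Gn), (∀ w ∈ env', wv γ w ∈ H) ∧ k env' = true := by
  induction D generalizing env with
  | nil => exact ⟨env, hE, hd⟩
  | cons d D ih =>
    change cond _ (derok D k (d.w :: env)) false = true at hd
    rw [cond_false_eq_true, beq_iff] at hd
    refine ih ?_ hd.2
    intro w hw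
    rcases List.mem_cons.1 hw with rfl | hw
    · obtain ⟨b, hb, h1⟩ := catap_sound h hE d.l1 (x := 0) (by norm_num)
      obtain ⟨c, hc, h2⟩ := catap_sound h hE d.l2 (ap_lt d.w (x := 0) (by norm_num))
      rw [hd.1, h2, h.ap0, val_zero, one_mul] at h1
      rw [show wv γ d.w = b * c⁻¹ by rw [← h1, mul_inv_cancel_right]]
      exact H.mul_mem hb (H.inv_mem hc)
    · exact hE w hw

theorem matchok_sound (h : Cod γ) {H : Subgroup U} {env : List (List Gn)} (hE : ∀ w ∈ env, wv γ w ∈ H) (P : List Ent)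
    (I : List ℕ) (hm : matchok env P I = true) : ∀ e ∈ P, wv γ e.w ∈ H := by
  induction P generalizing I with
  | nil => intro e he; simp at he
  | cons e P ih =>
    cases I with
    | nil => exact absurd hm (by simp [matchok])
    | cons i I =>
      change cond _ (matchok env P I) false = true at hm
      rw [cond_false_eq_true, beq_iff] at hm
      intro e' he'
      rcases List.mem_cons.1 he' with rfl | he'
      · rw [← h.ap0, hm.1, h.ap0]
        exact nthW_in hE i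
      · exact ih I hm.2 e' he'

theorem mem_wds {B : List Gv} {w : List Gn} (hw : w ∈ wds B) : ∃ b ∈ B, w = b.w := by
  induction B with
  | nil => simp [wds] at hw
  | cons b B ih =>
    change w ∈ b.w :: wds B at hw
    rcases List.mem_cons.1 hw with rfl | hw
    · exact ⟨b, List.mem_cons_self, rfl⟩
    · obtain ⟨b', hb', h⟩ := ih hw
      exact ⟨b', List.mem_cons_of_mem _ hb', h⟩

theorem genchk_iff {B : List Gv} {D : List Dv} {P : List Ent} {I : List ℕ} : genchk B D P I = true ↔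
    (∀ b ∈ B, invok b.w b.v = true) ∧ valid P = true ∧ (∀ b ∈ B, sift P (ap b.w 0) = 0) ∧
      derok D (fun env => matchok env P I) (wds B) = true := by
  change cond _ (cond _ (cond _ _ false) false) false = true ↔ _
  rw [cond_false_eq_true, cond_false_eq_true, cond_false_eq_true, allL_iff, allL_iff]
  simp only [beq_iff]

theorem gen_sound (h : Cod γ) {B : List Gv} {D : List Dv} {P : List Ent} {I : List ℕ} (hc : genchk B D P I = true) :
    WB γ B = W γ P := by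
  obtain ⟨h1, h2, h3, h4⟩ := genchk_iff.1 hc
  apply le_antisymm
  · rw [WB, Subgroup.closure_le]
    rintro x ⟨b, hb, rfl⟩
    exact wv_mem_of_sift h (h3 b hb)
  · rw [W, Subgroup.closure_le]
    rintro x ⟨e, he, rfl⟩
    obtain ⟨env, hE, hm⟩ := derok_sound h D (H := WB γ B) (env := wds B) (fun w hw => by
      obtain ⟨b, hb, rfl⟩ := mem_wds hw
      exact mem_WB hb) h4
    exact matchok_sound h hE P I hm e he

/-! ### children -/

/-- no essential subgroup containing `W(Z)` lies in `W(P)`, up to `Goal` -/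
def Bad (Goal : Subgroup U → Prop) (γ : ℕ → U) (Z P : List Ent) : Prop :=
  ∀ (E : Subgroup U) (Γ : Subgroup (MulAut E)), Ess (⊤ : Subgroup U) E 2 Γ → E ≤ W γ P → W γ Z ≤ E → Goal E

/-- a noncentric leaf -/
theorem bad_cent {Goal : Subgroup U → Prop} (h : Cod γ) {Z : List Ent} {B : List Gv} {D : List Dv} {P : List Ent}
    {I : List ℕ} (hg : genchk B D P I = true) {z : List Gn} (hz : centchk B P z = true) : Bad Goal γ Z P := by
  intro E Γ he hEP _
  have hWB := gen_sound h hg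
  obtain ⟨-, hval, -, -⟩ := genchk_iff.1 hg
  change cond (Nat.beq (sift P (ap z 0)) 0) false (allL _ B) = true at hz
  cases h0 : Nat.beq (sift P (ap z 0)) 0 with
  | true => rw [h0] at hz; exact absurd hz (by simp)
  | false =>
    rw [h0] at hz
    change allL _ B = true at hz
    rw [allL_iff] at hz
    simp only [beq_iff] at hz
    exfalso
    rw [beq_false_iff] at h0
    apply h0
    rw [← wv_mem_iff h hval]
    apply hEP
    refine he.cent _ (Subgroup.mem_top _) fun e heE => ?_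
    have h1 := hEP heE
    rw [← hWB] at h1
    have h2 : WB γ B ≤ Subgroup.centralizer {wv γ z} := by
      rw [WB, Subgroup.closure_le]
      rintro x ⟨b, hb, rfl⟩
      rw [SetLike.mem_coe, Subgroup.mem_centralizer_singleton_iff]
      have h2 := congrArg (val γ) (hz b hb)
      rw [h.ap _ (ap_lt _ (by norm_num)), h.ap _ (ap_lt _ (by norm_num)), h.ap0, h.ap0] at h2
      exact h2.symm
    exact (Subgroup.mem_centralizer_singleton_iff.1 (h2 h1)).symm

/-! ### the bound -/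

end Cfsg.Agent.H782.TF
end

-- part: H782/TF/Kill
section
/-!
# S5262, q = 2: kills by chains of characteristic subgroups are sound (helper782)
-/

set_option autoImplicit false

namespace Cfsg.Agent.H782.TF

open Cfsg Cfsg.FusionSystem Cfsg.Agent.H756.PU

universe u

variable {U : Type u} [Group U] {γ : ℕ → U}

/-! ### multiplication of codes, enumeration -/

theorem mulc_aux (h : Cod γ) (y : ℕ) : ∀ (l : List Gn) {x : ℕ}, x < 4096 →
    @List.rec Gn (fun _ => ℕ → ℕ) (fun x => x)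
      (fun g _ ih x => ih (cond (Nat.beq (Nat.land y (mk g)) 0) x (rm g x))) l x < 4096 ∧
    val γ (@List.rec Gn (fun _ => ℕ → ℕ) (fun x => x)
      (fun g _ ih x => ih (cond (Nat.beq (Nat.land y (mk g)) 0) x (rm g x))) l x) =
      val γ x * (l.map fun g => if y.testBit (gi g) then γ (gi g) else 1).prod
  | [], x, hx => ⟨hx, by simp⟩
  | g :: l, x, hx => by
    by_cases hb : y &&& 2 ^ gi g = 0
    · have h0 : cond (Nat.beq (Nat.land y (mk g)) 0) x (rm g x) = x := by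
        rw [mk_eq, show Nat.beq (Nat.land y (2 ^ gi g)) 0 = true from beq_iff.2 hb]; rfl
      have h1 := mulc_aux h y l hx
      have h2 : y.testBit (gi g) = false := land_pow_eq_zero.1 hb
      simp only [h0, List.map_cons, List.prod_cons, h2, Bool.false_eq_true, if_false, one_mul]
      exact h1
    · have h0 : cond (Nat.beq (Nat.land y (mk g)) 0) x (rm g x) = rm g x := by
        rw [mk_eq, show Nat.beq (Nat.land y (2 ^ gi g)) 0 = false from beq_false_iff.2 hb]; rfl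
      have h1 := mulc_aux h y l (rm_lt g x)
      have h2 : y.testBit (gi g) = true := by
        by_contra h3
        rw [Bool.not_eq_true] at h3
        exact hb (land_pow_eq_zero.2 h3)
      simp only [h0, List.map_cons, List.prod_cons, h2, if_true]
      refine ⟨h1.1, ?_⟩
      rw [h1.2, val_rm h.toRel g x hx, mul_assoc]

theorem mulc_val (h : Cod γ) {x : ℕ} (hx : x < 4096) (y : ℕ) :
    mulc x y < 4096 ∧ val γ (mulc x y) = val γ x * val γ y := by
  have h1 := mulc_aux h y [.a0, .a1, .a2, .a3, .a4, .a5, .a6, .a7, .a8, .a9, .a10, .a11] hx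
  refine ⟨h1.1, h1.2.trans ?_⟩
  congr 1
  simp only [List.map_cons, List.map_nil, List.prod_cons, List.prod_nil, val, vc, one_mul, mul_one, mul_assoc]
  rfl

theorem enum_sound (h : Cod γ) {A : List Ent} (hv : valid A = true) {k : ℕ → Bool} {x : ℕ} (hx : x < 4096)
    (he : enum A k x = true) {y : U} (hy : y ∈ W γ A) : ∃ z < 4096, val γ z = val γ x * y ∧ k z = true := by
  induction A generalizing x y with
  | nil =>
    rw [W_nil, Subgroup.mem_bot] at hy
    exact ⟨x, hx, by rw [hy, mul_one], he⟩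
  | cons e A ih =>
    change cond (enum A k x) (enum A k (ap e.w x)) false = true at he
    rw [cond_false_eq_true] at he
    obtain ⟨-, -, -, -, -, h6⟩ := valid_cons.1 hv
    rcases W_cons_cases (top_of_valid h hv) hy with h1 | ⟨b, hb, rfl⟩
    · exact ih h6 hx he.1 h1
    · obtain ⟨z, hz, h2, h3⟩ := ih h6 (ap_lt e.w hx) he.2 hb
      exact ⟨z, hz, by rw [h2, h.ap _ hx, mul_assoc], h3⟩

/-! ### commuting modulo a subgroup -/

/-! ### invariant subgroups -/

/-! ### the chain -/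

end Cfsg.Agent.H782.TF
end

-- part: H782/TF/Ctx
section
/-!
# S5262, q = 2: the context of the certificate (helper782)
-/

set_option autoImplicit false

namespace Cfsg.Agent.H782.TF

open Cfsg Cfsg.FusionSystem Cfsg.Agent.H756.PU

universe u

variable {U : Type u} [Group U] {Goal : Subgroup U → Prop} {γ : ℕ → U} {Z : List Ent}

/-- `Z₄(S)` -/
def PZ : List Ent := [⟨8, [.a3], [.a3]⟩, ⟨32, [.a5], [.a5]⟩, ⟨64, [.a6], [.a6]⟩, ⟨256, [.a8], [.a8]⟩]

/-- `Q_a = U₁ … U₇` -/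
def PA : List Ent := [⟨1, [.a0], [.a0]⟩, ⟨2, [.a1], [.a1, .a2]⟩, ⟨4, [.a2], [.a2]⟩, ⟨8, [.a3], [.a3]⟩,
  ⟨16, [.a4], [.a4, .a5]⟩, ⟨32, [.a5], [.a5]⟩, ⟨64, [.a6], [.a6]⟩, ⟨128, [.a7], [.a7, .a8]⟩, ⟨256, [.a8], [.a8]⟩,
  ⟨512, [.a9], [.a9]⟩]

/-- `Q_b = U₂ … U₈` -/
def PB : List Ent := [⟨2, [.a1], [.a1, .a2]⟩, ⟨4, [.a2], [.a2]⟩, ⟨8, [.a3], [.a3]⟩,
  ⟨16, [.a4], [.a4, .a5]⟩, ⟨32, [.a5], [.a5]⟩, ⟨64, [.a6], [.a6]⟩, ⟨128, [.a7], [.a7, .a8]⟩, ⟨256, [.a8], [.a8]⟩,
  ⟨512, [.a9], [.a9]⟩, ⟨1024, [.a10], [.a10, .a11]⟩, ⟨2048, [.a11], [.a11]⟩]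

/-- `C_S(Z₃) = N₃` -/
def PM : List Ent := [⟨4, [.a2], [.a2]⟩, ⟨8, [.a3], [.a3]⟩, ⟨16, [.a4], [.a4, .a5]⟩, ⟨32, [.a5], [.a5]⟩,
  ⟨64, [.a6], [.a6]⟩, ⟨128, [.a7], [.a7, .a8]⟩, ⟨256, [.a8], [.a8]⟩, ⟨512, [.a9], [.a9]⟩, ⟨2048, [.a11], [.a11]⟩]

variable (Goal γ Z) in
/-- the context -/
structure Ctx : Prop where
  h : Cod γ
  hb : StBound'.{u}
  hG : ∀ (E : Subgroup U) (g : U), Goal (E.map (MulAut.conj g).toMonoidHom) → Goal E
  hZ : (W γ Z).Normal

variable (Goal γ) in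
/-- the context of the mixed case -/
structure CtxM : Prop extends Ctx Goal γ PZ where
  badA : Bad Goal γ PZ PA
  badB : Bad Goal γ PZ PB

variable (Goal γ) in
/-- the context of the full certificate -/
structure CtxF : Prop extends Ctx Goal γ [] where
  gA : Goal (W γ PA)
  gB : Goal (W γ PB)
  gM : Goal (W γ PM)

theorem Ctx.cent (c : Ctx Goal γ Z) {B : List Gv} {D : List Dv} {P : List Ent} {I : List ℕ} {z : List Gn}
    (hg : genchk B D P I = true) (hz : centchk B P z = true) : Bad Goal γ Z P :=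
  bad_cent c.h hg hz

end Cfsg.Agent.H782.TF
end

-- part: H782/TF/TwoRel
section
/-!
# S5262, q = 2: the coordinates of `H745/TF/Def.lean` give codes (helper782)
-/

set_option autoImplicit false
set_option linter.unusedVariables false
set_option linter.unusedSimpArgs false
set_option linter.flexible false

namespace Cfsg.Agent.H782.TF

open Cfsg.Agent.Octagon.Pkg Cfsg.Agent.H745.TF Cfsg.Agent.H659.TF

universe u v

variable {K : Type u} [Field K] {σ : K →+* K} {U : Type v} [Group U]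

/-- the twelve generators -/
def gm (T : Cfsg.Agent.H745.TF.TF σ U) : ℕ → U
  | 0 => T.x1 1
  | 1 => T.x2 1 0
  | 2 => T.x2 0 1
  | 3 => T.x3 1
  | 4 => T.x4 1 0
  | 5 => T.x4 0 1
  | 6 => T.x5 1
  | 7 => T.x6 1 0
  | 8 => T.x6 0 1
  | 9 => T.x7 1
  | 10 => T.x8 1 0
  | _ => T.x8 0 1

variable (T : Cfsg.Agent.H745.TF.TF σ U)

theorem x2_11 : T.x2 1 1 = T.x2 1 0 * T.x2 0 1 := by rw [T.rel.m2]; simp
theorem x4_11 : T.x4 1 1 = T.x4 1 0 * T.x4 0 1 := by rw [T.rel.m4]; simp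
theorem x6_11 : T.x6 1 1 = T.x6 1 0 * T.x6 0 1 := by rw [T.rel.m6]; simp
theorem x8_11 : T.x8 1 1 = T.x8 1 0 * T.x8 0 1 := by rw [T.rel.m8]; simp


theorem rel_0_1 (h2 : (2 : K) = 0) : gm T (gi .a0) * gm T (gi .a1) = gm T (gi .a1) * gm T (gi .a0) * wv (gm T) (cw .a0 .a1) := by
  have h := T.rel.r12 1 1 0
  simpa only [gm, gi, cw, wv, h2, x1_zero T.rel, x3_zero T.rel, x5_zero T.rel, x7_zero T.rel, x2_zero T.rel, x4_zero T.rel, x6_zero T.rel, x8_zero T.rel, x2_11, x4_11, x6_11, x8_11, mul_assoc, _root_.List.map_nil, _root_.List.prod_nil, _root_.mul_one] using h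

theorem rel_0_2 (h2 : (2 : K) = 0) : gm T (gi .a0) * gm T (gi .a2) = gm T (gi .a2) * gm T (gi .a0) * wv (gm T) (cw .a0 .a2) := by
  have h := T.rel.r12 1 0 1
  simpa only [gm, gi, cw, wv, h2, x1_zero T.rel, x3_zero T.rel, x5_zero T.rel, x7_zero T.rel, x2_zero T.rel, x4_zero T.rel, x6_zero T.rel, x8_zero T.rel, x2_11, x4_11, x6_11, x8_11, mul_assoc, _root_.List.map_nil, _root_.List.prod_nil, _root_.mul_one] using h

theorem rel_0_3 (h2 : (2 : K) = 0) : gm T (gi .a0) * gm T (gi .a3) = gm T (gi .a3) * gm T (gi .a0) * wv (gm T) (cw .a0 .a3) := by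
  have h := T.rel.r13 1 1
  simpa only [gm, gi, cw, wv, h2, x1_zero T.rel, x3_zero T.rel, x5_zero T.rel, x7_zero T.rel, x2_zero T.rel, x4_zero T.rel, x6_zero T.rel, x8_zero T.rel, x2_11, x4_11, x6_11, x8_11, mul_assoc, _root_.List.map_nil, _root_.List.prod_nil, _root_.mul_one] using h

theorem rel_0_4 (h2 : (2 : K) = 0) : gm T (gi .a0) * gm T (gi .a4) = gm T (gi .a4) * gm T (gi .a0) * wv (gm T) (cw .a0 .a4) := by
  have h := T.rel.r14 1 1 0
  simpa only [gm, gi, cw, wv, h2, x1_zero T.rel, x3_zero T.rel, x5_zero T.rel, x7_zero T.rel, x2_zero T.rel, x4_zero T.rel, x6_zero T.rel, x8_zero T.rel, x2_11, x4_11, x6_11, x8_11, mul_assoc, _root_.List.map_cons, _root_.List.map_nil, _root_.List.prod_cons, _root_.List.prod_nil, _root_.mul_one] using h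

theorem rel_0_5 (h2 : (2 : K) = 0) : gm T (gi .a0) * gm T (gi .a5) = gm T (gi .a5) * gm T (gi .a0) * wv (gm T) (cw .a0 .a5) := by
  have h := T.rel.r14 1 0 1
  simpa only [gm, gi, cw, wv, h2, x1_zero T.rel, x3_zero T.rel, x5_zero T.rel, x7_zero T.rel, x2_zero T.rel, x4_zero T.rel, x6_zero T.rel, x8_zero T.rel, x2_11, x4_11, x6_11, x8_11, mul_assoc, _root_.List.map_nil, _root_.List.prod_nil, _root_.mul_one, _root_.MulZeroClass.mul_zero] using h

theorem rel_0_6 (h2 : (2 : K) = 0) : gm T (gi .a0) * gm T (gi .a6) = gm T (gi .a6) * gm T (gi .a0) * wv (gm T) (cw .a0 .a6) := by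
  have h := T.rel.r15 1 1
  simpa only [gm, gi, cw, wv, h2, x1_zero T.rel, x3_zero T.rel, x5_zero T.rel, x7_zero T.rel, x2_zero T.rel, x4_zero T.rel, x6_zero T.rel, x8_zero T.rel, x2_11, x4_11, x6_11, x8_11, mul_assoc, _root_.List.map_nil, _root_.List.prod_nil, _root_.mul_one] using h

theorem rel_0_7 (h2 : (2 : K) = 0) : gm T (gi .a0) * gm T (gi .a7) = gm T (gi .a7) * gm T (gi .a0) * wv (gm T) (cw .a0 .a7) := by
  have h := T.rel.r16 1 1 0
  simpa only [gm, gi, cw, wv, h2, x1_zero T.rel, x3_zero T.rel, x5_zero T.rel, x7_zero T.rel, x2_zero T.rel, x4_zero T.rel, x6_zero T.rel, x8_zero T.rel, x2_11, x4_11, x6_11, x8_11, mul_assoc, _root_.List.map_cons, _root_.List.map_nil, _root_.List.prod_cons, _root_.List.prod_nil, _root_.mul_one, _root_.map_one, _root_.MulZeroClass.mul_zero, _root_.add_zero] using h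

theorem rel_0_8 (h2 : (2 : K) = 0) : gm T (gi .a0) * gm T (gi .a8) = gm T (gi .a8) * gm T (gi .a0) * wv (gm T) (cw .a0 .a8) := by
  have h := T.rel.r16 1 0 1
  simpa only [gm, gi, cw, wv, h2, x1_zero T.rel, x3_zero T.rel, x5_zero T.rel, x7_zero T.rel, x2_zero T.rel, x4_zero T.rel, x6_zero T.rel, x8_zero T.rel, x2_11, x4_11, x6_11, x8_11, mul_assoc, _root_.List.map_cons, _root_.List.map_nil, _root_.List.prod_cons, _root_.List.prod_nil, _root_.mul_one, _root_.map_one, _root_.MulZeroClass.mul_zero, _root_.map_zero, _root_.zero_add] using h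

theorem rel_0_9 (h2 : (2 : K) = 0) : gm T (gi .a0) * gm T (gi .a9) = gm T (gi .a9) * gm T (gi .a0) * wv (gm T) (cw .a0 .a9) := by
  have h := T.rel.r17 1 1
  simpa only [gm, gi, cw, wv, h2, x1_zero T.rel, x3_zero T.rel, x5_zero T.rel, x7_zero T.rel, x2_zero T.rel, x4_zero T.rel, x6_zero T.rel, x8_zero T.rel, x2_11, x4_11, x6_11, x8_11, mul_assoc, _root_.List.map_cons, _root_.List.map_nil, _root_.List.prod_cons, _root_.List.prod_nil, _root_.mul_one, _root_.map_one] using h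

theorem rel_0_10 (h2 : (2 : K) = 0) : gm T (gi .a0) * gm T (gi .a10) = gm T (gi .a10) * gm T (gi .a0) * wv (gm T) (cw .a0 .a10) := by
  have h := T.rel.r18 1 1 0
  simpa only [gm, gi, cw, wv, h2, x1_zero T.rel, x3_zero T.rel, x5_zero T.rel, x7_zero T.rel, x2_zero T.rel, x4_zero T.rel, x6_zero T.rel, x8_zero T.rel, x2_11, x4_11, x6_11, x8_11, mul_assoc, _root_.List.map_cons, _root_.List.map_nil, _root_.List.prod_cons, _root_.List.prod_nil, _root_.mul_one, _root_.map_one, _root_.MulZeroClass.mul_zero, _root_.add_zero, _root_.zero_add, _root_.map_zero] using h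

theorem rel_0_11 (h2 : (2 : K) = 0) : gm T (gi .a0) * gm T (gi .a11) = gm T (gi .a11) * gm T (gi .a0) * wv (gm T) (cw .a0 .a11) := by
  have h := T.rel.r18 1 0 1
  simpa only [gm, gi, cw, wv, h2, x1_zero T.rel, x3_zero T.rel, x5_zero T.rel, x7_zero T.rel, x2_zero T.rel, x4_zero T.rel, x6_zero T.rel, x8_zero T.rel, x2_11, x4_11, x6_11, x8_11, mul_assoc, _root_.List.map_cons, _root_.List.map_nil, _root_.List.prod_cons, _root_.List.prod_nil, _root_.mul_one, _root_.MulZeroClass.mul_zero, _root_.map_one, _root_.map_zero, _root_.zero_add, _root_.add_zero] using h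

theorem rel_1_2 (h2 : (2 : K) = 0) : gm T (gi .a1) * gm T (gi .a2) = gm T (gi .a2) * gm T (gi .a1) * wv (gm T) (cw .a1 .a2) := by
  simp only [gm, gi, cw, wv, List.map_nil, List.prod_nil, mul_one]
  rw [T.rel.m2, T.rel.m2]
  simp

theorem rel_1_3 (h2 : (2 : K) = 0) : gm T (gi .a1) * gm T (gi .a3) = gm T (gi .a3) * gm T (gi .a1) * wv (gm T) (cw .a1 .a3) := by
  have h := T.rel.r23 1 0 1
  simpa only [gm, gi, cw, wv, h2, x1_zero T.rel, x3_zero T.rel, x5_zero T.rel, x7_zero T.rel, x2_zero T.rel, x4_zero T.rel, x6_zero T.rel, x8_zero T.rel, x2_11, x4_11, x6_11, x8_11, mul_assoc, _root_.List.map_nil, _root_.List.prod_nil, _root_.mul_one] using h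

theorem rel_1_4 (h2 : (2 : K) = 0) : gm T (gi .a1) * gm T (gi .a4) = gm T (gi .a4) * gm T (gi .a1) * wv (gm T) (cw .a1 .a4) := by
  have h := T.rel.r24 1 0 1 0
  simpa only [gm, gi, cw, wv, h2, x1_zero T.rel, x3_zero T.rel, x5_zero T.rel, x7_zero T.rel, x2_zero T.rel, x4_zero T.rel, x6_zero T.rel, x8_zero T.rel, x2_11, x4_11, x6_11, x8_11, mul_assoc, _root_.List.map_cons, _root_.List.map_nil, _root_.List.prod_cons, _root_.List.prod_nil, _root_.mul_one] using h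

theorem rel_1_5 (h2 : (2 : K) = 0) : gm T (gi .a1) * gm T (gi .a5) = gm T (gi .a5) * gm T (gi .a1) * wv (gm T) (cw .a1 .a5) := by
  have h := T.rel.r24 1 0 0 1
  simpa only [gm, gi, cw, wv, h2, x1_zero T.rel, x3_zero T.rel, x5_zero T.rel, x7_zero T.rel, x2_zero T.rel, x4_zero T.rel, x6_zero T.rel, x8_zero T.rel, x2_11, x4_11, x6_11, x8_11, mul_assoc, _root_.List.map_nil, _root_.List.prod_nil, _root_.mul_one, _root_.MulZeroClass.mul_zero] using h

theorem rel_1_6 (h2 : (2 : K) = 0) : gm T (gi .a1) * gm T (gi .a6) = gm T (gi .a6) * gm T (gi .a1) * wv (gm T) (cw .a1 .a6) := by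
  have h := T.rel.r25 1 0 1
  simpa only [gm, gi, cw, wv, h2, x1_zero T.rel, x3_zero T.rel, x5_zero T.rel, x7_zero T.rel, x2_zero T.rel, x4_zero T.rel, x6_zero T.rel, x8_zero T.rel, x2_11, x4_11, x6_11, x8_11, mul_assoc, _root_.List.map_cons, _root_.List.map_nil, _root_.List.prod_cons, _root_.List.prod_nil, _root_.mul_one] using h

theorem rel_1_7 (h2 : (2 : K) = 0) : gm T (gi .a1) * gm T (gi .a7) = gm T (gi .a7) * gm T (gi .a1) * wv (gm T) (cw .a1 .a7) := by
  have h := T.rel.r26 1 0 1 0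
  simpa only [gm, gi, cw, wv, h2, x1_zero T.rel, x3_zero T.rel, x5_zero T.rel, x7_zero T.rel, x2_zero T.rel, x4_zero T.rel, x6_zero T.rel, x8_zero T.rel, x2_11, x4_11, x6_11, x8_11, mul_assoc, _root_.List.map_nil, _root_.List.prod_nil, _root_.mul_one] using h

theorem rel_1_8 (h2 : (2 : K) = 0) : gm T (gi .a1) * gm T (gi .a8) = gm T (gi .a8) * gm T (gi .a1) * wv (gm T) (cw .a1 .a8) := by
  have h := T.rel.r26 1 0 0 1
  simpa only [gm, gi, cw, wv, h2, x1_zero T.rel, x3_zero T.rel, x5_zero T.rel, x7_zero T.rel, x2_zero T.rel, x4_zero T.rel, x6_zero T.rel, x8_zero T.rel, x2_11, x4_11, x6_11, x8_11, mul_assoc, _root_.List.map_nil, _root_.List.prod_nil, _root_.mul_one] using h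

theorem rel_1_9 (h2 : (2 : K) = 0) : gm T (gi .a1) * gm T (gi .a9) = gm T (gi .a9) * gm T (gi .a1) * wv (gm T) (cw .a1 .a9) := by
  have h := T.rel.r27 1 0 1
  simpa only [gm, gi, cw, wv, h2, x1_zero T.rel, x3_zero T.rel, x5_zero T.rel, x7_zero T.rel, x2_zero T.rel, x4_zero T.rel, x6_zero T.rel, x8_zero T.rel, x2_11, x4_11, x6_11, x8_11, mul_assoc, _root_.List.map_cons, _root_.List.map_nil, _root_.List.prod_cons, _root_.List.prod_nil, _root_.mul_one, _root_.map_one, _root_.add_zero] using h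

theorem rel_1_10 (h2 : (2 : K) = 0) : gm T (gi .a1) * gm T (gi .a10) = gm T (gi .a10) * gm T (gi .a1) * wv (gm T) (cw .a1 .a10) := by
  have h := T.rel.r28 1 0 1 0
  simpa only [gm, gi, cw, wv, h2, x1_zero T.rel, x3_zero T.rel, x5_zero T.rel, x7_zero T.rel, x2_zero T.rel, x4_zero T.rel, x6_zero T.rel, x8_zero T.rel, x2_11, x4_11, x6_11, x8_11, mul_assoc, _root_.List.map_cons, _root_.List.map_nil, _root_.List.prod_cons, _root_.List.prod_nil, _root_.mul_one, _root_.map_one, _root_.add_zero, _root_.MulZeroClass.mul_zero, _root_.map_zero] using h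

theorem rel_1_11 (h2 : (2 : K) = 0) : gm T (gi .a1) * gm T (gi .a11) = gm T (gi .a11) * gm T (gi .a1) * wv (gm T) (cw .a1 .a11) := by
  have h := T.rel.r28 1 0 0 1
  simpa only [gm, gi, cw, wv, h2, x1_zero T.rel, x3_zero T.rel, x5_zero T.rel, x7_zero T.rel, x2_zero T.rel, x4_zero T.rel, x6_zero T.rel, x8_zero T.rel, x2_11, x4_11, x6_11, x8_11, mul_assoc, _root_.List.map_cons, _root_.List.map_nil, _root_.List.prod_cons, _root_.List.prod_nil, _root_.mul_one, _root_.map_one, _root_.MulZeroClass.mul_zero, _root_.add_zero, _root_.zero_add, _root_.map_zero] using h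

theorem rel_2_3 (h2 : (2 : K) = 0) : gm T (gi .a2) * gm T (gi .a3) = gm T (gi .a3) * gm T (gi .a2) * wv (gm T) (cw .a2 .a3) := by
  have h := T.rel.r23 0 1 1
  simpa only [gm, gi, cw, wv, h2, x1_zero T.rel, x3_zero T.rel, x5_zero T.rel, x7_zero T.rel, x2_zero T.rel, x4_zero T.rel, x6_zero T.rel, x8_zero T.rel, x2_11, x4_11, x6_11, x8_11, mul_assoc, _root_.List.map_nil, _root_.List.prod_nil, _root_.mul_one] using h

theorem rel_2_4 (h2 : (2 : K) = 0) : gm T (gi .a2) * gm T (gi .a4) = gm T (gi .a4) * gm T (gi .a2) * wv (gm T) (cw .a2 .a4) := by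
  have h := T.rel.r24 0 1 1 0
  simpa only [gm, gi, cw, wv, h2, x1_zero T.rel, x3_zero T.rel, x5_zero T.rel, x7_zero T.rel, x2_zero T.rel, x4_zero T.rel, x6_zero T.rel, x8_zero T.rel, x2_11, x4_11, x6_11, x8_11, mul_assoc, _root_.List.map_nil, _root_.List.prod_nil, _root_.mul_one] using h

theorem rel_2_5 (h2 : (2 : K) = 0) : gm T (gi .a2) * gm T (gi .a5) = gm T (gi .a5) * gm T (gi .a2) * wv (gm T) (cw .a2 .a5) := by
  have h := T.rel.r24 0 1 0 1
  simpa only [gm, gi, cw, wv, h2, x1_zero T.rel, x3_zero T.rel, x5_zero T.rel, x7_zero T.rel, x2_zero T.rel, x4_zero T.rel, x6_zero T.rel, x8_zero T.rel, x2_11, x4_11, x6_11, x8_11, mul_assoc, _root_.List.map_nil, _root_.List.prod_nil, _root_.mul_one, _root_.MulZeroClass.mul_zero] using h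

theorem rel_2_6 (h2 : (2 : K) = 0) : gm T (gi .a2) * gm T (gi .a6) = gm T (gi .a6) * gm T (gi .a2) * wv (gm T) (cw .a2 .a6) := by
  have h := T.rel.r25 0 1 1
  simpa only [gm, gi, cw, wv, h2, x1_zero T.rel, x3_zero T.rel, x5_zero T.rel, x7_zero T.rel, x2_zero T.rel, x4_zero T.rel, x6_zero T.rel, x8_zero T.rel, x2_11, x4_11, x6_11, x8_11, mul_assoc, _root_.List.map_nil, _root_.List.prod_nil, _root_.mul_one] using h

theorem rel_2_7 (h2 : (2 : K) = 0) : gm T (gi .a2) * gm T (gi .a7) = gm T (gi .a7) * gm T (gi .a2) * wv (gm T) (cw .a2 .a7) := by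
  have h := T.rel.r26 0 1 1 0
  simpa only [gm, gi, cw, wv, h2, x1_zero T.rel, x3_zero T.rel, x5_zero T.rel, x7_zero T.rel, x2_zero T.rel, x4_zero T.rel, x6_zero T.rel, x8_zero T.rel, x2_11, x4_11, x6_11, x8_11, mul_assoc, _root_.List.map_nil, _root_.List.prod_nil, _root_.mul_one] using h

theorem rel_2_8 (h2 : (2 : K) = 0) : gm T (gi .a2) * gm T (gi .a8) = gm T (gi .a8) * gm T (gi .a2) * wv (gm T) (cw .a2 .a8) := by
  have h := T.rel.r26 0 1 0 1
  simpa only [gm, gi, cw, wv, h2, x1_zero T.rel, x3_zero T.rel, x5_zero T.rel, x7_zero T.rel, x2_zero T.rel, x4_zero T.rel, x6_zero T.rel, x8_zero T.rel, x2_11, x4_11, x6_11, x8_11, mul_assoc, _root_.List.map_nil, _root_.List.prod_nil, _root_.mul_one] using h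

theorem rel_2_9 (h2 : (2 : K) = 0) : gm T (gi .a2) * gm T (gi .a9) = gm T (gi .a9) * gm T (gi .a2) * wv (gm T) (cw .a2 .a9) := by
  have h := T.rel.r27 0 1 1
  simpa only [gm, gi, cw, wv, h2, x1_zero T.rel, x3_zero T.rel, x5_zero T.rel, x7_zero T.rel, x2_zero T.rel, x4_zero T.rel, x6_zero T.rel, x8_zero T.rel, x2_11, x4_11, x6_11, x8_11, mul_assoc, _root_.List.map_cons, _root_.List.map_nil, _root_.List.prod_cons, _root_.List.prod_nil, _root_.mul_one, _root_.map_zero, _root_.MulZeroClass.mul_zero, _root_.zero_add, _root_.map_one] using h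

theorem rel_2_10 (h2 : (2 : K) = 0) : gm T (gi .a2) * gm T (gi .a10) = gm T (gi .a10) * gm T (gi .a2) * wv (gm T) (cw .a2 .a10) := by
  have h := T.rel.r28 0 1 1 0
  simpa only [gm, gi, cw, wv, h2, x1_zero T.rel, x3_zero T.rel, x5_zero T.rel, x7_zero T.rel, x2_zero T.rel, x4_zero T.rel, x6_zero T.rel, x8_zero T.rel, x2_11, x4_11, x6_11, x8_11, mul_assoc, _root_.List.map_cons, _root_.List.map_nil, _root_.List.prod_cons, _root_.List.prod_nil, _root_.mul_one, _root_.map_zero, _root_.MulZeroClass.mul_zero, _root_.zero_add, _root_.add_zero, _root_.map_one] using h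

theorem rel_2_11 (h2 : (2 : K) = 0) : gm T (gi .a2) * gm T (gi .a11) = gm T (gi .a11) * gm T (gi .a2) * wv (gm T) (cw .a2 .a11) := by
  have h := T.rel.r28 0 1 0 1
  simpa only [gm, gi, cw, wv, h2, x1_zero T.rel, x3_zero T.rel, x5_zero T.rel, x7_zero T.rel, x2_zero T.rel, x4_zero T.rel, x6_zero T.rel, x8_zero T.rel, x2_11, x4_11, x6_11, x8_11, mul_assoc, _root_.List.map_cons, _root_.List.map_nil, _root_.List.prod_cons, _root_.List.prod_nil, _root_.mul_one, _root_.map_zero, _root_.MulZeroClass.mul_zero, _root_.add_zero, _root_.map_one, _root_.zero_add] using h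

theorem rel_3_4 (h2 : (2 : K) = 0) : gm T (gi .a3) * gm T (gi .a4) = gm T (gi .a4) * gm T (gi .a3) * wv (gm T) (cw .a3 .a4) := by
  have h := T.rel.r34 1 1 0
  simpa only [gm, gi, cw, wv, h2, x1_zero T.rel, x3_zero T.rel, x5_zero T.rel, x7_zero T.rel, x2_zero T.rel, x4_zero T.rel, x6_zero T.rel, x8_zero T.rel, x2_11, x4_11, x6_11, x8_11, mul_assoc, _root_.List.map_nil, _root_.List.prod_nil, _root_.mul_one] using h

theorem rel_3_5 (h2 : (2 : K) = 0) : gm T (gi .a3) * gm T (gi .a5) = gm T (gi .a5) * gm T (gi .a3) * wv (gm T) (cw .a3 .a5) := by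
  have h := T.rel.r34 1 0 1
  simpa only [gm, gi, cw, wv, h2, x1_zero T.rel, x3_zero T.rel, x5_zero T.rel, x7_zero T.rel, x2_zero T.rel, x4_zero T.rel, x6_zero T.rel, x8_zero T.rel, x2_11, x4_11, x6_11, x8_11, mul_assoc, _root_.List.map_nil, _root_.List.prod_nil, _root_.mul_one] using h

theorem rel_3_6 (h2 : (2 : K) = 0) : gm T (gi .a3) * gm T (gi .a6) = gm T (gi .a6) * gm T (gi .a3) * wv (gm T) (cw .a3 .a6) := by
  have h := T.rel.r35 1 1
  simpa only [gm, gi, cw, wv, h2, x1_zero T.rel, x3_zero T.rel, x5_zero T.rel, x7_zero T.rel, x2_zero T.rel, x4_zero T.rel, x6_zero T.rel, x8_zero T.rel, x2_11, x4_11, x6_11, x8_11, mul_assoc, _root_.List.map_nil, _root_.List.prod_nil, _root_.mul_one] using h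

theorem rel_3_7 (h2 : (2 : K) = 0) : gm T (gi .a3) * gm T (gi .a7) = gm T (gi .a7) * gm T (gi .a3) * wv (gm T) (cw .a3 .a7) := by
  have h := T.rel.r36 1 1 0
  simpa only [gm, gi, cw, wv, h2, x1_zero T.rel, x3_zero T.rel, x5_zero T.rel, x7_zero T.rel, x2_zero T.rel, x4_zero T.rel, x6_zero T.rel, x8_zero T.rel, x2_11, x4_11, x6_11, x8_11, mul_assoc, _root_.List.map_cons, _root_.List.map_nil, _root_.List.prod_cons, _root_.List.prod_nil, _root_.mul_one] using h

theorem rel_3_8 (h2 : (2 : K) = 0) : gm T (gi .a3) * gm T (gi .a8) = gm T (gi .a8) * gm T (gi .a3) * wv (gm T) (cw .a3 .a8) := by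
  have h := T.rel.r36 1 0 1
  simpa only [gm, gi, cw, wv, h2, x1_zero T.rel, x3_zero T.rel, x5_zero T.rel, x7_zero T.rel, x2_zero T.rel, x4_zero T.rel, x6_zero T.rel, x8_zero T.rel, x2_11, x4_11, x6_11, x8_11, mul_assoc, _root_.List.map_nil, _root_.List.prod_nil, _root_.mul_one, _root_.MulZeroClass.mul_zero] using h

theorem rel_3_9 (h2 : (2 : K) = 0) : gm T (gi .a3) * gm T (gi .a9) = gm T (gi .a9) * gm T (gi .a3) * wv (gm T) (cw .a3 .a9) := by
  have h := T.rel.r37 1 1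
  simpa only [gm, gi, cw, wv, h2, x1_zero T.rel, x3_zero T.rel, x5_zero T.rel, x7_zero T.rel, x2_zero T.rel, x4_zero T.rel, x6_zero T.rel, x8_zero T.rel, x2_11, x4_11, x6_11, x8_11, mul_assoc, _root_.List.map_nil, _root_.List.prod_nil, _root_.mul_one] using h

theorem rel_3_10 (h2 : (2 : K) = 0) : gm T (gi .a3) * gm T (gi .a10) = gm T (gi .a10) * gm T (gi .a3) * wv (gm T) (cw .a3 .a10) := by
  have h := T.rel.r38 1 1 0
  simpa only [gm, gi, cw, wv, h2, x1_zero T.rel, x3_zero T.rel, x5_zero T.rel, x7_zero T.rel, x2_zero T.rel, x4_zero T.rel, x6_zero T.rel, x8_zero T.rel, x2_11, x4_11, x6_11, x8_11, mul_assoc, _root_.List.map_cons, _root_.List.map_nil, _root_.List.prod_cons, _root_.List.prod_nil, _root_.mul_one, _root_.map_one, _root_.MulZeroClass.mul_zero, _root_.add_zero] using h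

theorem rel_3_11 (h2 : (2 : K) = 0) : gm T (gi .a3) * gm T (gi .a11) = gm T (gi .a11) * gm T (gi .a3) * wv (gm T) (cw .a3 .a11) := by
  have h := T.rel.r38 1 0 1
  simpa only [gm, gi, cw, wv, h2, x1_zero T.rel, x3_zero T.rel, x5_zero T.rel, x7_zero T.rel, x2_zero T.rel, x4_zero T.rel, x6_zero T.rel, x8_zero T.rel, x2_11, x4_11, x6_11, x8_11, mul_assoc, _root_.List.map_cons, _root_.List.map_nil, _root_.List.prod_cons, _root_.List.prod_nil, _root_.mul_one, _root_.map_one, _root_.MulZeroClass.mul_zero, _root_.map_zero, _root_.zero_add] using h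

theorem rel_4_5 (h2 : (2 : K) = 0) : gm T (gi .a4) * gm T (gi .a5) = gm T (gi .a5) * gm T (gi .a4) * wv (gm T) (cw .a4 .a5) := by
  simp only [gm, gi, cw, wv, List.map_nil, List.prod_nil, mul_one]
  rw [T.rel.m4, T.rel.m4]
  simp

theorem rel_4_6 (h2 : (2 : K) = 0) : gm T (gi .a4) * gm T (gi .a6) = gm T (gi .a6) * gm T (gi .a4) * wv (gm T) (cw .a4 .a6) := by
  have h := T.rel.r45 1 0 1
  simpa only [gm, gi, cw, wv, h2, x1_zero T.rel, x3_zero T.rel, x5_zero T.rel, x7_zero T.rel, x2_zero T.rel, x4_zero T.rel, x6_zero T.rel, x8_zero T.rel, x2_11, x4_11, x6_11, x8_11, mul_assoc, _root_.List.map_nil, _root_.List.prod_nil, _root_.mul_one] using h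

theorem rel_4_7 (h2 : (2 : K) = 0) : gm T (gi .a4) * gm T (gi .a7) = gm T (gi .a7) * gm T (gi .a4) * wv (gm T) (cw .a4 .a7) := by
  have h := T.rel.r46 1 0 1 0
  simpa only [gm, gi, cw, wv, h2, x1_zero T.rel, x3_zero T.rel, x5_zero T.rel, x7_zero T.rel, x2_zero T.rel, x4_zero T.rel, x6_zero T.rel, x8_zero T.rel, x2_11, x4_11, x6_11, x8_11, mul_assoc, _root_.List.map_cons, _root_.List.map_nil, _root_.List.prod_cons, _root_.List.prod_nil, _root_.mul_one] using h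

theorem rel_4_8 (h2 : (2 : K) = 0) : gm T (gi .a4) * gm T (gi .a8) = gm T (gi .a8) * gm T (gi .a4) * wv (gm T) (cw .a4 .a8) := by
  have h := T.rel.r46 1 0 0 1
  simpa only [gm, gi, cw, wv, h2, x1_zero T.rel, x3_zero T.rel, x5_zero T.rel, x7_zero T.rel, x2_zero T.rel, x4_zero T.rel, x6_zero T.rel, x8_zero T.rel, x2_11, x4_11, x6_11, x8_11, mul_assoc, _root_.List.map_nil, _root_.List.prod_nil, _root_.mul_one, _root_.MulZeroClass.mul_zero] using h

theorem rel_4_9 (h2 : (2 : K) = 0) : gm T (gi .a4) * gm T (gi .a9) = gm T (gi .a9) * gm T (gi .a4) * wv (gm T) (cw .a4 .a9) := by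
  have h := T.rel.r47 1 0 1
  simpa only [gm, gi, cw, wv, h2, x1_zero T.rel, x3_zero T.rel, x5_zero T.rel, x7_zero T.rel, x2_zero T.rel, x4_zero T.rel, x6_zero T.rel, x8_zero T.rel, x2_11, x4_11, x6_11, x8_11, mul_assoc, _root_.List.map_cons, _root_.List.map_nil, _root_.List.prod_cons, _root_.List.prod_nil, _root_.mul_one] using h

theorem rel_4_10 (h2 : (2 : K) = 0) : gm T (gi .a4) * gm T (gi .a10) = gm T (gi .a10) * gm T (gi .a4) * wv (gm T) (cw .a4 .a10) := by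
  have h := T.rel.r48 1 0 1 0
  simpa only [gm, gi, cw, wv, h2, x1_zero T.rel, x3_zero T.rel, x5_zero T.rel, x7_zero T.rel, x2_zero T.rel, x4_zero T.rel, x6_zero T.rel, x8_zero T.rel, x2_11, x4_11, x6_11, x8_11, mul_assoc, _root_.List.map_nil, _root_.List.prod_nil, _root_.mul_one] using h

theorem rel_4_11 (h2 : (2 : K) = 0) : gm T (gi .a4) * gm T (gi .a11) = gm T (gi .a11) * gm T (gi .a4) * wv (gm T) (cw .a4 .a11) := by
  have h := T.rel.r48 1 0 0 1
  simpa only [gm, gi, cw, wv, h2, x1_zero T.rel, x3_zero T.rel, x5_zero T.rel, x7_zero T.rel, x2_zero T.rel, x4_zero T.rel, x6_zero T.rel, x8_zero T.rel, x2_11, x4_11, x6_11, x8_11, mul_assoc, _root_.List.map_nil, _root_.List.prod_nil, _root_.mul_one] using h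

theorem rel_5_6 (h2 : (2 : K) = 0) : gm T (gi .a5) * gm T (gi .a6) = gm T (gi .a6) * gm T (gi .a5) * wv (gm T) (cw .a5 .a6) := by
  have h := T.rel.r45 0 1 1
  simpa only [gm, gi, cw, wv, h2, x1_zero T.rel, x3_zero T.rel, x5_zero T.rel, x7_zero T.rel, x2_zero T.rel, x4_zero T.rel, x6_zero T.rel, x8_zero T.rel, x2_11, x4_11, x6_11, x8_11, mul_assoc, _root_.List.map_nil, _root_.List.prod_nil, _root_.mul_one] using h

theorem rel_5_7 (h2 : (2 : K) = 0) : gm T (gi .a5) * gm T (gi .a7) = gm T (gi .a7) * gm T (gi .a5) * wv (gm T) (cw .a5 .a7) := by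
  have h := T.rel.r46 0 1 1 0
  simpa only [gm, gi, cw, wv, h2, x1_zero T.rel, x3_zero T.rel, x5_zero T.rel, x7_zero T.rel, x2_zero T.rel, x4_zero T.rel, x6_zero T.rel, x8_zero T.rel, x2_11, x4_11, x6_11, x8_11, mul_assoc, _root_.List.map_nil, _root_.List.prod_nil, _root_.mul_one] using h

theorem rel_5_8 (h2 : (2 : K) = 0) : gm T (gi .a5) * gm T (gi .a8) = gm T (gi .a8) * gm T (gi .a5) * wv (gm T) (cw .a5 .a8) := by
  have h := T.rel.r46 0 1 0 1
  simpa only [gm, gi, cw, wv, h2, x1_zero T.rel, x3_zero T.rel, x5_zero T.rel, x7_zero T.rel, x2_zero T.rel, x4_zero T.rel, x6_zero T.rel, x8_zero T.rel, x2_11, x4_11, x6_11, x8_11, mul_assoc, _root_.List.map_nil, _root_.List.prod_nil, _root_.mul_one, _root_.MulZeroClass.mul_zero] using h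

theorem rel_5_9 (h2 : (2 : K) = 0) : gm T (gi .a5) * gm T (gi .a9) = gm T (gi .a9) * gm T (gi .a5) * wv (gm T) (cw .a5 .a9) := by
  have h := T.rel.r47 0 1 1
  simpa only [gm, gi, cw, wv, h2, x1_zero T.rel, x3_zero T.rel, x5_zero T.rel, x7_zero T.rel, x2_zero T.rel, x4_zero T.rel, x6_zero T.rel, x8_zero T.rel, x2_11, x4_11, x6_11, x8_11, mul_assoc, _root_.List.map_nil, _root_.List.prod_nil, _root_.mul_one] using h

theorem rel_5_10 (h2 : (2 : K) = 0) : gm T (gi .a5) * gm T (gi .a10) = gm T (gi .a10) * gm T (gi .a5) * wv (gm T) (cw .a5 .a10) := by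
  have h := T.rel.r48 0 1 1 0
  simpa only [gm, gi, cw, wv, h2, x1_zero T.rel, x3_zero T.rel, x5_zero T.rel, x7_zero T.rel, x2_zero T.rel, x4_zero T.rel, x6_zero T.rel, x8_zero T.rel, x2_11, x4_11, x6_11, x8_11, mul_assoc, _root_.List.map_nil, _root_.List.prod_nil, _root_.mul_one] using h

theorem rel_5_11 (h2 : (2 : K) = 0) : gm T (gi .a5) * gm T (gi .a11) = gm T (gi .a11) * gm T (gi .a5) * wv (gm T) (cw .a5 .a11) := by
  have h := T.rel.r48 0 1 0 1
  simpa only [gm, gi, cw, wv, h2, x1_zero T.rel, x3_zero T.rel, x5_zero T.rel, x7_zero T.rel, x2_zero T.rel, x4_zero T.rel, x6_zero T.rel, x8_zero T.rel, x2_11, x4_11, x6_11, x8_11, mul_assoc, _root_.List.map_nil, _root_.List.prod_nil, _root_.mul_one] using h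

theorem rel_6_7 (h2 : (2 : K) = 0) : gm T (gi .a6) * gm T (gi .a7) = gm T (gi .a7) * gm T (gi .a6) * wv (gm T) (cw .a6 .a7) := by
  have h := T.rel.r56 1 1 0
  simpa only [gm, gi, cw, wv, h2, x1_zero T.rel, x3_zero T.rel, x5_zero T.rel, x7_zero T.rel, x2_zero T.rel, x4_zero T.rel, x6_zero T.rel, x8_zero T.rel, x2_11, x4_11, x6_11, x8_11, mul_assoc, _root_.List.map_nil, _root_.List.prod_nil, _root_.mul_one] using h

theorem rel_6_8 (h2 : (2 : K) = 0) : gm T (gi .a6) * gm T (gi .a8) = gm T (gi .a8) * gm T (gi .a6) * wv (gm T) (cw .a6 .a8) := by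
  have h := T.rel.r56 1 0 1
  simpa only [gm, gi, cw, wv, h2, x1_zero T.rel, x3_zero T.rel, x5_zero T.rel, x7_zero T.rel, x2_zero T.rel, x4_zero T.rel, x6_zero T.rel, x8_zero T.rel, x2_11, x4_11, x6_11, x8_11, mul_assoc, _root_.List.map_nil, _root_.List.prod_nil, _root_.mul_one] using h

theorem rel_6_9 (h2 : (2 : K) = 0) : gm T (gi .a6) * gm T (gi .a9) = gm T (gi .a9) * gm T (gi .a6) * wv (gm T) (cw .a6 .a9) := by
  have h := T.rel.r57 1 1
  simpa only [gm, gi, cw, wv, h2, x1_zero T.rel, x3_zero T.rel, x5_zero T.rel, x7_zero T.rel, x2_zero T.rel, x4_zero T.rel, x6_zero T.rel, x8_zero T.rel, x2_11, x4_11, x6_11, x8_11, mul_assoc, _root_.List.map_nil, _root_.List.prod_nil, _root_.mul_one] using h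

theorem rel_6_10 (h2 : (2 : K) = 0) : gm T (gi .a6) * gm T (gi .a10) = gm T (gi .a10) * gm T (gi .a6) * wv (gm T) (cw .a6 .a10) := by
  have h := T.rel.r58 1 1 0
  simpa only [gm, gi, cw, wv, h2, x1_zero T.rel, x3_zero T.rel, x5_zero T.rel, x7_zero T.rel, x2_zero T.rel, x4_zero T.rel, x6_zero T.rel, x8_zero T.rel, x2_11, x4_11, x6_11, x8_11, mul_assoc, _root_.List.map_cons, _root_.List.map_nil, _root_.List.prod_cons, _root_.List.prod_nil, _root_.mul_one] using h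

theorem rel_6_11 (h2 : (2 : K) = 0) : gm T (gi .a6) * gm T (gi .a11) = gm T (gi .a11) * gm T (gi .a6) * wv (gm T) (cw .a6 .a11) := by
  have h := T.rel.r58 1 0 1
  simpa only [gm, gi, cw, wv, h2, x1_zero T.rel, x3_zero T.rel, x5_zero T.rel, x7_zero T.rel, x2_zero T.rel, x4_zero T.rel, x6_zero T.rel, x8_zero T.rel, x2_11, x4_11, x6_11, x8_11, mul_assoc, _root_.List.map_nil, _root_.List.prod_nil, _root_.mul_one, _root_.MulZeroClass.mul_zero] using h

theorem rel_7_8 (h2 : (2 : K) = 0) : gm T (gi .a7) * gm T (gi .a8) = gm T (gi .a8) * gm T (gi .a7) * wv (gm T) (cw .a7 .a8) := by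
  simp only [gm, gi, cw, wv, List.map_nil, List.prod_nil, mul_one]
  rw [T.rel.m6, T.rel.m6]
  simp

theorem rel_7_9 (h2 : (2 : K) = 0) : gm T (gi .a7) * gm T (gi .a9) = gm T (gi .a9) * gm T (gi .a7) * wv (gm T) (cw .a7 .a9) := by
  have h := T.rel.r67 1 0 1
  simpa only [gm, gi, cw, wv, h2, x1_zero T.rel, x3_zero T.rel, x5_zero T.rel, x7_zero T.rel, x2_zero T.rel, x4_zero T.rel, x6_zero T.rel, x8_zero T.rel, x2_11, x4_11, x6_11, x8_11, mul_assoc, _root_.List.map_nil, _root_.List.prod_nil, _root_.mul_one] using h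

theorem rel_7_10 (h2 : (2 : K) = 0) : gm T (gi .a7) * gm T (gi .a10) = gm T (gi .a10) * gm T (gi .a7) * wv (gm T) (cw .a7 .a10) := by
  have h := T.rel.r68 1 0 1 0
  simpa only [gm, gi, cw, wv, h2, x1_zero T.rel, x3_zero T.rel, x5_zero T.rel, x7_zero T.rel, x2_zero T.rel, x4_zero T.rel, x6_zero T.rel, x8_zero T.rel, x2_11, x4_11, x6_11, x8_11, mul_assoc, _root_.List.map_cons, _root_.List.map_nil, _root_.List.prod_cons, _root_.List.prod_nil, _root_.mul_one] using h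

theorem rel_7_11 (h2 : (2 : K) = 0) : gm T (gi .a7) * gm T (gi .a11) = gm T (gi .a11) * gm T (gi .a7) * wv (gm T) (cw .a7 .a11) := by
  have h := T.rel.r68 1 0 0 1
  simpa only [gm, gi, cw, wv, h2, x1_zero T.rel, x3_zero T.rel, x5_zero T.rel, x7_zero T.rel, x2_zero T.rel, x4_zero T.rel, x6_zero T.rel, x8_zero T.rel, x2_11, x4_11, x6_11, x8_11, mul_assoc, _root_.List.map_nil, _root_.List.prod_nil, _root_.mul_one, _root_.MulZeroClass.mul_zero] using h

theorem rel_8_9 (h2 : (2 : K) = 0) : gm T (gi .a8) * gm T (gi .a9) = gm T (gi .a9) * gm T (gi .a8) * wv (gm T) (cw .a8 .a9) := by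
  have h := T.rel.r67 0 1 1
  simpa only [gm, gi, cw, wv, h2, x1_zero T.rel, x3_zero T.rel, x5_zero T.rel, x7_zero T.rel, x2_zero T.rel, x4_zero T.rel, x6_zero T.rel, x8_zero T.rel, x2_11, x4_11, x6_11, x8_11, mul_assoc, _root_.List.map_nil, _root_.List.prod_nil, _root_.mul_one] using h

theorem rel_8_10 (h2 : (2 : K) = 0) : gm T (gi .a8) * gm T (gi .a10) = gm T (gi .a10) * gm T (gi .a8) * wv (gm T) (cw .a8 .a10) := by
  have h := T.rel.r68 0 1 1 0
  simpa only [gm, gi, cw, wv, h2, x1_zero T.rel, x3_zero T.rel, x5_zero T.rel, x7_zero T.rel, x2_zero T.rel, x4_zero T.rel, x6_zero T.rel, x8_zero T.rel, x2_11, x4_11, x6_11, x8_11, mul_assoc, _root_.List.map_nil, _root_.List.prod_nil, _root_.mul_one] using h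

theorem rel_8_11 (h2 : (2 : K) = 0) : gm T (gi .a8) * gm T (gi .a11) = gm T (gi .a11) * gm T (gi .a8) * wv (gm T) (cw .a8 .a11) := by
  have h := T.rel.r68 0 1 0 1
  simpa only [gm, gi, cw, wv, h2, x1_zero T.rel, x3_zero T.rel, x5_zero T.rel, x7_zero T.rel, x2_zero T.rel, x4_zero T.rel, x6_zero T.rel, x8_zero T.rel, x2_11, x4_11, x6_11, x8_11, mul_assoc, _root_.List.map_nil, _root_.List.prod_nil, _root_.mul_one, _root_.MulZeroClass.mul_zero] using h

theorem rel_9_10 (h2 : (2 : K) = 0) : gm T (gi .a9) * gm T (gi .a10) = gm T (gi .a10) * gm T (gi .a9) * wv (gm T) (cw .a9 .a10) := by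
  have h := T.rel.r78 1 1 0
  simpa only [gm, gi, cw, wv, h2, x1_zero T.rel, x3_zero T.rel, x5_zero T.rel, x7_zero T.rel, x2_zero T.rel, x4_zero T.rel, x6_zero T.rel, x8_zero T.rel, x2_11, x4_11, x6_11, x8_11, mul_assoc, _root_.List.map_nil, _root_.List.prod_nil, _root_.mul_one] using h

theorem rel_9_11 (h2 : (2 : K) = 0) : gm T (gi .a9) * gm T (gi .a11) = gm T (gi .a11) * gm T (gi .a9) * wv (gm T) (cw .a9 .a11) := by
  have h := T.rel.r78 1 0 1
  simpa only [gm, gi, cw, wv, h2, x1_zero T.rel, x3_zero T.rel, x5_zero T.rel, x7_zero T.rel, x2_zero T.rel, x4_zero T.rel, x6_zero T.rel, x8_zero T.rel, x2_11, x4_11, x6_11, x8_11, mul_assoc, _root_.List.map_nil, _root_.List.prod_nil, _root_.mul_one] using h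

theorem rel_10_11 (h2 : (2 : K) = 0) : gm T (gi .a10) * gm T (gi .a11) = gm T (gi .a11) * gm T (gi .a10) * wv (gm T) (cw .a10 .a11) := by
  simp only [gm, gi, cw, wv, List.map_nil, List.prod_nil, mul_one]
  rw [T.rel.m8, T.rel.m8]
  simp

theorem e11 (h2 : (2 : K) = 0) : (1 : K) + 1 = 0 := by rw [one_add_one_eq_two, h2]

theorem sq_0 (h2 : (2 : K) = 0) : gm T (gi .a0) * gm T (gi .a0) = val (gm T) (sqm .a0) := by
  rw [show sqm .a0 = 0 from rfl, val_zero]
  simp only [gm, gi]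
  rw [T.rel.m1]
  simp [e11 h2, x1_zero T.rel]

theorem sq_1 (h2 : (2 : K) = 0) : gm T (gi .a1) * gm T (gi .a1) = val (gm T) (sqm .a1) := by
  rw [show sqm .a1 = mk .a2 from rfl, val_mk]
  simp only [gm, gi]
  rw [T.rel.m2]
  simp [e11 h2]

theorem sq_2 (h2 : (2 : K) = 0) : gm T (gi .a2) * gm T (gi .a2) = val (gm T) (sqm .a2) := by
  rw [show sqm .a2 = 0 from rfl, val_zero]
  simp only [gm, gi]
  rw [T.rel.m2]
  simp [e11 h2, x2_zero T.rel]

theorem sq_3 (h2 : (2 : K) = 0) : gm T (gi .a3) * gm T (gi .a3) = val (gm T) (sqm .a3) := by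
  rw [show sqm .a3 = 0 from rfl, val_zero]
  simp only [gm, gi]
  rw [T.rel.m3]
  simp [e11 h2, x3_zero T.rel]

theorem sq_4 (h2 : (2 : K) = 0) : gm T (gi .a4) * gm T (gi .a4) = val (gm T) (sqm .a4) := by
  rw [show sqm .a4 = mk .a5 from rfl, val_mk]
  simp only [gm, gi]
  rw [T.rel.m4]
  simp [e11 h2]

theorem sq_5 (h2 : (2 : K) = 0) : gm T (gi .a5) * gm T (gi .a5) = val (gm T) (sqm .a5) := by
  rw [show sqm .a5 = 0 from rfl, val_zero]
  simp only [gm, gi]
  rw [T.rel.m4]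
  simp [e11 h2, x4_zero T.rel]

theorem sq_6 (h2 : (2 : K) = 0) : gm T (gi .a6) * gm T (gi .a6) = val (gm T) (sqm .a6) := by
  rw [show sqm .a6 = 0 from rfl, val_zero]
  simp only [gm, gi]
  rw [T.rel.m5]
  simp [e11 h2, x5_zero T.rel]

theorem sq_7 (h2 : (2 : K) = 0) : gm T (gi .a7) * gm T (gi .a7) = val (gm T) (sqm .a7) := by
  rw [show sqm .a7 = mk .a8 from rfl, val_mk]
  simp only [gm, gi]
  rw [T.rel.m6]
  simp [e11 h2]

theorem sq_8 (h2 : (2 : K) = 0) : gm T (gi .a8) * gm T (gi .a8) = val (gm T) (sqm .a8) := by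
  rw [show sqm .a8 = 0 from rfl, val_zero]
  simp only [gm, gi]
  rw [T.rel.m6]
  simp [e11 h2, x6_zero T.rel]

theorem sq_9 (h2 : (2 : K) = 0) : gm T (gi .a9) * gm T (gi .a9) = val (gm T) (sqm .a9) := by
  rw [show sqm .a9 = 0 from rfl, val_zero]
  simp only [gm, gi]
  rw [T.rel.m7]
  simp [e11 h2, x7_zero T.rel]

theorem sq_10 (h2 : (2 : K) = 0) : gm T (gi .a10) * gm T (gi .a10) = val (gm T) (sqm .a10) := by
  rw [show sqm .a10 = mk .a11 from rfl, val_mk]
  simp only [gm, gi]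
  rw [T.rel.m8]
  simp [e11 h2]

theorem sq_11 (h2 : (2 : K) = 0) : gm T (gi .a11) * gm T (gi .a11) = val (gm T) (sqm .a11) := by
  rw [show sqm .a11 = 0 from rfl, val_zero]
  simp only [gm, gi]
  rw [T.rel.m8]
  simp [e11 h2, x8_zero T.rel]

theorem rel_of (h2 : (2 : K) = 0) : Rel (gm T) where
  sq := by
    intro g
    cases g
    · exact sq_0 T h2
    · exact sq_1 T h2
    · exact sq_2 T h2
    · exact sq_3 T h2
    · exact sq_4 T h2
    · exact sq_5 T h2
    · exact sq_6 T h2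
    · exact sq_7 T h2
    · exact sq_8 T h2
    · exact sq_9 T h2
    · exact sq_10 T h2
    · exact sq_11 T h2
  rel := by
    intro k j h
    cases k <;> cases j <;> [((exfalso; revert h; decide)); (with_reducible exact rel_0_1 T h2); (with_reducible exact rel_0_2 T h2); (with_reducible exact rel_0_3 T h2);
                             (with_reducible exact rel_0_4 T h2); (with_reducible exact rel_0_5 T h2); (with_reducible exact rel_0_6 T h2); (with_reducible exact rel_0_7 T h2);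
                             (with_reducible exact rel_0_8 T h2); (with_reducible exact rel_0_9 T h2); (with_reducible exact rel_0_10 T h2); (with_reducible exact rel_0_11 T h2);
                             ((exfalso; revert h; decide)); ((exfalso; revert h; decide)); (with_reducible exact rel_1_2 T h2); (with_reducible exact rel_1_3 T h2);
                             (with_reducible exact rel_1_4 T h2); (with_reducible exact rel_1_5 T h2); (with_reducible exact rel_1_6 T h2); (with_reducible exact rel_1_7 T h2);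
                             (with_reducible exact rel_1_8 T h2); (with_reducible exact rel_1_9 T h2); (with_reducible exact rel_1_10 T h2); (with_reducible exact rel_1_11 T h2);
                             ((exfalso; revert h; decide)); ((exfalso; revert h; decide)); ((exfalso; revert h; decide)); (with_reducible exact rel_2_3 T h2);
                             (with_reducible exact rel_2_4 T h2); (with_reducible exact rel_2_5 T h2); (with_reducible exact rel_2_6 T h2); (with_reducible exact rel_2_7 T h2);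
                             (with_reducible exact rel_2_8 T h2); (with_reducible exact rel_2_9 T h2); (with_reducible exact rel_2_10 T h2); (with_reducible exact rel_2_11 T h2);
                             ((exfalso; revert h; decide)); ((exfalso; revert h; decide)); ((exfalso; revert h; decide)); ((exfalso; revert h; decide));
                             (with_reducible exact rel_3_4 T h2); (with_reducible exact rel_3_5 T h2); (with_reducible exact rel_3_6 T h2); (with_reducible exact rel_3_7 T h2);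
                             (with_reducible exact rel_3_8 T h2); (with_reducible exact rel_3_9 T h2); (with_reducible exact rel_3_10 T h2); (with_reducible exact rel_3_11 T h2);
                             ((exfalso; revert h; decide)); ((exfalso; revert h; decide)); ((exfalso; revert h; decide)); ((exfalso; revert h; decide));
                             ((exfalso; revert h; decide)); (with_reducible exact rel_4_5 T h2); (with_reducible exact rel_4_6 T h2); (with_reducible exact rel_4_7 T h2);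
                             (with_reducible exact rel_4_8 T h2); (with_reducible exact rel_4_9 T h2); (with_reducible exact rel_4_10 T h2); (with_reducible exact rel_4_11 T h2);
                             ((exfalso; revert h; decide)); ((exfalso; revert h; decide)); ((exfalso; revert h; decide)); ((exfalso; revert h; decide));
                             ((exfalso; revert h; decide)); ((exfalso; revert h; decide)); (with_reducible exact rel_5_6 T h2); (with_reducible exact rel_5_7 T h2);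
                             (with_reducible exact rel_5_8 T h2); (with_reducible exact rel_5_9 T h2); (with_reducible exact rel_5_10 T h2); (with_reducible exact rel_5_11 T h2);
                             ((exfalso; revert h; decide)); ((exfalso; revert h; decide)); ((exfalso; revert h; decide)); ((exfalso; revert h; decide));
                             ((exfalso; revert h; decide)); ((exfalso; revert h; decide)); ((exfalso; revert h; decide)); (with_reducible exact rel_6_7 T h2);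
                             (with_reducible exact rel_6_8 T h2); (with_reducible exact rel_6_9 T h2); (with_reducible exact rel_6_10 T h2); (with_reducible exact rel_6_11 T h2);
                             ((exfalso; revert h; decide)); ((exfalso; revert h; decide)); ((exfalso; revert h; decide)); ((exfalso; revert h; decide));
                             ((exfalso; revert h; decide)); ((exfalso; revert h; decide)); ((exfalso; revert h; decide)); ((exfalso; revert h; decide));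
                             (with_reducible exact rel_7_8 T h2); (with_reducible exact rel_7_9 T h2); (with_reducible exact rel_7_10 T h2); (with_reducible exact rel_7_11 T h2);
                             ((exfalso; revert h; decide)); ((exfalso; revert h; decide)); ((exfalso; revert h; decide)); ((exfalso; revert h; decide));
                             ((exfalso; revert h; decide)); ((exfalso; revert h; decide)); ((exfalso; revert h; decide)); ((exfalso; revert h; decide));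
                             ((exfalso; revert h; decide)); (with_reducible exact rel_8_9 T h2); (with_reducible exact rel_8_10 T h2); (with_reducible exact rel_8_11 T h2);
                             ((exfalso; revert h; decide)); ((exfalso; revert h; decide)); ((exfalso; revert h; decide)); ((exfalso; revert h; decide));
                             ((exfalso; revert h; decide)); ((exfalso; revert h; decide)); ((exfalso; revert h; decide)); ((exfalso; revert h; decide));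
                             ((exfalso; revert h; decide)); ((exfalso; revert h; decide)); (with_reducible exact rel_9_10 T h2); (with_reducible exact rel_9_11 T h2);
                             ((exfalso; revert h; decide)); ((exfalso; revert h; decide)); ((exfalso; revert h; decide)); ((exfalso; revert h; decide));
                             ((exfalso; revert h; decide)); ((exfalso; revert h; decide)); ((exfalso; revert h; decide)); ((exfalso; revert h; decide));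
                             ((exfalso; revert h; decide)); ((exfalso; revert h; decide)); ((exfalso; revert h; decide)); (with_reducible exact rel_10_11 T h2);
                             ((exfalso; revert h; decide)); ((exfalso; revert h; decide)); ((exfalso; revert h; decide)); ((exfalso; revert h; decide));
                             ((exfalso; revert h; decide)); ((exfalso; revert h; decide)); ((exfalso; revert h; decide)); ((exfalso; revert h; decide));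
                             ((exfalso; revert h; decide)); ((exfalso; revert h; decide)); ((exfalso; revert h; decide)); ((exfalso; revert h; decide))]

end Cfsg.Agent.H782.TF
end

-- part: H782/TF/Two
section
/-!
# S5262, q = 2: the codes describe `U`, the subgroups of the plan (helper782)
-/

set_option autoImplicit false

namespace Cfsg.Agent.H782.TF

open Cfsg.Agent.Octagon.Pkg Cfsg.Agent.H745.TF Cfsg.Agent.H659.TF

universe u v

variable {K : Type u} [Field K] {σ : K →+* K} {U : Type v} [Group U]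

theorem zero_or_one (hK : HypK σ 0) (x : K) : x = 0 ∨ x = 1 := by
  by_cases hx : x = 0
  · exact Or.inl hx
  · right
    have hfin := hK.fin
    have := Fintype.ofFinite K
    have h := FiniteField.pow_card_sub_one_eq_one x hx
    rw [← Nat.card_eq_fintype_card, hK.card] at h
    simpa using h

/-- a bit as a field element -/
def bt (K : Type u) [Field K] (b : Bool) : K := if b then 1 else 0

theorem bt_inj {a b : Bool} (h : bt K a = bt K b) : a = b := by
  cases a <;> cases b <;> simp [bt] at h ⊢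

/-- the coordinates of a code -/
def cd (K : Type u) [Field K] (n : ℕ) : Cd K :=
  ⟨bt K (n.testBit 0), bt K (n.testBit 1), bt K (n.testBit 2), bt K (n.testBit 3), bt K (n.testBit 4), bt K (n.testBit 5),
    bt K (n.testBit 6), bt K (n.testBit 7), bt K (n.testBit 8), bt K (n.testBit 9), bt K (n.testBit 10),
    bt K (n.testBit 11)⟩

variable (T : Cfsg.Agent.H745.TF.TF σ U)

theorem x1_bt (a : Bool) : T.x1 (bt K a) = if a then T.x1 1 else 1 := by
  cases a <;> simp [bt, x1_zero T.rel]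

theorem x3_bt (a : Bool) : T.x3 (bt K a) = if a then T.x3 1 else 1 := by
  cases a <;> simp [bt, x3_zero T.rel]

theorem x5_bt (a : Bool) : T.x5 (bt K a) = if a then T.x5 1 else 1 := by
  cases a <;> simp [bt, x5_zero T.rel]

theorem x7_bt (a : Bool) : T.x7 (bt K a) = if a then T.x7 1 else 1 := by
  cases a <;> simp [bt, x7_zero T.rel]

theorem x2_bt (a b : Bool) : T.x2 (bt K a) (bt K b) = (if a then T.x2 1 0 else 1) * (if b then T.x2 0 1 else 1) := by
  cases a <;> cases b <;> simp [bt, x2_zero T.rel, x2_11]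

theorem x4_bt (a b : Bool) : T.x4 (bt K a) (bt K b) = (if a then T.x4 1 0 else 1) * (if b then T.x4 0 1 else 1) := by
  cases a <;> cases b <;> simp [bt, x4_zero T.rel, x4_11]

theorem x6_bt (a b : Bool) : T.x6 (bt K a) (bt K b) = (if a then T.x6 1 0 else 1) * (if b then T.x6 0 1 else 1) := by
  cases a <;> cases b <;> simp [bt, x6_zero T.rel, x6_11]

theorem x8_bt (a b : Bool) : T.x8 (bt K a) (bt K b) = (if a then T.x8 1 0 else 1) * (if b then T.x8 0 1 else 1) := by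
  cases a <;> cases b <;> simp [bt, x8_zero T.rel, x8_11]

theorem val_cd (n : ℕ) : val (gm T) n = T.el (cd K n) := by
  simp only [val, vc, TF.el, cd, x1_bt, x2_bt, x3_bt, x4_bt, x5_bt, x6_bt, x7_bt, x8_bt, gm, one_mul, mul_assoc]

/-- the bits of coordinates -/
noncomputable def bits (c : Cd K) : Fin 12 → Bool :=
  open Classical in
  ![decide (c.a1 = 1), decide (c.a2 = 1), decide (c.b2 = 1), decide (c.a3 = 1), decide (c.a4 = 1), decide (c.b4 = 1),
    decide (c.a5 = 1), decide (c.a6 = 1), decide (c.b6 = 1), decide (c.a7 = 1), decide (c.a8 = 1), decide (c.b8 = 1)]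

theorem bt_decide (hK : HypK σ 0) (x : K) (d : Decidable (x = 1)) : bt K (@decide (x = 1) d) = x := by
  rcases zero_or_one hK x with rfl | rfl <;> simp [bt]

theorem cd_ofBits (hK : HypK σ 0) (c : Cd K) : cd K (Nat.ofBits (bits c)) = c := by
  have h : ∀ i (hi : i < 12), (Nat.ofBits (bits c)).testBit i = bits c ⟨i, hi⟩ := fun i hi =>
    Nat.testBit_ofBits_lt (bits c) i hi
  rw [cd, h 0 (by norm_num), h 1 (by norm_num), h 2 (by norm_num), h 3 (by norm_num), h 4 (by norm_num),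
    h 5 (by norm_num), h 6 (by norm_num), h 7 (by norm_num), h 8 (by norm_num), h 9 (by norm_num), h 10 (by norm_num),
    h 11 (by norm_num)]
  ext <;> exact bt_decide hK _ _

theorem cod_of (hK : HypK σ 0) : Cod (gm T) where
  toRel := rel_of T hK.two
  surj := fun x => by
    obtain ⟨c, rfl⟩ := T.bij.2 x
    refine ⟨Nat.ofBits (bits c), Nat.ofBits_lt_two_pow _, ?_⟩
    rw [val_cd, cd_ofBits hK]
    rfl
  inj := fun m hm n hn h => by
    rw [val_cd, val_cd] at h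
    have h1 : cd K m = cd K n := T.bij.1 h
    have h2 : ∀ i, i < 12 → m.testBit i = n.testBit i := by
      intro i hi
      have k1 := bt_inj (congrArg Cd.a1 h1)
      have k2 := bt_inj (congrArg Cd.a2 h1)
      have k3 := bt_inj (congrArg Cd.b2 h1)
      have k4 := bt_inj (congrArg Cd.a3 h1)
      have k5 := bt_inj (congrArg Cd.a4 h1)
      have k6 := bt_inj (congrArg Cd.b4 h1)
      have k7 := bt_inj (congrArg Cd.a5 h1)
      have k8 := bt_inj (congrArg Cd.a6 h1)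
      have k9 := bt_inj (congrArg Cd.b6 h1)
      have k10 := bt_inj (congrArg Cd.a7 h1)
      have k11 := bt_inj (congrArg Cd.a8 h1)
      have k12 := bt_inj (congrArg Cd.b8 h1)
      interval_cases i <;> assumption
    apply Nat.eq_of_testBit_eq
    intro i
    by_cases hi : i < 12
    · exact h2 i hi
    · push Not at hi
      have hp : (4096 : ℕ) ≤ 2 ^ i := by
        calc (4096 : ℕ) = 2 ^ 12 := by norm_num
          _ ≤ 2 ^ i := Nat.pow_le_pow_right (by norm_num) hi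
      rw [Nat.testBit_lt_two_pow (lt_of_lt_of_le hm hp), Nat.testBit_lt_two_pow (lt_of_lt_of_le hn hp)]

/-! ### the subgroups -/

theorem X3_le (hK : HypK σ 0) {S : Subgroup U} (h : T.x3 1 ∈ S) : T.X3 ≤ S := by
  rw [TF.X3, Subgroup.closure_le]
  rintro _ ⟨t, rfl⟩
  rcases zero_or_one hK t with rfl | rfl
  · rw [x3_zero T.rel]; exact S.one_mem
  · exact h

theorem X5_le (hK : HypK σ 0) {S : Subgroup U} (h : T.x5 1 ∈ S) : T.X5 ≤ S := by
  rw [TF.X5, Subgroup.closure_le]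
  rintro _ ⟨t, rfl⟩
  rcases zero_or_one hK t with rfl | rfl
  · rw [x5_zero T.rel]; exact S.one_mem
  · exact h

theorem X7_le (hK : HypK σ 0) {S : Subgroup U} (h : T.x7 1 ∈ S) : T.X7 ≤ S := by
  rw [TF.X7, Subgroup.closure_le]
  rintro _ ⟨t, rfl⟩
  rcases zero_or_one hK t with rfl | rfl
  · rw [x7_zero T.rel]; exact S.one_mem
  · exact h

theorem X2_le (hK : HypK σ 0) {S : Subgroup U} (h : T.x2 1 0 ∈ S) (h' : T.x2 0 1 ∈ S) : T.X2 ≤ S := by
  rw [TF.X2, Subgroup.closure_le]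
  rintro _ ⟨t, s, rfl⟩
  rcases zero_or_one hK t with rfl | rfl <;> rcases zero_or_one hK s with rfl | rfl
  · rw [x2_zero T.rel]; exact S.one_mem
  · exact h'
  · exact h
  · rw [x2_11]; exact S.mul_mem h h'

theorem X4_le (hK : HypK σ 0) {S : Subgroup U} (h : T.x4 1 0 ∈ S) (h' : T.x4 0 1 ∈ S) : T.X4 ≤ S := by
  rw [TF.X4, Subgroup.closure_le]
  rintro _ ⟨t, s, rfl⟩
  rcases zero_or_one hK t with rfl | rfl <;> rcases zero_or_one hK s with rfl | rfl
  · rw [x4_zero T.rel]; exact S.one_mem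
  · exact h'
  · exact h
  · rw [x4_11]; exact S.mul_mem h h'

theorem X6_le (hK : HypK σ 0) {S : Subgroup U} (h : T.x6 1 0 ∈ S) (h' : T.x6 0 1 ∈ S) : T.X6 ≤ S := by
  rw [TF.X6, Subgroup.closure_le]
  rintro _ ⟨t, s, rfl⟩
  rcases zero_or_one hK t with rfl | rfl <;> rcases zero_or_one hK s with rfl | rfl
  · rw [x6_zero T.rel]; exact S.one_mem
  · exact h'
  · exact h
  · rw [x6_11]; exact S.mul_mem h h'

theorem X8_le (hK : HypK σ 0) {S : Subgroup U} (h : T.x8 1 0 ∈ S) (h' : T.x8 0 1 ∈ S) : T.X8 ≤ S := by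
  rw [TF.X8, Subgroup.closure_le]
  rintro _ ⟨t, s, rfl⟩
  rcases zero_or_one hK t with rfl | rfl <;> rcases zero_or_one hK s with rfl | rfl
  · rw [x8_zero T.rel]; exact S.one_mem
  · exact h'
  · exact h
  · rw [x8_11]; exact S.mul_mem h h'

theorem mX3 (a : K) : T.x3 a ∈ T.X3 := Subgroup.subset_closure ⟨a, rfl⟩
theorem mX5 (a : K) : T.x5 a ∈ T.X5 := Subgroup.subset_closure ⟨a, rfl⟩
theorem mX7 (a : K) : T.x7 a ∈ T.X7 := Subgroup.subset_closure ⟨a, rfl⟩
theorem mX2 (a b : K) : T.x2 a b ∈ T.X2 := Subgroup.subset_closure ⟨a, b, rfl⟩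
theorem mX4 (a b : K) : T.x4 a b ∈ T.X4 := Subgroup.subset_closure ⟨a, b, rfl⟩
theorem mX6 (a b : K) : T.x6 a b ∈ T.X6 := Subgroup.subset_closure ⟨a, b, rfl⟩
theorem mX8 (a b : K) : T.x8 a b ∈ T.X8 := Subgroup.subset_closure ⟨a, b, rfl⟩
theorem mZ4 (b : K) : T.x4 0 b ∈ T.Z4 := Subgroup.subset_closure ⟨b, rfl⟩
theorem wv_one (γ : ℕ → U) (g : Gn) : wv γ [g] = γ (gi g) := by simp [wv]

theorem gm_mem {P : List Ent} {e : Ent} (he : e ∈ P) {g : Gn} (hg : e.w = [g]) : gm T (gi g) ∈ W (gm T) P := by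
  have := mem_W (γ := gm T) he
  rwa [hg, wv_one] at this

theorem W_PB (hK : HypK σ 0) : W (gm T) PB = T.QB := by
  apply le_antisymm
  · rw [W, Subgroup.closure_le]
    rintro _ ⟨e, he, rfl⟩
    have l2 : T.X2 ≤ T.QB := le_sup_left.trans (le_sup_left.trans (le_sup_left.trans (le_sup_left.trans
      (le_sup_left.trans le_sup_left))))
    have l3 : T.X3 ≤ T.QB := le_sup_right.trans (le_sup_left.trans (le_sup_left.trans (le_sup_left.trans
      (le_sup_left.trans le_sup_left))))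
    have l4 : T.X4 ≤ T.QB := le_sup_right.trans (le_sup_left.trans (le_sup_left.trans (le_sup_left.trans le_sup_left)))
    have l5 : T.X5 ≤ T.QB := le_sup_right.trans (le_sup_left.trans (le_sup_left.trans le_sup_left))
    have l6 : T.X6 ≤ T.QB := le_sup_right.trans (le_sup_left.trans le_sup_left)
    have l7 : T.X7 ≤ T.QB := le_sup_right.trans le_sup_left
    have l8 : T.X8 ≤ T.QB := le_sup_right
    simp only [PB, List.mem_cons, List.not_mem_nil, or_false] at he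
    rcases he with rfl | rfl | rfl | rfl | rfl | rfl | rfl | rfl | rfl | rfl | rfl <;>
      simp only [wv_one, gi, gm, SetLike.mem_coe]
    · exact l2 (mX2 T 1 0)
    · exact l2 (mX2 T 0 1)
    · exact l3 (mX3 T 1)
    · exact l4 (mX4 T 1 0)
    · exact l4 (mX4 T 0 1)
    · exact l5 (mX5 T 1)
    · exact l6 (mX6 T 1 0)
    · exact l6 (mX6 T 0 1)
    · exact l7 (mX7 T 1)
    · exact l8 (mX8 T 1 0)
    · exact l8 (mX8 T 0 1)
  · refine sup_le (sup_le (sup_le (sup_le (sup_le (sup_le (X2_le T hK ?_ ?_) (X3_le T hK ?_))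
      (X4_le T hK ?_ ?_)) (X5_le T hK ?_)) (X6_le T hK ?_ ?_)) (X7_le T hK ?_)) (X8_le T hK ?_ ?_)
    · exact gm_mem T (e := ⟨2, [.a1], [.a1, .a2]⟩) (by simp [PB]) (g := .a1) rfl
    · exact gm_mem T (e := ⟨4, [.a2], [.a2]⟩) (by simp [PB]) (g := .a2) rfl
    · exact gm_mem T (e := ⟨8, [.a3], [.a3]⟩) (by simp [PB]) (g := .a3) rfl
    · exact gm_mem T (e := ⟨16, [.a4], [.a4, .a5]⟩) (by simp [PB]) (g := .a4) rfl
    · exact gm_mem T (e := ⟨32, [.a5], [.a5]⟩) (by simp [PB]) (g := .a5) rfl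
    · exact gm_mem T (e := ⟨64, [.a6], [.a6]⟩) (by simp [PB]) (g := .a6) rfl
    · exact gm_mem T (e := ⟨128, [.a7], [.a7, .a8]⟩) (by simp [PB]) (g := .a7) rfl
    · exact gm_mem T (e := ⟨256, [.a8], [.a8]⟩) (by simp [PB]) (g := .a8) rfl
    · exact gm_mem T (e := ⟨512, [.a9], [.a9]⟩) (by simp [PB]) (g := .a9) rfl
    · exact gm_mem T (e := ⟨1024, [.a10], [.a10, .a11]⟩) (by simp [PB]) (g := .a10) rfl
    · exact gm_mem T (e := ⟨2048, [.a11], [.a11]⟩) (by simp [PB]) (g := .a11) rfl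

/-! ### normality -/

end Cfsg.Agent.H782.TF
end

-- part: H782/TF/FinBDef
section
/-!
# S5262, q = 2, B-side: definitions evaluated by the kernel (helper782)
-/

set_option autoImplicit false

noncomputable section

namespace Cfsg.Agent.H782.TF.FB

/-- letters -/
inductive L3
  | A | E | F

/-- an element of `QB` under a homomorphism given by images of the generators -/
def im (L : List (Gn × List Gn)) (z : Nat) : Nat → Nat :=
  @List.rec (Gn × List Gn) (fun _ => Nat → Nat) (fun x => x)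
    (fun p _ ih x => ih (cond (Nat.beq (Nat.land z (mk p.1)) 0) x (ap p.2 x))) L

/-- evaluation of a word in three letters -/
def wd (l : List L3) (a e f : Nat) : Nat → Nat :=
  @List.rec L3 (fun _ => Nat → Nat) (fun x => x)
    (fun c _ ih x => ih (mulc x (@L3.rec (fun _ => Nat) a e f c))) l

/-- forces the evaluation of the argument -/
def frc (k : Nat → Bool) (n : Nat) : Bool := @Nat.rec (fun _ => Bool) (k 0) (fun m _ => k (Nat.succ m)) n

/-- `P i` for all even `i < 2 n` -/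
def loopE (P : Nat → Bool) (n : Nat) : Bool := loopAll (fun i => frc P (Nat.mul 2 i)) n

/-- `ρ0 = c_x1 ∘ w0` -/
def LR : List (Gn × List Gn) := [(.a1, [.a0, .a10, .a0]), (.a2, [.a0, .a11, .a0]), (.a3, [.a0, .a9, .a0]),
  (.a4, [.a0, .a7, .a0]), (.a5, [.a0, .a8, .a0]), (.a6, [.a0, .a6, .a0]), (.a7, [.a0, .a4, .a0]),
  (.a8, [.a0, .a5, .a0]), (.a9, [.a0, .a3, .a0]), (.a10, [.a0, .a1, .a0]), (.a11, [.a0, .a2, .a0])]

/-- the generators as words in `a = x2(1,0)`, `e = ρ0 a`, `f = ρ0 e` -/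
def GW : List (Gn × List L3) := [(.a1, [.A]),
  (.a2, [.A, .A]),
  (.a3, [.E, .F, .E, .E, .F, .E, .F, .F]),
  (.a4, [.E, .A, .F, .A, .F, .F, .A]),
  (.a5, [.E, .F, .E, .F, .E, .F, .E, .F]),
  (.a6, [.A, .A, .A, .E, .A, .F, .E, .A, .F, .A]),
  (.a7, [.E, .F, .A, .F, .A, .A, .F]),
  (.a8, [.A, .E, .A, .E, .A, .E, .A, .E]),
  (.a9, [.A, .E, .A, .A, .E, .A, .E, .E]),
  (.a10, [.F]),
  (.a11, [.F, .F])]

/-- `C(ρ0)` -/
def C8 : List Nat := [0, 64, 920, 984, 2332, 2396, 2980, 3044]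

/-- the images of `a` which are not inner -/
def bad8 : List Nat := [74, 106, 258, 290, 778, 810, 834, 866]

/-- the words -/
def r1 : List L3 := [.F, .F, .E, .F]
def r1' : List L3 := [.E, .A, .F, .E, .E, .A]
def r2 : List L3 := [.E, .F, .E, .F, .E, .F, .E, .F]

/-- the generators are the words in `GW` -/
def chkG : Bool := allL (fun p => Nat.beq (wd p.2 2 (im LR 2 0) (im LR (im LR 2 0) 0) 0) (mk p.1)) GW

/-- `C8` -/
def chkC8 : Bool := allL (fun u => Nat.beq (im LR u 0) u) C8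

/-- the relations hold for `a` -/
def chkRel : Bool := cond (Nat.beq (wd r1 2 (im LR 2 0) (im LR (im LR 2 0) 0) 0) (wd r1' 2 (im LR 2 0) (im LR (im LR 2 0) 0) 0))
  (Nat.beq (wd r2 2 (im LR 2 0) (im LR (im LR 2 0) 0) 0) 32) false

/-- the candidates -/
def chkS : Bool := loopE (fun z => frc (fun e => frc (fun f =>
    cond (Nat.beq (wd r1 z e f 0) (wd r1' z e f 0))
      (cond (Nat.beq (wd r2 z e f 0) 32)
        (cond (anyL (fun u => Nat.beq (mulc z u) (mulc u 2)) C8) true (anyL (fun b => Nat.beq z b) bad8))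
        true) true) (im LR e 0)) (im LR z 0)) 2048

/-- the words of `L` have the codes `F l` -/
def zipc (F : List L3 → Nat) (G : List (Gn × List L3)) : List (Gn × List Gn) → Bool :=
  @List.rec (Gn × List L3) (fun _ => List (Gn × List Gn) → Bool)
    (fun L => @List.rec (Gn × List Gn) (fun _ => Bool) true (fun _ _ _ => false) L)
    (fun p _ ih L => @List.rec (Gn × List Gn) (fun _ => Bool) false
      (fun q L' _ => cond (Nat.beq (mk p.1) (mk q.1)) (cond (Nat.beq (ap q.2 0) (F p.2)) (ih L') false) false) L) G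

/-- `Ls` are the images of the generators under `s`, `Lt` the images under `t = s ∘ c_x1`, and no `w · t w` carries `t² x8`
to `x8` -/
def chkT (b : Nat) (Ls Lt : List (Gn × List Gn)) : Bool :=
  cond (zipc (fun l => wd l b (im LR b 0) (im LR (im LR b 0) 0) 0) GW Ls)
    (cond (allL (fun q => Nat.beq (ap q.2 0) (im Ls (ap [.a0, q.1, .a0] 0) 0)) Lt)
      (frc (fun c => loopE (fun z => frc (fun y => cond (Nat.beq (mulc y c) (mulc 1024 y)) false true)
        (mulc z (im Lt z 0))) 2048) (im Lt (im Lt 1024 0) 0))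
      false) false

def Ls74 : List (Gn × List Gn) := [(.a1, [.a1, .a3, .a6]),
  (.a2, [.a2, .a5]),
  (.a3, [.a3, .a5]),
  (.a4, [.a4, .a6, .a8]),
  (.a5, [.a5]),
  (.a6, [.a6]),
  (.a7, [.a5, .a6, .a7]),
  (.a8, [.a8]),
  (.a9, [.a8, .a9]),
  (.a10, [.a6, .a8, .a9, .a10]),
  (.a11, [.a8, .a11])]

def Lt74 : List (Gn × List Gn) := [(.a1, [.a1, .a3, .a6]),
  (.a2, [.a2, .a5]),
  (.a3, [.a3, .a5]),
  (.a4, [.a2, .a4, .a5, .a6, .a8]),
  (.a5, [.a5]),
  (.a6, [.a6]),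
  (.a7, [.a2, .a3, .a5, .a6, .a7]),
  (.a8, [.a5, .a8]),
  (.a9, [.a3, .a5, .a6, .a8, .a9]),
  (.a10, [.a1, .a5, .a7, .a8, .a10]),
  (.a11, [.a2, .a3, .a4, .a6, .a7, .a8, .a9, .a11])]

def Ls106 : List (Gn × List Gn) := [(.a1, [.a1, .a3, .a5, .a6]),
  (.a2, [.a2, .a5]),
  (.a3, [.a3, .a5]),
  (.a4, [.a4, .a6, .a8]),
  (.a5, [.a5]),
  (.a6, [.a6]),
  (.a7, [.a5, .a6, .a7]),
  (.a8, [.a8]),
  (.a9, [.a8, .a9]),
  (.a10, [.a6, .a9, .a10]),
  (.a11, [.a8, .a11])]

def Lt106 : List (Gn × List Gn) := [(.a1, [.a1, .a3, .a5, .a6]),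
  (.a2, [.a2, .a5]),
  (.a3, [.a3, .a5]),
  (.a4, [.a2, .a4, .a5, .a6, .a8]),
  (.a5, [.a5]),
  (.a6, [.a6]),
  (.a7, [.a2, .a3, .a5, .a6, .a7]),
  (.a8, [.a5, .a8]),
  (.a9, [.a3, .a5, .a6, .a8, .a9]),
  (.a10, [.a1, .a7, .a10]),
  (.a11, [.a2, .a3, .a4, .a6, .a7, .a8, .a9, .a11])]

def Ls258 : List (Gn × List Gn) := [(.a1, [.a1, .a8]),
  (.a2, [.a2]),
  (.a3, [.a3]),
  (.a4, [.a4]),
  (.a5, [.a5]),
  (.a6, [.a6]),
  (.a7, [.a7]),
  (.a8, [.a8]),
  (.a9, [.a9]),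
  (.a10, [.a5, .a8, .a10]),
  (.a11, [.a11])]

def Lt258 : List (Gn × List Gn) := [(.a1, [.a1, .a8]),
  (.a2, [.a2]),
  (.a3, [.a3]),
  (.a4, [.a2, .a4]),
  (.a5, [.a5]),
  (.a6, [.a6]),
  (.a7, [.a2, .a3, .a7]),
  (.a8, [.a5, .a8]),
  (.a9, [.a3, .a6, .a9]),
  (.a10, [.a1, .a3, .a6, .a7, .a8, .a9, .a10]),
  (.a11, [.a2, .a3, .a4, .a5, .a6, .a7, .a9, .a11])]

def Ls290 : List (Gn × List Gn) := [(.a1, [.a1, .a5, .a8]),
  (.a2, [.a2]),
  (.a3, [.a3]),
  (.a4, [.a4]),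
  (.a5, [.a5]),
  (.a6, [.a6]),
  (.a7, [.a7]),
  (.a8, [.a8]),
  (.a9, [.a9]),
  (.a10, [.a5, .a10]),
  (.a11, [.a11])]

def Lt290 : List (Gn × List Gn) := [(.a1, [.a1, .a5, .a8]),
  (.a2, [.a2]),
  (.a3, [.a3]),
  (.a4, [.a2, .a4]),
  (.a5, [.a5]),
  (.a6, [.a6]),
  (.a7, [.a2, .a3, .a7]),
  (.a8, [.a5, .a8]),
  (.a9, [.a3, .a6, .a9]),
  (.a10, [.a1, .a3, .a5, .a6, .a7, .a9, .a10]),
  (.a11, [.a2, .a3, .a4, .a5, .a6, .a7, .a9, .a11])]

def Ls778 : List (Gn × List Gn) := [(.a1, [.a1, .a3, .a8, .a9]),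
  (.a2, [.a2, .a5, .a6, .a8]),
  (.a3, [.a3, .a8]),
  (.a4, [.a4]),
  (.a5, [.a5]),
  (.a6, [.a6]),
  (.a7, [.a5, .a6, .a7]),
  (.a8, [.a8]),
  (.a9, [.a5, .a8, .a9]),
  (.a10, [.a3, .a10]),
  (.a11, [.a5, .a6, .a11])]

def Lt778 : List (Gn × List Gn) := [(.a1, [.a1, .a3, .a8, .a9]),
  (.a2, [.a2, .a5, .a6, .a8]),
  (.a3, [.a3, .a8]),
  (.a4, [.a2, .a4, .a5, .a6, .a8]),
  (.a5, [.a5]),
  (.a6, [.a6]),
  (.a7, [.a2, .a3, .a7]),
  (.a8, [.a5, .a8]),
  (.a9, [.a3, .a5, .a6, .a9]),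
  (.a10, [.a1, .a3, .a7, .a10]),
  (.a11, [.a2, .a3, .a4, .a5, .a7, .a8, .a9, .a11])]

def Ls810 : List (Gn × List Gn) := [(.a1, [.a1, .a3, .a5, .a8, .a9]),
  (.a2, [.a2, .a5, .a6, .a8]),
  (.a3, [.a3, .a8]),
  (.a4, [.a4]),
  (.a5, [.a5]),
  (.a6, [.a6]),
  (.a7, [.a5, .a6, .a7]),
  (.a8, [.a8]),
  (.a9, [.a5, .a8, .a9]),
  (.a10, [.a3, .a8, .a10]),
  (.a11, [.a5, .a6, .a11])]

def Lt810 : List (Gn × List Gn) := [(.a1, [.a1, .a3, .a5, .a8, .a9]),
  (.a2, [.a2, .a5, .a6, .a8]),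
  (.a3, [.a3, .a8]),
  (.a4, [.a2, .a4, .a5, .a6, .a8]),
  (.a5, [.a5]),
  (.a6, [.a6]),
  (.a7, [.a2, .a3, .a7]),
  (.a8, [.a5, .a8]),
  (.a9, [.a3, .a5, .a6, .a9]),
  (.a10, [.a1, .a3, .a5, .a7, .a8, .a10]),
  (.a11, [.a2, .a3, .a4, .a5, .a7, .a8, .a9, .a11])]

def Ls834 : List (Gn × List Gn) := [(.a1, [.a1, .a6, .a8, .a9]),
  (.a2, [.a2, .a6, .a8]),
  (.a3, [.a3, .a5, .a8]),
  (.a4, [.a4, .a6, .a8]),
  (.a5, [.a5]),
  (.a6, [.a6]),
  (.a7, [.a7]),
  (.a8, [.a8]),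
  (.a9, [.a5, .a9]),
  (.a10, [.a3, .a6, .a8, .a9, .a10]),
  (.a11, [.a5, .a6, .a8, .a11])]

def Lt834 : List (Gn × List Gn) := [(.a1, [.a1, .a6, .a8, .a9]),
  (.a2, [.a2, .a6, .a8]),
  (.a3, [.a3, .a5, .a8]),
  (.a4, [.a2, .a4]),
  (.a5, [.a5]),
  (.a6, [.a6]),
  (.a7, [.a2, .a3, .a5, .a6, .a7]),
  (.a8, [.a5, .a8]),
  (.a9, [.a3, .a6, .a8, .a9]),
  (.a10, [.a1, .a6, .a7, .a9, .a10]),
  (.a11, [.a2, .a3, .a4, .a7, .a9, .a11])]

def Ls866 : List (Gn × List Gn) := [(.a1, [.a1, .a5, .a6, .a8, .a9]),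
  (.a2, [.a2, .a6, .a8]),
  (.a3, [.a3, .a5, .a8]),
  (.a4, [.a4, .a6, .a8]),
  (.a5, [.a5]),
  (.a6, [.a6]),
  (.a7, [.a7]),
  (.a8, [.a8]),
  (.a9, [.a5, .a9]),
  (.a10, [.a3, .a6, .a9, .a10]),
  (.a11, [.a5, .a6, .a8, .a11])]

def Lt866 : List (Gn × List Gn) := [(.a1, [.a1, .a5, .a6, .a8, .a9]),
  (.a2, [.a2, .a6, .a8]),
  (.a3, [.a3, .a5, .a8]),
  (.a4, [.a2, .a4]),
  (.a5, [.a5]),
  (.a6, [.a6]),
  (.a7, [.a2, .a3, .a5, .a6, .a7]),
  (.a8, [.a5, .a8]),
  (.a9, [.a3, .a6, .a8, .a9]),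
  (.a10, [.a1, .a5, .a6, .a7, .a8, .a9, .a10]),
  (.a11, [.a2, .a3, .a4, .a7, .a9, .a11])]

end Cfsg.Agent.H782.TF.FB
end
end

private theorem dce_3e5df7304770 : _root_.True := by
  try have : _root_.True := by simp only [_root_.Cfsg.Agent.H782.TF.cw.eq_12]
  try have : _root_.True := by simp only [_root_.Cfsg.Agent.H782.TF.val.eq_1]
  try have : _root_.True := by simp only [_root_.Cfsg.Agent.H782.TF.cw.eq_14]
  try have : _root_.True := by simp only [_root_.Cfsg.Agent.H782.TF.gm.eq_9]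
  try have : _root_.True := by simp only [_root_.Cfsg.Agent.H782.TF.gm.eq_7]
  try have : _root_.True := by simp only [_root_.Cfsg.Agent.H782.TF.bt.eq_1]
  try have : _root_.True := by simp only [_root_.Cfsg.Agent.H782.TF.cw.eq_6]
  try have : _root_.True := by simp only [_root_.Cfsg.Agent.H745.TF.TF.Z4.eq_1]
  try have : _root_.True := by simp only [_root_.Cfsg.Agent.H745.TF.TF.X8.eq_1]
  try have : _root_.True := by simp only [_root_.Cfsg.Agent.H782.TF.cw.eq_3]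
  try have : _root_.True := by simp only [_root_.Cfsg.Agent.H782.TF.cw.eq_19]
  try have : _root_.True := by simp only [_root_.Cfsg.Agent.H782.TF.gi.eq_8]
  try have : _root_.True := by simp only [_root_.Cfsg.Agent.H782.TF.gi.eq_4]
  try have : _root_.True := by simp only [_root_.Cfsg.Agent.H782.TF.cw.eq_17]
  try have : _root_.True := by simp only [_root_.Cfsg.Agent.H782.TF.PM.eq_1]
  try have : _root_.True := by simp only [_root_.Cfsg.Agent.H782.TF.vc.eq_2]
  try have : _root_.True := by simp only [_root_.Cfsg.Agent.H782.TF.W.eq_1]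
  try have : _root_.True := by simp only [_root_.Cfsg.Agent.H782.TF.gi.eq_6]
  try have : _root_.True := by simp only [_root_.Cfsg.Agent.H782.TF.cw.eq_2]
  try have : _root_.True := by simp only [_root_.Cfsg.Agent.H782.TF.cw._sparseCasesOn_2.else_eq]
  try have : _root_.True := by simp only [_root_.Cfsg.Agent.H782.TF.gm.eq_11]
  try have : _root_.True := by simp only [_root_.Cfsg.Agent.H782.TF.gi.eq_12]
  try have : _root_.True := by simp only [_root_.Cfsg.Agent.H782.TF.anyL.eq_1]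
  try have : _root_.True := by simp only [_root_.Cfsg.Agent.H782.TF.WB.eq_1]
  try have : _root_.True := by simp only [_root_.Cfsg.Agent.H782.TF.gi.eq_5]
  try have : _root_.True := by simp only [_root_.Cfsg.Agent.H782.TF.cw.eq_16]
  try have : _root_.True := by simp only [_root_.Cfsg.Agent.H745.TF.TF.X4.eq_1]
  try have : _root_.True := by simp only [_root_.Cfsg.Agent.H745.TF.TF.X1.eq_1]
  try have : _root_.True := by simp only [_root_.Cfsg.Agent.H782.TF.gi.eq_2]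
  try have : _root_.True := by simp only [_root_.Cfsg.Agent.H745.TF.TF.Z6.eq_1]
  try have : _root_.True := by simp only [_root_.Cfsg.Agent.H782.TF.cd.eq_1]
  try have : _root_.True := by simp only [_root_.Cfsg.Agent.H745.TF.TF.Z2.eq_1]
  try have : _root_.True := by simp only [_root_.Cfsg.Agent.H782.TF.cw.eq_8]
  try have : _root_.True := by simp only [_root_.Cfsg.Agent.H782.TF.gm.eq_1]
  try have : _root_.True := by simp only [_root_.Cfsg.Agent.H745.TF.TF.E4.eq_1]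
  try have : _root_.True := by simp only [_root_.Cfsg.Agent.H782.TF.cw.eq_4]
  try have : _root_.True := by simp only [_root_.Cfsg.Agent.H782.TF.phi.eq_1]
  try have : _root_.True := by simp only [_root_.Cfsg.Agent.H782.TF.vc.eq_def]
  try have : _root_.True := by simp only [_root_.Cfsg.Agent.H782.TF.gi.eq_3]
  try have : _root_.True := by simp only [_root_.Cfsg.Agent.H782.TF.matchok.eq_1]
  try have : _root_.True := by simp only [_root_.Cfsg.Agent.H782.TF.cw._sparseCasesOn_1.else_eq]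
  try have : _root_.True := by simp only [_root_.Cfsg.Agent.H782.TF.gi.eq_10]
  try have : _root_.True := by simp only [_root_.Cfsg.Agent.H745.TF.TF.X6.eq_1]
  try have : _root_.True := by simp only [_root_.Cfsg.Agent.H782.TF.PZ.eq_1]
  try have : _root_.True := by simp only [_root_.Cfsg.Agent.H782.TF.cw._sparseCasesOn_7.else_eq]
  try have : _root_.True := by simp only [_root_.Cfsg.Agent.H782.TF.cw.eq_11]
  try have : _root_.True := by simp only [_root_.Cfsg.Agent.H782.TF.gi.eq_7]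
  try have : _root_.True := by simp only [_root_.Cfsg.Agent.H782.TF.gi.eq_9]
  try have : _root_.True := by simp only [_root_.Cfsg.Agent.H745.TF.TF.el.eq_1]
  try have : _root_.True := by simp only [_root_.Cfsg.Agent.H782.TF.wds.eq_1]
  try have : _root_.True := by simp only [_root_.Cfsg.Agent.H782.TF.cw.eq_22]
  try have : _root_.True := by simp only [_root_.Cfsg.Agent.H745.TF.TF.X7.eq_1]
  try have : _root_.True := by simp only [_root_.Cfsg.Agent.H782.TF.PA.eq_1]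
  try have : _root_.True := by simp only [_root_.Cfsg.Agent.H782.TF.gm.eq_4]
  try have : _root_.True := by simp only [_root_.Cfsg.Agent.H782.TF.gm.eq_8]
  try have : _root_.True := by simp only [_root_.Cfsg.Agent.H782.TF.cw.eq_1]
  try have : _root_.True := by simp only [_root_.Cfsg.Agent.H782.TF.cw.eq_15]
  try have : _root_.True := by simp only [_root_.Cfsg.Agent.H782.TF.gm.eq_6]
  try have : _root_.True := by simp only [_root_.Cfsg.Agent.H745.TF.TF.Z8.eq_1]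
  try have : _root_.True := by simp only [_root_.Cfsg.Agent.H745.TF.TF.X3.eq_1]
  try have : _root_.True := by simp only [_root_.Cfsg.Agent.H782.TF.vc.eq_1]
  try have : _root_.True := by simp only [_root_.Cfsg.Agent.H782.TF.gi.eq_11]
  try have : _root_.True := by simp only [_root_.Cfsg.Agent.H782.TF.gm.eq_12]
  try have : _root_.True := by simp only [_root_.Cfsg.Agent.H782.TF.cw.eq_18]
  try have : _root_.True := by simp only [_root_.Cfsg.Agent.H782.TF.cw.eq_10]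
  try have : _root_.True := by simp only [_root_.Cfsg.Agent.H782.TF.gm.eq_5]
  try have : _root_.True := by simp only [_root_.Cfsg.Agent.H782.TF.cw.eq_21]
  try have : _root_.True := by simp only [_root_.Cfsg.Agent.H745.TF.TF.X5.eq_1]
  try have : _root_.True := by simp only [_root_.Cfsg.Agent.H782.TF.cw._sparseCasesOn_5.else_eq]
  try have : _root_.True := by simp only [_root_.Cfsg.Agent.H782.TF.gm.eq_2]
  try have : _root_.True := by simp only [_root_.Cfsg.Agent.H782.TF.cw._sparseCasesOn_6.else_eq]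
  try have : _root_.True := by simp only [_root_.Cfsg.Agent.H782.TF.cw.eq_20]
  try have : _root_.True := by simp only [_root_.Cfsg.Agent.H782.TF.PB.eq_1]
  try have : _root_.True := by simp only [_root_.Cfsg.Agent.H782.TF.cw.eq_13]
  try have : _root_.True := by simp only [_root_.Cfsg.Agent.H782.TF.hdok.eq_1]
  try have : _root_.True := by simp only [_root_.Cfsg.Agent.H782.TF.gi.eq_1]
  try have : _root_.True := by simp only [_root_.Cfsg.Agent.H782.TF.gm.eq_3]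
  try have : _root_.True := by simp only [_root_.Cfsg.autInducedBy.eq_1]
  try have : _root_.True := by simp only [_root_.Cfsg.Agent.H782.TF.cw._sparseCasesOn_3.else_eq]
  try have : _root_.True := by simp only [_root_.Cfsg.Agent.H782.TF.cw._sparseCasesOn_4.else_eq]
  try have : _root_.True := by simp only [_root_.Cfsg.Agent.H745.TF.TF.X2.eq_1]
  try have : _root_.True := by simp only [_root_.Cfsg.Agent.H782.TF.wv.eq_1]
  try have : _root_.True := by simp only [_root_.Cfsg.Agent.H782.TF.cw.eq_7]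
  try have : _root_.True := by simp only [_root_.Cfsg.Agent.H782.TF.cw.eq_9]
  try have : _root_.True := by simp only [_root_.Cfsg.Agent.H782.TF.cw.eq_5]
  try have : _root_.True := by simp only [_root_.Cfsg.Agent.H782.TF.gm.eq_10]
  exact _root_.True.intro
end

-- part: H782/TF/FinBChk
section
set_option linter.all false
open scoped Cfsg.Agent.FastGrp

/-!
# S5262, q = 2, B-side: kernel checks (helper782)
-/

set_option autoImplicit false
set_option maxRecDepth 100000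

namespace Cfsg.Agent.H782.TF.FB

/-- one step of the product -/
private noncomputable def sF (T m y x : Nat) : Nat :=
  Bool.rec (Nat.land (Nat.shiftRight T (Nat.mul 12 x)) 4095) x (Nat.beq (Nat.land y m) 0)

/-- the product, unrolled -/
private noncomputable def mulF (x y : Nat) : Nat :=
  sF T11 2048 y (sF T10 1024 y (sF T9 512 y (sF T8 256 y (sF T7 128 y (sF T6 64 y (sF T5 32 y (sF T4 16 y (sF T3 8 y
    (sF T2 4 y (sF T1 2 y (sF T0 1 y x)))))))))))

private noncomputable def sC (g : Gn) (y x : Nat) : Nat := cond (Nat.beq (Nat.land y (mk g)) 0) x (rm g x)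

private theorem sC_eq (g : Gn) : sC g = sF (tab g) (mk g) := by
  funext y x
  unfold sC sF rm
  cases Nat.beq (Nat.land y (mk g)) 0 <;> rfl

private theorem mulc_eq : mulc = mulF := by
  funext x y
  have h : mulc x y = sC .a11 y (sC .a10 y (sC .a9 y (sC .a8 y (sC .a7 y (sC .a6 y (sC .a5 y (sC .a4 y (sC .a3 y
    (sC .a2 y (sC .a1 y (sC .a0 y x))))))))))) := rfl
  rw [h]
  simp only [sC_eq]
  rfl

/-- a walk through all `z` together with their images -/
private noncomputable def walk (P : Nat → Nat → Bool) (L : List (Gn × List Gn)) : Nat → Nat → Bool :=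
  @List.rec (Gn × List Gn) (fun _ => Nat → Nat → Bool) P
    (fun p _ ih z x => Bool.rec false (frc (ih (Nat.add z (mk p.1))) (ap p.2 x)) (ih z x)) L

/-- the sum of the masks -/
private noncomputable def sel (L : List Gn) (z : Nat) : Nat → Nat :=
  @List.rec Gn (fun _ => Nat → Nat) (fun s => s)
    (fun g _ ih s => ih (Bool.rec (Nat.add s (mk g)) s (Nat.beq (Nat.land z (mk g)) 0))) L

private theorem frc_eq' (k : Nat → Bool) (n : Nat) : frc k n = k n := by cases n <;> rfl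

private theorem walk_spec {P : Nat → Nat → Bool} (z : Nat) : ∀ (L : List (Gn × List Gn)) (s x : Nat), walk P L s x = true →
    P (sel (L.map Prod.fst) z s) (im L z x) = true := by
  intro L
  induction L with
  | nil => intro s x h; exact h
  | cons p L ih =>
    intro s x h
    have h1 : (Bool.rec false (frc (walk P L (Nat.add s (mk p.1))) (ap p.2 x)) (walk P L s x) : Bool) = true := h
    rw [frc_eq'] at h1
    show P (sel (L.map Prod.fst) z (Bool.rec (Nat.add s (mk p.1)) s (Nat.beq (Nat.land z (mk p.1)) 0)))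
      (im L z (cond (Nat.beq (Nat.land z (mk p.1)) 0) x (ap p.2 x))) = true
    cases h2 : walk P L s x
    · rw [h2] at h1; cases h1
    · rw [h2] at h1
      cases Nat.beq (Nat.land z (mk p.1)) 0
      · exact ih _ _ h1
      · exact ih _ _ h2

private theorem loopAll_mono {P Q : Nat → Bool} (h : ∀ i, P i = true → Q i = true) :
    ∀ n, loopAll P n = true → loopAll Q n = true := by
  intro n
  induction n with
  | zero => intro _; rfl
  | succ n ih =>
    rw [loopAll_succ, loopAll_succ]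
    intro h1
    cases h2 : P n
    · rw [h2] at h1; cases h1
    · rw [h2] at h1
      rw [h n h2]
      exact ih h1

private theorem loopE_mono {P Q : Nat → Bool} (h : ∀ i, P i = true → Q i = true) (n : Nat) (h1 : loopE P n = true) :
    loopE Q n = true := by
  refine loopAll_mono (fun i hi => ?_) n h1
  rw [frc_eq'] at hi ⊢
  exact h _ hi

private theorem sel_ok : loopE (fun z => Nat.beq (sel [.a1, .a2, .a3, .a4, .a5, .a6, .a7, .a8, .a9, .a10, .a11] z 0) z) 2048 =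
    true := by decide +kernel

private theorem loop_of {P : Nat → Nat → Bool} {L : List (Gn × List Gn)}
    (hL : L.map Prod.fst = [.a1, .a2, .a3, .a4, .a5, .a6, .a7, .a8, .a9, .a10, .a11]) (h : walk P L 0 0 = true) :
    loopE (fun z => P z (im L z 0)) 2048 = true := by
  refine loopE_mono (fun i hi => ?_) 2048 sel_ok
  have h1 := walk_spec i L 0 0 h
  rwa [hL, Nat.eq_of_beq_eq_true hi] at h1

/-- the fast form of `chkT` -/
private noncomputable def chkF (b : Nat) (Ls Lt : List (Gn × List Gn)) : Bool :=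
  cond (zipc (fun l => wd l b (im LR b 0) (im LR (im LR b 0) 0) 0) GW Ls)
    (cond (allL (fun q => Nat.beq (ap q.2 0) (im Ls (ap [.a0, q.1, .a0] 0) 0)) Lt)
      (frc (fun c => walk (fun z w => frc (fun y => cond (Nat.beq (mulF y c) (mulF 1024 y)) false true)
        (mulF z w)) Lt 0 0) (im Lt (im Lt 1024 0) 0))
      false) false

private theorem chkT_of {b : Nat} {Ls Lt : List (Gn × List Gn)}
    (hL : Lt.map Prod.fst = [.a1, .a2, .a3, .a4, .a5, .a6, .a7, .a8, .a9, .a10, .a11]) (h : chkF b Ls Lt = true) :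
    chkT b Ls Lt = true := by
  unfold chkF at h
  unfold chkT
  rw [mulc_eq]
  revert h
  cases zipc (fun l => wd l b (im LR b 0) (im LR (im LR b 0) 0) 0) GW Ls
  · exact id
  cases allL (fun q => Nat.beq (ap q.2 0) (im Ls (ap [.a0, q.1, .a0] 0) 0)) Lt
  · exact id
  rw [cond_true, cond_true, cond_true, cond_true, frc_eq', frc_eq']
  exact loop_of hL

private theorem wd_r1 (a e f : Nat) : wd r1 a e f 0 = mulc (mulc (mulc (mulc 0 f) f) e) f := rfl
private theorem wd_r1' (a e f : Nat) : wd r1' a e f 0 = mulc (mulc (mulc (mulc (mulc (mulc 0 e) a) f) e) e) a := rfl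

private theorem chkRS : loopE (fun z => frc (fun e => frc (fun f => cond (Nat.beq (im LR f 0) z)
    (cond (Nat.beq (mulF (mulF (mulF (mulF 0 f) f) e) f) (mulF (mulF (mulF (mulF (mulF (mulF 0 e) z) f) e) e) z))
      (cond (Nat.beq (wd r2 z e f 0) 32)
        (cond (anyL (fun u => Nat.beq (mulc z u) (mulc u 2)) C8) true (anyL (fun b => Nat.beq z b) bad8))
        true) true) false) (im LR e 0)) (im LR z 0)) 2048 = true := by decide +kernel

private theorem chkTs : chkF 74 Ls74 Lt74 = true ∧ chkF 106 Ls106 Lt106 = true ∧ chkF 258 Ls258 Lt258 = true ∧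
    chkF 290 Ls290 Lt290 = true ∧ chkF 778 Ls778 Lt778 = true ∧ chkF 810 Ls810 Lt810 = true ∧
    chkF 834 Ls834 Lt834 = true ∧ chkF 866 Ls866 Lt866 = true := by decide +kernel

theorem chkG_true : chkG = true := by decide +kernel
theorem chkC8_true : chkC8 = true := by decide +kernel
theorem chkRel_true : chkRel = true := by decide +kernel
theorem chkS_true : chkS = true := by
  unfold chkS
  refine loopE_mono (fun i hi => ?_) 2048 chkRS
  rw [frc_eq', frc_eq'] at hi ⊢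
  rw [← mulc_eq, ← wd_r1 i, ← wd_r1'] at hi
  revert hi
  cases Nat.beq (im LR (im LR (im LR i 0) 0) 0) i
  · exact fun h => nomatch h
  · exact id
theorem chkT74 : chkT 74 Ls74 Lt74 = true := chkT_of rfl chkTs.1
theorem chkT106 : chkT 106 Ls106 Lt106 = true := chkT_of rfl chkTs.2.1
theorem chkT258 : chkT 258 Ls258 Lt258 = true := chkT_of rfl chkTs.2.2.1
theorem chkT290 : chkT 290 Ls290 Lt290 = true := chkT_of rfl chkTs.2.2.2.1
theorem chkT778 : chkT 778 Ls778 Lt778 = true := chkT_of rfl chkTs.2.2.2.2.1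
theorem chkT810 : chkT 810 Ls810 Lt810 = true := chkT_of rfl chkTs.2.2.2.2.2.1
theorem chkT834 : chkT 834 Ls834 Lt834 = true := chkT_of rfl chkTs.2.2.2.2.2.2.1
theorem chkT866 : chkT 866 Ls866 Lt866 = true := chkT_of rfl chkTs.2.2.2.2.2.2.2

end Cfsg.Agent.H782.TF.FB
end

-- part: H782/TF/FinB
section
prune_inst 0xd0106504052202000000000222003c62b2000000000b000111e0070206c65c210d022620f8200f0289008834003c806003100109421000000a008200411d01a0842252029348b10c27008f80f802000000000000000000000000000000041000000000000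
set_option linter.all false
open scoped Cfsg.Agent.FastGrp

/-!
# S5262, q = 2, B-side: `StFinB`, `StRhoB` (helper782)
-/

set_option autoImplicit false

namespace Cfsg.Agent.H782.TF.FB

open Cfsg Cfsg.FusionSystem Cfsg.Agent.H756.PU Cfsg.Agent.H802 Cfsg.Agent.H745.TF Cfsg.Agent.H782.TF

universe u v

/-- the generators of `QB` -/
def G11 : List Gn := [.a1, .a2, .a3, .a4, .a5, .a6, .a7, .a8, .a9, .a10, .a11]

section gen

variable {U : Type v} [Group U] {γ : ℕ → U} {Q : Subgroup U}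

theorem val_even {n : ℕ} (h0 : n.testBit 0 = false) :
    val γ n = (G11.map fun g => if n.testBit (gi g) then γ (gi g) else 1).prod := by
  simp only [val, vc, G11, gi, h0, List.map_cons, List.map_nil, List.prod_cons, List.prod_nil, mul_one, one_mul,
    Bool.false_eq_true, if_false, mul_assoc]
  rfl

theorem im_aux (h : Cod γ) (z : ℕ) : ∀ (L : List (Gn × List Gn)) {x : ℕ}, x < 4096 →
    im L z x < 4096 ∧
      val γ (im L z x) = val γ x * (L.map fun p => if z.testBit (gi p.1) then wv γ p.2 else 1).prod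
  | [], x, hx => ⟨hx, by simp [im]⟩
  | p :: L, x, hx => by
    have e0 : im (p :: L) z x = im L z (cond (Nat.beq (Nat.land z (mk p.1)) 0) x (ap p.2 x)) := rfl
    rw [e0]
    by_cases hb : z &&& 2 ^ gi p.1 = 0
    · have h0 : cond (Nat.beq (Nat.land z (mk p.1)) 0) x (ap p.2 x) = x := by
        rw [mk_eq, show Nat.beq (Nat.land z (2 ^ gi p.1)) 0 = true from beq_iff.2 hb]; rfl
      have h2 : z.testBit (gi p.1) = false := land_pow_eq_zero.1 hb
      rw [h0]
      simp only [List.map_cons, List.prod_cons, h2, Bool.false_eq_true, if_false, one_mul]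
      exact im_aux h z L hx
    · have h0 : cond (Nat.beq (Nat.land z (mk p.1)) 0) x (ap p.2 x) = ap p.2 x := by
        rw [mk_eq, show Nat.beq (Nat.land z (2 ^ gi p.1)) 0 = false from beq_false_iff.2 hb]; rfl
      have h2 : z.testBit (gi p.1) = true := by
        by_contra h3
        rw [Bool.not_eq_true] at h3
        exact hb (land_pow_eq_zero.2 h3)
      have h1 := im_aux h z L (ap_lt p.2 hx)
      rw [h0]
      simp only [List.map_cons, List.prod_cons, h2, if_true]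
      refine ⟨h1.1, ?_⟩
      rw [h1.2, h.ap p.2 hx, mul_assoc]

/-- the generator as an element of `Q` -/
noncomputable def gq (γ : ℕ → U) (Q : Subgroup U) (g : Gn) : Q :=
  open Classical in if hg : γ (gi g) ∈ Q then ⟨γ (gi g), hg⟩ else 1

theorem gq_coe {g : Gn} (hg : γ (gi g) ∈ Q) : ((gq γ Q g : Q) : U) = γ (gi g) := by
  rw [gq, dif_pos hg]

theorem hom_even (hQ : ∀ g ∈ G11, γ (gi g) ∈ Q) (φ : Q →* U) {e : Q} {z : ℕ} (h0 : z.testBit 0 = false)
    (he : (e : U) = val γ z) : φ e = (G11.map fun g => if z.testBit (gi g) then φ (gq γ Q g) else 1).prod := by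
  have h1 : e = (G11.map fun g => if z.testBit (gi g) then gq γ Q g else 1).prod := by
    apply Subtype.ext
    rw [he, val_even h0, ← Subgroup.coe_subtype, map_list_prod, List.map_map]
    congr 1
    apply List.map_congr_left
    intro g hg
    simp only [Function.comp_apply]
    split_ifs
    · rw [Subgroup.coe_subtype, gq_coe (hQ g hg)]
    · rw [map_one]
  rw [h1, map_list_prod, List.map_map]
  congr 1
  apply List.map_congr_left
  intro g _
  simp only [Function.comp_apply]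
  split_ifs
  · rfl
  · rw [map_one]

/-- `L` gives the images of the generators under `φ` -/
structure Im (γ : ℕ → U) (φ : Q →* U) (L : List (Gn × List Gn)) : Prop where
  fst : L.map Prod.fst = G11
  snd : ∀ p ∈ L, φ (gq γ Q p.1) = wv γ p.2

theorem im_val (h : Cod γ) (hQ : ∀ g ∈ G11, γ (gi g) ∈ Q) {φ : Q →* U} {L : List (Gn × List Gn)} (hI : Im γ φ L)
    {e : Q} {z : ℕ} (h0 : z.testBit 0 = false) (he : (e : U) = val γ z) :
    im L z 0 < 4096 ∧ val γ (im L z 0) = φ e := by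
  obtain ⟨h1, h2⟩ := im_aux h z L (x := 0) (by norm_num)
  refine ⟨h1, ?_⟩
  rw [h2, val_zero, one_mul, hom_even hQ φ h0 he, ← hI.fst, List.map_map]
  congr 1
  apply List.map_congr_left
  intro p hp
  simp only [Function.comp_apply]
  rw [hI.snd p hp]

theorem even_of_mem (h : Cod γ) {n : ℕ} (hn : n < 4096) (hm : val γ n ∈ W γ PB) : n.testBit 0 = false := by
  obtain ⟨z, hz, h1, h2⟩ := enum_sound (k := fun z => Nat.beq (Nat.land z 1) 0) h (A := PB) (by decide +kernel) (x := 0)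
    (by norm_num) (by decide +kernel) hm
  rw [val_zero, one_mul] at h1
  have h3 := h.inj z hz n hn h1
  subst h3
  have h4 : z &&& 2 ^ 0 = 0 := beq_iff.1 h2
  exact land_pow_eq_zero.1 h4

/-- the value of a word in three letters -/
noncomputable def wg {G : Type v} [Group G] (l : List L3) (a e f : G) : G :=
  (l.map fun c => @L3.rec (fun _ => G) a e f c).prod

theorem map_wg {G H : Type v} [Group G] [Group H] (φ : G →* H) (l : List L3) (a e f : G) :
    φ (wg l a e f) = wg l (φ a) (φ e) (φ f) := by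
  rw [wg, wg, map_list_prod, List.map_map]
  congr 1
  apply List.map_congr_left
  intro c _
  cases c <;> rfl

theorem wd_val (h : Cod γ) (a e f : ℕ) : ∀ (l : List L3) {x : ℕ}, x < 4096 →
    wd l a e f x < 4096 ∧ val γ (wd l a e f x) = val γ x * wg l (val γ a) (val γ e) (val γ f)
  | [], x, hx => ⟨hx, by simp [wd, wg]⟩
  | c :: l, x, hx => by
    have e0 : wd (c :: l) a e f x = wd l a e f (mulc x (@L3.rec (fun _ => Nat) a e f c)) := rfl
    obtain ⟨h1, h2⟩ := mulc_val h hx (@L3.rec (fun _ => Nat) a e f c)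
    obtain ⟨h3, h4⟩ := wd_val h a e f l h1
    rw [e0]
    refine ⟨h3, ?_⟩
    rw [h4, h2, mul_assoc]
    cases c <;> simp [wg]

theorem frc_eq (k : ℕ → Bool) (n : ℕ) : frc k n = k n := by
  cases n <;> rfl

theorem loopE_spec {P : ℕ → Bool} (h : loopE P 2048 = true) {z : ℕ} (hz : z < 4096) (h0 : z.testBit 0 = false) :
    P z = true := by
  have h1 : ∃ i, z = 2 * i := by
    have h2 : z % 2 = 0 := by
      have := Nat.testBit_zero z
      rw [h0] at this
      simp at this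
      omega
    exact ⟨z / 2, by omega⟩
  obtain ⟨i, rfl⟩ := h1
  have h3 := loopAll_spec h i (by omega)
  simp only [frc_eq] at h3
  exact h3

end gen

variable {K : Type u} [Field K] {σ : K →+* K} {U : Type v} [Group U]

section main

variable (T : Cfsg.Agent.H745.TF.TF σ U) (hK : HypK σ 0)
include hK

theorem gm_mem_QB : ∀ g ∈ G11, gm T (gi g) ∈ T.QB := by
  intro g hg
  rw [← W_PB T hK]
  have : ∀ g ∈ G11, ∃ e ∈ PB, e.w = [g] := by
    intro g hg
    simp only [G11, List.mem_cons, List.not_mem_nil, or_false] at hg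
    rcases hg with rfl | rfl | rfl | rfl | rfl | rfl | rfl | rfl | rfl | rfl | rfl <;> simp only [PB, _root_.List.mem_cons, _root_.List.not_mem_nil, _root_.or_false, _root_.exists_eq_or_imp, _root_.List.cons.injEq, _root_.reduceCtorEq, _root_.and_true, ↓ _root_.ExistsAndEq.existsAndEq, _root_.and_false, _root_.or_self, _root_.or_true, _root_.and_self]
  obtain ⟨e, he, hw⟩ := this g hg
  exact gm_mem T he hw

theorem even_of (e : T.QB) {n : ℕ} (hn : n < 4096) (he : val (gm T) n = e) : n.testBit 0 = false :=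
  even_of_mem (cod_of T hK) hn (by rw [he, W_PB T hK]; exact e.2)

/-- the code of an element of `QB` -/
theorem exists_code (e : T.QB) : ∃ n < 4096, val (gm T) n = e ∧ n.testBit 0 = false := by
  obtain ⟨n, hn, he⟩ := (cod_of T hK).surj (e : U)
  exact ⟨n, hn, he, even_of T hK e hn he⟩

variable {T hK}

omit hK in
theorem x1_inv (hK : HypK σ 0) : (T.x1 1)⁻¹ = T.x1 1 := by
  have h := (cod_of T hK).sq .a0
  rw [show sqm .a0 = 0 from rfl, val_zero] at h
  exact inv_eq_of_mul_eq_one_right h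

/-- the homomorphism `QB → U` of an automorphism -/
def hm (α : MulAut T.QB) : T.QB →* U := T.QB.subtype.comp α.toMonoidHom

omit hK in
theorem hm_apply (α : MulAut T.QB) (e : T.QB) : hm α e = (α e : U) := rfl

omit hK in
theorem im_rho (hK : HypK σ 0) {cx w0 : MulAut T.QB} (hcx : ∀ e : T.QB, ((cx e : T.QB) : U) = T.x1 1 * e * (T.x1 1)⁻¹)
    (hw : T.IsWb w0) : Im (gm T) (hm (cx * w0)) LR := by
  have hQ := gm_mem_QB T hK
  constructor
  · rfl
  · intro p hp
    have key : ∀ g g' : Gn, g ∈ G11 → ((w0 (gq (gm T) T.QB g) : T.QB) : U) = gm T (gi g') →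
        hm (cx * w0) (gq (gm T) T.QB g) = wv (gm T) [.a0, g', .a0] := by
      intro g g' _ h1
      rw [hm_apply, MulAut.mul_apply, hcx, h1, x1_inv hK]
      simp [wv, gi, gm, mul_assoc]
    have c : ∀ g : Gn, g ∈ G11 → ((gq (gm T) T.QB g : T.QB) : U) = gm T (gi g) := fun g hg => gq_coe (hQ g hg)
    simp only [LR, List.mem_cons, List.not_mem_nil, or_false] at hp
    rcases hp with rfl | rfl | rfl | rfl | rfl | rfl | rfl | rfl | rfl | rfl | rfl
    · exact key .a1 .a10 (by simp [G11]) (hw.e2 _ 1 0 (c .a1 (by simp [G11])))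
    · exact key .a2 .a11 (by simp [G11]) (hw.e2 _ 0 1 (c .a2 (by simp [G11])))
    · exact key .a3 .a9 (by simp [G11]) (hw.e3 _ 1 (c .a3 (by simp [G11])))
    · exact key .a4 .a7 (by simp [G11]) (hw.e4 _ 1 0 (c .a4 (by simp [G11])))
    · exact key .a5 .a8 (by simp [G11]) (hw.e4 _ 0 1 (c .a5 (by simp [G11])))
    · exact key .a6 .a6 (by simp [G11]) (hw.e5 _ 1 (c .a6 (by simp [G11])))
    · exact key .a7 .a4 (by simp [G11]) (hw.e6 _ 1 0 (c .a7 (by simp [G11])))
    · exact key .a8 .a5 (by simp [G11]) (hw.e6 _ 0 1 (c .a8 (by simp [G11])))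
    · exact key .a9 .a3 (by simp [G11]) (hw.e7 _ 1 (c .a9 (by simp [G11])))
    · exact key .a10 .a1 (by simp [G11]) (hw.e8 _ 1 0 (c .a10 (by simp [G11])))
    · exact key .a11 .a2 (by simp [G11]) (hw.e8 _ 0 1 (c .a11 (by simp [G11])))

omit hK in
/-- the code of the image -/
theorem im_step (hK : HypK σ 0) {α : MulAut T.QB} {L : List (Gn × List Gn)} (hI : Im (gm T) (hm α) L) {e : T.QB} {z : ℕ}
    (hz : z < 4096) (he : val (gm T) z = e) :
    im L z 0 < 4096 ∧ val (gm T) (im L z 0) = (α e : T.QB) ∧ (im L z 0).testBit 0 = false := by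
  obtain ⟨h1, h2⟩ := im_val (cod_of T hK) (gm_mem_QB T hK) hI (even_of T hK e hz he) he.symm
  exact ⟨h1, h2, even_of T hK (α e) h1 h2⟩

end main

theorem mk_inj {g g' : Gn} (h : mk g = mk g') : g = g' := by
  rw [mk_eq, mk_eq] at h
  have h1 := Nat.pow_right_injective (le_refl 2) h
  rw [← ig_gi g, h1, ig_gi]

theorem zipc_sound {F : List L3 → ℕ} : ∀ (G : List (Gn × List L3)) (L : List (Gn × List Gn)), zipc F G L = true →
    ∀ q ∈ L, ∃ l, (q.1, l) ∈ G ∧ ap q.2 0 = F l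
  | [], [], _, q, hq => absurd hq List.not_mem_nil
  | [], _ :: _, h, _, _ => absurd h (by simp [zipc])
  | _ :: _, [], h, _, _ => absurd h (by simp [zipc])
  | p :: G, q :: L, h, r, hr => by
    change cond (Nat.beq (mk p.1) (mk q.1)) (cond (Nat.beq (ap q.2 0) (F p.2)) (zipc F G L) false) false = true at h
    rw [cond_false_eq_true, cond_false_eq_true] at h
    obtain ⟨h1, h2, h3⟩ := h
    rcases List.mem_cons.1 hr with rfl | hr
    · refine ⟨p.2, ?_, beq_iff.1 h2⟩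
      rw [← mk_inj (beq_iff.1 h1)]
      exact List.mem_cons_self
    · obtain ⟨l, h4, h5⟩ := zipc_sound G L h3 r hr
      exact ⟨l, List.mem_cons_of_mem _ h4, h5⟩

section fin

variable {T : Cfsg.Agent.H745.TF.TF σ U}

theorem mem_of_even (hK : HypK σ 0) {n : ℕ} (h0 : n.testBit 0 = false) : val (gm T) n ∈ T.QB := by
  rw [val_even h0]
  apply Subgroup.list_prod_mem
  intro x hx
  obtain ⟨g, hg, rfl⟩ := List.mem_map.1 hx
  split_ifs
  · exact gm_mem_QB T hK g hg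
  · exact one_mem _

/-- the element `a = x2(1,0)` -/
noncomputable def ea (T : Cfsg.Agent.H745.TF.TF σ U) : T.QB := gq (gm T) T.QB .a1

theorem ea_val (hK : HypK σ 0) : val (gm T) 2 = (ea T : U) := by
  rw [ea, gq_coe (gm_mem_QB T hK .a1 (by simp [G11]))]
  exact val_mk (gm T) .a1

theorem wd_step (hK : HypK σ 0) {ρ : MulAut T.QB} (hI : Im (gm T) (hm ρ) LR) {s : MulAut T.QB}
    (hs : ∀ y, s (ρ y) = ρ (s y)) {z : ℕ} (hz : z < 4096) (hz1 : val (gm T) z = (s (ea T) : T.QB)) (l : List L3) :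
    wd l z (im LR z 0) (im LR (im LR z 0) 0) 0 < 4096 ∧
      val (gm T) (wd l z (im LR z 0) (im LR (im LR z 0) 0) 0) = (s (wg l (ea T) (ρ (ea T)) (ρ (ρ (ea T)))) : T.QB) := by
  obtain ⟨e1, e2, -⟩ := im_step hK hI hz hz1
  obtain ⟨f1, f2, -⟩ := im_step hK hI e1 e2
  obtain ⟨h1, h2⟩ := wd_val (cod_of T hK) z (im LR z 0) (im LR (im LR z 0) 0) l (x := 0) (by norm_num)
  refine ⟨h1, ?_⟩
  rw [h2, val_zero, one_mul, hz1, e2, f2]
  have h3 := map_wg (hm s) l (ea T) (ρ (ea T)) (ρ (ρ (ea T)))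
  rw [hm_apply, hm_apply, hm_apply, hm_apply] at h3
  rw [h3, hs, hs, hs]

theorem gq_word (hK : HypK σ 0) {ρ : MulAut T.QB} (hI : Im (gm T) (hm ρ) LR) {g : Gn} {l : List L3}
    (hg : (g, l) ∈ GW) : gq (gm T) T.QB g = wg l (ea T) (ρ (ea T)) (ρ (ρ (ea T))) := by
  have hgG : g ∈ G11 := by
    simp only [GW, List.mem_cons, List.not_mem_nil, or_false, Prod.mk.injEq] at hg
    rcases hg with h | h | h | h | h | h | h | h | h | h | h <;> rw [h.1] <;> simp [G11]
  obtain ⟨h1, h2⟩ := wd_step hK hI (s := 1) (fun y => rfl) (z := 2) (by norm_num) (ea_val hK) l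
  have h3 := chkG_true
  unfold chkG at h3
  rw [allL_iff] at h3
  have h4 := beq_iff.1 (h3 _ hg)
  rw [h4, val_mk] at h2
  apply Subtype.ext
  rw [gq_coe (gm_mem_QB T hK g hgG), h2]
  rfl

theorem exists_word {g : Gn} (hg : g ∈ G11) : ∃ l, (g, l) ∈ GW := by
  have h1 : GW.map Prod.fst = G11 := rfl
  rw [← h1] at hg
  obtain ⟨p, hp, rfl⟩ := List.mem_map.1 hg
  exact ⟨p.2, hp⟩

theorem kill_bad (hK : HypK σ 0) {cx ρ s : MulAut T.QB} (hI : Im (gm T) (hm ρ) LR)
    (hcx : ∀ e : T.QB, ((cx e : T.QB) : U) = T.x1 1 * e * (T.x1 1)⁻¹)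
    (hs : ∀ y, s (ρ y) = ρ (s y)) {z : ℕ} (hz : z < 4096) (hz1 : val (gm T) z = (s (ea T) : T.QB))
    {Ls Lt : List (Gn × List Gn)} (hLs : Ls.map Prod.fst = G11) (hLt : Lt.map Prod.fst = G11)
    (hc : chkT z Ls Lt = true) (hinv : ∃ i ∈ Inn T.QB, (s * cx * i) * (s * cx * i) = 1) : False := by
  have h := cod_of T hK
  have hQ := gm_mem_QB T hK
  unfold chkT at hc
  rw [cond_false_eq_true, cond_false_eq_true] at hc
  obtain ⟨c1, c2, c3⟩ := hc
  rw [allL_iff] at c2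
  have hIs : Im (gm T) (hm s) Ls := by
    refine ⟨hLs, fun q hq => ?_⟩
    obtain ⟨l, hl, he⟩ := zipc_sound _ _ c1 q hq
    obtain ⟨-, h2⟩ := wd_step hK hI hs hz hz1 l
    rw [hm_apply, gq_word hK hI hl, ← h2, ← he, h.ap0]
  have hIt : Im (gm T) (hm (s * cx)) Lt := by
    refine ⟨hLt, fun q hq => ?_⟩
    have hqG : q.1 ∈ G11 := by rw [← hLt]; exact List.mem_map_of_mem hq
    have h1 := beq_iff.1 (c2 q hq)
    have h2 : val (gm T) (ap [.a0, q.1, .a0] 0) = (cx (gq (gm T) T.QB q.1) : T.QB) := by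
      rw [h.ap0, hcx, gq_coe (hQ _ hqG), x1_inv hK]
      simp [wv, gi, gm, mul_assoc]
    obtain ⟨-, h4, -⟩ := im_step hK hIs (ap_lt _ (by norm_num)) h2
    rw [hm_apply, MulAut.mul_apply, ← h4, ← h1, h.ap0]
  obtain ⟨i, ⟨w, rfl⟩, hi⟩ := hinv
  set t : MulAut T.QB := s * cx with ht
  obtain ⟨y, hy, hy1, hy0⟩ := exists_code T hK (t w)
  obtain ⟨u1, u2, -⟩ := im_step hK hIt hy hy1
  have he : val (gm T) 1024 = (gq (gm T) T.QB .a10 : T.QB) := by
    rw [gq_coe (hQ .a10 (by simp [G11]))]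
    exact val_mk (gm T) .a10
  obtain ⟨v1, v2, -⟩ := im_step hK hIt (by norm_num : 1024 < 4096) he
  obtain ⟨x1, x2, -⟩ := im_step hK hIt v1 v2
  simp only [frc_eq] at c3
  have c4 := loopE_spec c3 hy hy0
  set e : T.QB := gq (gm T) T.QB .a10 with hedef
  have key : t w * t (t w) * t (t e) = e * (t w * t (t w)) := by
    have h1 := DFunLike.congr_fun hi e
    simp only [MulAut.mul_apply, MulAut.conj_apply, map_mul, map_inv, MulAut.one_apply] at h1
    calc t w * t (t w) * t (t e)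
        = (t w * t (t w) * (t w)⁻¹ * (t w * t (t e) * (t w)⁻¹) * (t w * t (t w) * (t w)⁻¹)⁻¹) *
          (t w * t (t w)) := by group
      _ = e * (t w * t (t w)) := by rw [h1]
  obtain ⟨m1, m2⟩ := mulc_val h hy (im Lt y 0)
  obtain ⟨n1, n2⟩ := mulc_val h m1 (im Lt (im Lt 1024 0) 0)
  obtain ⟨p1, p2⟩ := mulc_val h (by norm_num : 1024 < 4096) (mulc y (im Lt y 0))
  have heq : mulc (mulc y (im Lt y 0)) (im Lt (im Lt 1024 0) 0) = mulc 1024 (mulc y (im Lt y 0)) := by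
    apply h.inj _ n1 _ p1
    rw [n2, p2, m2, hy1, u2, x2, he]
    exact congrArg Subtype.val key
  rw [beq_iff.2 heq] at c4
  exact absurd c4 (by simp)

end fin

/-- the finite part of the B-side -/
theorem stFinB : Cfsg.Agent.H240.TF.StFinB.{u, v} := by
  intro K _ σ hK U _ T cx w0 ρ s hcx hw hρ hcomm hV hinv
  have hI : Im (gm T) (hm ρ) LR := hρ ▸ im_rho hK hcx hw
  have h := cod_of T hK
  have hQ := gm_mem_QB T hK
  have hs : ∀ y, s (ρ y) = ρ (s y) := fun y => DFunLike.congr_fun hcomm y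
  obtain ⟨z, hz, hz1, hz0⟩ := exists_code T hK (s (ea T))
  -- the relations of `a`
  have hrel := chkRel_true
  unfold chkRel at hrel
  rw [cond_false_eq_true] at hrel
  obtain ⟨q1, q2⟩ := hrel
  have b0 := wd_step hK hI (s := 1) (fun y => rfl) (z := 2) (by norm_num) (ea_val hK)
  have bz := wd_step hK hI hs hz hz1
  have g1 : wg r1 (ea T) (ρ (ea T)) (ρ (ρ (ea T))) = wg r1' (ea T) (ρ (ea T)) (ρ (ρ (ea T))) := by
    apply Subtype.ext
    have k1 := (b0 r1).2
    rw [beq_iff.1 q1] at k1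
    exact k1.symm.trans (b0 r1').2
  have g2 : (wg r2 (ea T) (ρ (ea T)) (ρ (ρ (ea T))) : T.QB) = gq (gm T) T.QB .a5 := by
    apply Subtype.ext
    have k1 := (b0 r2).2
    rw [beq_iff.1 q2] at k1
    rw [gq_coe (hQ .a5 (by simp [G11]))]
    exact k1.symm.trans (val_mk (gm T) .a5)
  have hV5 : s (gq (gm T) T.QB .a5) = gq (gm T) T.QB .a5 := by
    apply hV
    rw [gq_coe (hQ .a5 (by simp [G11]))]
    exact Subgroup.mem_sup_left (mZ4 T 1)
  have e1 : wd r1 z (im LR z 0) (im LR (im LR z 0) 0) 0 = wd r1' z (im LR z 0) (im LR (im LR z 0) 0) 0 := by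
    apply h.inj _ (bz r1).1 _ (bz r1').1
    rw [(bz r1).2, (bz r1').2, g1]
  have e2 : wd r2 z (im LR z 0) (im LR (im LR z 0) 0) 0 = 32 := by
    apply h.inj _ (bz r2).1 _ (by norm_num)
    rw [(bz r2).2, g2, hV5, gq_coe (hQ .a5 (by simp [G11]))]
    exact (val_mk (gm T) .a5).symm
  have hS := loopE_spec chkS_true hz hz0
  simp only [frc_eq] at hS
  rw [beq_iff.2 e1, beq_iff.2 e2, cond_true, cond_true] at hS
  by_cases hin : anyL (fun u => Nat.beq (mulc z u) (mulc u 2)) C8 = true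
  · -- inner
    rw [anyL_iff] at hin
    obtain ⟨u, hu, hu1⟩ := hin
    have hu2 : u < 4096 ∧ u.testBit 0 = false := by
      have : ∀ u ∈ C8, u < 4096 ∧ u.testBit 0 = false := by decide
      exact this u hu
    have hu3 : im LR u 0 = u := by
      have := chkC8_true
      unfold chkC8 at this
      rw [allL_iff] at this
      exact beq_iff.1 (this u hu)
    let c : T.QB := ⟨val (gm T) u, mem_of_even hK hu2.2⟩
    have hc1 : ρ c = c := by
      obtain ⟨-, k, -⟩ := im_step hK hI (e := c) hu2.1 rfl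
      rw [hu3] at k
      exact Subtype.ext k.symm
    have hc2 : s (ea T) = c * ea T * c⁻¹ := by
      rw [eq_mul_inv_iff_mul_eq]
      apply Subtype.ext
      have k1 := (mulc_val h hz u).2
      have k2 := (mulc_val h hu2.1 2).2
      rw [beq_iff.1 hu1, k2, hz1, ea_val hK] at k1
      exact k1.symm
    have hc3 : ∀ g ∈ G11, s (gq (gm T) T.QB g) = MulAut.conj c (gq (gm T) T.QB g) := by
      intro g hg
      obtain ⟨l, hl⟩ := exists_word hg
      have k1 := map_wg s.toMonoidHom l (ea T) (ρ (ea T)) (ρ (ρ (ea T)))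
      have k2 := map_wg (MulAut.conj c).toMonoidHom l (ea T) (ρ (ea T)) (ρ (ρ (ea T)))
      simp only [MulEquiv.toMonoidHom_eq_coe, MonoidHom.coe_coe, MulAut.conj_apply] at k1 k2
      rw [gq_word hK hI hl, MulAut.conj_apply, k1, k2, hs, hs, hs, hc2]
      simp only [map_mul, map_inv, hc1]
    refine ⟨c, ?_⟩
    apply MulEquiv.ext
    intro y
    obtain ⟨n, hn, hn1, hn0⟩ := exists_code T hK y
    apply Subtype.ext
    have k1 := hom_even hQ (hm s) hn0 hn1.symm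
    have k2 := hom_even hQ (hm (MulAut.conj c)) hn0 hn1.symm
    rw [hm_apply] at k1 k2
    rw [k1, k2]
    congr 1
    apply List.map_congr_left
    intro g hg
    rw [hm_apply, hm_apply, hc3 g hg]
  · exfalso
    rw [Bool.not_eq_true] at hin
    rw [hin, cond_false, anyL_iff] at hS
    obtain ⟨b, hb, hb1⟩ := hS
    have hzb : z = b := beq_iff.1 hb1
    subst hzb
    simp only [bad8, List.mem_cons, List.not_mem_nil, or_false] at hb
    rcases hb with rfl | rfl | rfl | rfl | rfl | rfl | rfl | rfl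
    · exact kill_bad hK hI hcx hs hz hz1 rfl rfl chkT74 hinv
    · exact kill_bad hK hI hcx hs hz hz1 rfl rfl chkT106 hinv
    · exact kill_bad hK hI hcx hs hz hz1 rfl rfl chkT258 hinv
    · exact kill_bad hK hI hcx hs hz hz1 rfl rfl chkT290 hinv
    · exact kill_bad hK hI hcx hs hz hz1 rfl rfl chkT778 hinv
    · exact kill_bad hK hI hcx hs hz hz1 rfl rfl chkT810 hinv
    · exact kill_bad hK hI hcx hs hz hz1 rfl rfl chkT834 hinv
    · exact kill_bad hK hI hcx hs hz hz1 rfl rfl chkT866 hinv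

end Cfsg.Agent.H782.TF.FB

private theorem dce_75e22eddfe61 : _root_.True := by
  try have : _root_.True := by simp only [_root_.Cfsg.Agent.H782.TF.FB.zipc.eq_1]
  try have : _root_.True := by simp only [_root_.Cfsg.Agent.H782.TF.FB.ea.eq_1]
  try have : _root_.True := by simp only [_root_.Cfsg.Agent.H782.TF.FB.LR.eq_1]
  try have : _root_.True := by simp only [_root_.Cfsg.Agent.H782.TF.FB.gq.eq_1]
  try have : _root_.True := by simp only [_root_.Cfsg.Agent.H782.TF.FB.wd.eq_1]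
  try have : _root_.True := by simp only [_root_.Cfsg.Agent.H782.TF.FB.GW.eq_1]
  try have : _root_.True := by simp only [_root_.Cfsg.Agent.H782.TF.FB.wg.eq_1]
  try have : _root_.True := by simp only [_root_.Cfsg.Agent.H782.TF.FB.bad8.eq_1]
  try have : _root_.True := by simp only [_root_.Cfsg.Agent.H782.TF.FB.im.eq_1]
  try have : _root_.True := by simp only [_root_.Cfsg.Agent.H782.TF.FB.G11.eq_1]
  exact _root_.True.intro
end

-- part: H805/TF/Tor
section
prune_inst 0xf0106504550002000818000020003c62b2000002004b400101e007020ec84c4120470620b830071201c488f4603c406003100009420000000a000a00411d0180002112009048a00802008e000800000000000000000000000000000000000000000000000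
set_option linter.all false
open scoped Cfsg.Agent.FastGrp

/-!
# S5262: the order of `U`, the automorphisms `IsTor` (helper805)
-/

set_option autoImplicit false

namespace Cfsg.Agent.H805.TF

open Cfsg.Agent.Octagon.Pkg Cfsg.Agent.H745.TF

universe u v w

/-! ### the order -/

section card
variable (K : Type u)

/-- coordinates as a product -/
def cdEquiv : Cd K ≃ K × K × K × K × K × K × K × K × K × K × K × K where
  toFun c := (c.a1, c.a2, c.b2, c.a3, c.a4, c.b4, c.a5, c.a6, c.b6, c.a7, c.a8, c.b8)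
  invFun x := ⟨x.1, x.2.1, x.2.2.1, x.2.2.2.1, x.2.2.2.2.1, x.2.2.2.2.2.1, x.2.2.2.2.2.2.1, x.2.2.2.2.2.2.2.1,
    x.2.2.2.2.2.2.2.2.1, x.2.2.2.2.2.2.2.2.2.1, x.2.2.2.2.2.2.2.2.2.2.1, x.2.2.2.2.2.2.2.2.2.2.2⟩
  left_inv _ := rfl
  right_inv _ := rfl

theorem card_cd : Nat.card (Cd K) = Nat.card K ^ 12 := by
  rw [Nat.card_congr (cdEquiv K)]
  simp only [Nat.card_prod]
  ring

end card

section
variable {K : Type u} [Field K] {σ : K →+* K} {U : Type v} [Group U] (T : TF σ U)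

/-- coordinates on the group -/
noncomputable def cdU : Cd K ≃ U := Equiv.ofBijective _ T.bij

include T in
theorem card_U : Nat.card U = Nat.card K ^ 12 := by
  rw [← card_cd, Nat.card_congr (cdU T)]

include T in
theorem finite_U {m : ℕ} (hK : HypK σ m) : Finite U := by
  haveI := hK.fin
  haveI : Finite (Cd K) := Finite.of_equiv _ (cdEquiv K).symm
  exact Finite.of_equiv _ (cdU T)

include T in
theorem card_U' {m : ℕ} (hK : HypK σ m) : Nat.card U = (2 ^ (2 * m + 1)) ^ 12 := by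
  rw [card_U T, hK.card]

include T in
theorem isPGroup_U {m : ℕ} (hK : HypK σ m) : IsPGroup 2 (⊤ : Subgroup U) := by
  haveI := finite_U T hK
  haveI : Fact (Nat.Prime 2) := ⟨Nat.prime_two⟩
  have h : Nat.card (⊤ : Subgroup U) = 2 ^ ((2 * m + 1) * 12) := by
    rw [Subgroup.card_top, card_U' T hK, ← pow_mul]
  exact IsPGroup.of_card h

/-! ### field automorphisms commute with `σ` -/

theorem tau_sigma {m : ℕ} (hK : HypK σ m) (τ : K ≃+* K) (x : K) : σ (τ x) = τ (σ x) := by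
  rw [hK.sig, hK.sig, map_pow]

theorem mulc {G : Type w} [Group G] {a b c d : G} (h1 : a = c) (h2 : b = d) : a * b = c * d := by rw [h1, h2]

theorem exists_tor {m : ℕ} (hK : HypK σ m) (f g : K) (τ : K ≃+* K) (hf : f ≠ 0) (hg : g ≠ 0) :
    ∃ α : MulAut U, T.IsTor α f g τ := by
  have hs := tau_sigma hK τ
  have hq := hK.sq
  have R : OctRel σ (fun t => T.x1 (f * τ t)) (fun t => T.x3 (f * g * σ (f * g) * g * τ t))
      (fun t => T.x5 (f * σ f * g ^ 2 * σ g ^ 2 * τ t)) (fun t => T.x7 (f * g ^ 2 * σ g * τ t))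
      (fun p u => T.x2 (f * g * τ p) (f * g * σ (f * g) * τ u))
      (fun p u => T.x4 (σ (f * g) * g * τ p) (σ (f * g) * g * σ (σ (f * g) * g) * τ u))
      (fun p u => T.x6 (f * g * σ g * τ p) (f * g * σ g * σ (f * g * σ g) * τ u))
      (fun p u => T.x8 (g * τ p) (g * σ g * τ u)) := by
    constructor
    case m1 => intro t s; rw [T.rel.m1, map_add]; exact congrArg T.x1 (by ring)
    case m3 => intro t s; rw [T.rel.m3, map_add]; exact congrArg T.x3 (by ring)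
    case m5 => intro t s; rw [T.rel.m5, map_add]; exact congrArg T.x5 (by ring)
    case m7 => intro t s; rw [T.rel.m7, map_add]; exact congrArg T.x7 (by ring)
    case m2 => 
      intro p u q v; rw [T.rel.m2]; simp only [map_mul, map_add, hs]
      exact congrArg₂ T.x2 (by ring) (by ring)
    case m4 => 
      intro p u q v; rw [T.rel.m4]; simp only [map_mul, map_add, hs]
      exact congrArg₂ T.x4 (by ring) (by ring)
    case m6 => 
      intro p u q v; rw [T.rel.m6]; simp only [map_mul, map_add, hs]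
      exact congrArg₂ T.x6 (by ring) (by ring)
    case m8 => 
      intro p u q v; rw [T.rel.m8]; simp only [map_mul, map_add, hs]
      exact congrArg₂ T.x8 (by ring) (by ring)
    case r12 => intro t q v; exact T.rel.r12 _ _ _
    case r13 => intro t s; exact T.rel.r13 _ _
    case r15 => intro t s; exact T.rel.r15 _ _
    case r23 => intro p u s; exact T.rel.r23 _ _ _
    case r26 => intro p u q v; exact T.rel.r26 _ _ _ _
    case r34 => intro t q v; exact T.rel.r34 _ _ _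
    case r35 => intro t s; exact T.rel.r35 _ _
    case r37 => intro t s; exact T.rel.r37 _ _
    case r45 => intro p u s; exact T.rel.r45 _ _ _
    case r48 => intro p u q v; exact T.rel.r48 _ _ _ _
    case r56 => intro t q v; exact T.rel.r56 _ _ _
    case r57 => intro t s; exact T.rel.r57 _ _
    case r67 => intro p u s; exact T.rel.r67 _ _ _
    case r78 => intro t q v; exact T.rel.r78 _ _ _
    case r14 =>
      intro t q v; rw [T.rel.r14]; simp only [map_mul, map_add, map_zero, mul_zero, hs, hq, map_pow]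
      refine mulc rfl (congrArg₂ T.x2 rfl (by ring))
    case r16 =>
      intro t q v; rw [T.rel.r16]; simp only [map_mul, map_add, map_zero, mul_zero, hs, hq, map_pow]
      refine mulc (mulc (mulc rfl (congrArg₂ T.x2 rfl (by ring))) (congrArg T.x3 (by ring))) (congrArg₂ T.x4 rfl (by ring))
    case r17 =>
      intro t s; rw [T.rel.r17]; simp only [map_mul, map_add, map_zero, mul_zero, hs, hq, map_pow]
      refine mulc (mulc rfl (congrArg T.x3 (by ring))) (congrArg T.x5 (by ring))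
    case r18 =>
      intro t q v; rw [T.rel.r18]; simp only [map_mul, map_add, map_zero, mul_zero, hs, hq, map_pow]
      refine mulc (mulc (mulc (mulc (mulc (mulc rfl ?_) ?_) ?_) ?_) ?_) ?_
      · exact congrArg₂ T.x2 (by ring) (by ring)
      · exact congrArg T.x3 (by ring)
      · exact congrArg₂ T.x4 (by ring) (by ring)
      · exact congrArg T.x5 (by ring)
      · exact congrArg₂ T.x6 (by ring) (by ring)
      · exact congrArg T.x7 (by ring)
    case r24 =>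
      intro p u q v; rw [T.rel.r24]; simp only [map_mul, map_add, map_zero, mul_zero, hs, hq, map_pow]
      refine mulc rfl (congrArg T.x3 (by ring))
    case r25 =>
      intro p u s; rw [T.rel.r25]; simp only [map_mul, map_add, map_zero, mul_zero, hs, hq, map_pow]
      refine mulc rfl (congrArg₂ T.x4 rfl (by ring))
    case r27 =>
      intro p u s; rw [T.rel.r27]; simp only [map_mul, map_add, map_zero, mul_zero, hs, hq, map_pow]
      refine mulc (mulc (mulc rfl ?_) ?_) ?_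
      · exact congrArg₂ T.x4 rfl (by ring)
      · exact congrArg T.x5 (by ring)
      · exact congrArg₂ T.x6 rfl (by ring)
    case r28 =>
      intro p u q v; rw [T.rel.r28]; simp only [map_mul, map_add, map_zero, mul_zero, hs, hq, map_pow]
      refine mulc (mulc (mulc (mulc (mulc rfl ?_) ?_) ?_) ?_) ?_
      · exact congrArg T.x3 (by ring)
      · exact congrArg₂ T.x4 (by ring) (by ring)
      · exact congrArg T.x5 (by ring)
      · exact congrArg₂ T.x6 (by ring) (by ring)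
      · exact congrArg T.x7 (by ring)
    case r36 =>
      intro t q v; rw [T.rel.r36]; simp only [map_mul, map_add, map_zero, mul_zero, hs, hq, map_pow]
      refine mulc rfl (congrArg₂ T.x4 rfl (by ring))
    case r38 =>
      intro t q v; rw [T.rel.r38]; simp only [map_mul, map_add, map_zero, mul_zero, hs, hq, map_pow]
      refine mulc (mulc (mulc rfl ?_) ?_) ?_
      · exact congrArg₂ T.x4 rfl (by ring)
      · exact congrArg T.x5 (by ring)
      · exact congrArg₂ T.x6 rfl (by ring)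
    case r46 =>
      intro p u q v; rw [T.rel.r46]; simp only [map_mul, map_add, map_zero, mul_zero, hs, hq, map_pow]
      refine mulc rfl (congrArg T.x5 (by ring))
    case r47 =>
      intro p u s; rw [T.rel.r47]; simp only [map_mul, map_add, map_zero, mul_zero, hs, hq, map_pow]
      refine mulc rfl (congrArg₂ T.x6 rfl (by ring))
    case r58 =>
      intro t q v; rw [T.rel.r58]; simp only [map_mul, map_add, map_zero, mul_zero, hs, hq, map_pow]
      refine mulc rfl (congrArg₂ T.x6 rfl (by ring))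
    case r68 =>
      intro p u q v; rw [T.rel.r68]; simp only [map_mul, map_add, map_zero, mul_zero, hs, hq, map_pow]
      refine mulc rfl (congrArg T.x7 (by ring))
  obtain ⟨φ, a1, a2, a3, a4, a5, a6, a7, a8⟩ := Cfsg.Agent.H659.TF.ump T R
  haveI := finite_U T hK
  have hsf : σ f ≠ 0 := (map_ne_zero σ).2 hf
  have hsg : σ g ≠ 0 := (map_ne_zero σ).2 hg
  -- surjective on root elements
  have key : ∀ k : K, k ≠ 0 → ∀ x : K, ∃ y, k * τ y = x := by
    intro k hk x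
    obtain ⟨y, hy⟩ := τ.surjective (k⁻¹ * x)
    exact ⟨y, by rw [hy, mul_inv_cancel_left₀ hk]⟩
  have hsurj : Function.Surjective φ := by
    rw [← MonoidHom.range_eq_top, eq_top_iff]
    rintro x -
    obtain ⟨c, rfl⟩ := T.bij.2 x
    have r1 : ∀ t, T.x1 t ∈ φ.range := by
      intro t
      obtain ⟨y, hy⟩ := key _ hf t
      exact ⟨T.x1 y, by rw [a1, hy]⟩
    have r3 : ∀ t, T.x3 t ∈ φ.range := by
      intro t
      obtain ⟨y, hy⟩ := key (f * g * σ (f * g) * g) (by simp [hf, hg, hsf, hsg]) t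
      exact ⟨T.x3 y, by rw [a3, hy]⟩
    have r5 : ∀ t, T.x5 t ∈ φ.range := by
      intro t
      obtain ⟨y, hy⟩ := key (f * σ f * g ^ 2 * σ g ^ 2) (by simp [hf, hg, hsf, hsg]) t
      exact ⟨T.x5 y, by rw [a5, hy]⟩
    have r7 : ∀ t, T.x7 t ∈ φ.range := by
      intro t
      obtain ⟨y, hy⟩ := key (f * g ^ 2 * σ g) (by simp [hf, hg, hsg]) t
      exact ⟨T.x7 y, by rw [a7, hy]⟩
    have r2 : ∀ p u, T.x2 p u ∈ φ.range := by
      intro p u
      obtain ⟨y, hy⟩ := key (f * g) (by simp [hf, hg]) p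
      obtain ⟨z, hz⟩ := key (f * g * σ (f * g)) (by simp [hf, hg, hsf, hsg]) u
      exact ⟨T.x2 y z, by rw [a2, hy, hz]⟩
    have r4 : ∀ p u, T.x4 p u ∈ φ.range := by
      intro p u
      obtain ⟨y, hy⟩ := key (σ (f * g) * g) (by simp [hf, hg, hsf, hsg]) p
      obtain ⟨z, hz⟩ := key (σ (f * g) * g * σ (σ (f * g) * g)) (by simp [hf, hg, hsf, hsg]) u
      exact ⟨T.x4 y z, by rw [a4, hy, hz]⟩
    have r6 : ∀ p u, T.x6 p u ∈ φ.range := by
      intro p u
      obtain ⟨y, hy⟩ := key (f * g * σ g) (by simp [hf, hg, hsg]) p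
      obtain ⟨z, hz⟩ := key (f * g * σ g * σ (f * g * σ g)) (by simp [hf, hg, hsf, hsg]) u
      exact ⟨T.x6 y z, by rw [a6, hy, hz]⟩
    have r8 : ∀ p u, T.x8 p u ∈ φ.range := by
      intro p u
      obtain ⟨y, hy⟩ := key g hg p
      obtain ⟨z, hz⟩ := key (g * σ g) (by simp [hg]) u
      exact ⟨T.x8 y z, by rw [a8, hy, hz]⟩
    exact mul_mem (mul_mem (mul_mem (mul_mem (mul_mem (mul_mem (mul_mem (r1 _) (r2 _ _)) (r3 _)) (r4 _ _)) (r5 _))
      (r6 _ _)) (r7 _)) (r8 _ _)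
  refine ⟨MulEquiv.ofBijective φ (Finite.injective_iff_bijective.1 (Finite.injective_iff_surjective.2 hsurj)), ?_⟩
  exact ⟨hf, hg, a1, a2, a3, a4, a5, a6, a7, a8⟩

/-! ### the automorphisms `IsTor` form a group -/

variable {T}

theorem tor_mul {m : ℕ} (hK : HypK σ m) {α β : MulAut U} {f g f' g' : K} {τ τ' : K ≃+* K} (ha : T.IsTor α f g τ)
    (hb : T.IsTor β f' g' τ') : T.IsTor (α * β) (f * τ f') (g * τ g') (τ'.trans τ) := by
  have hs := tau_sigma hK τ
  have hs' := tau_sigma hK τ'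
  refine ⟨mul_ne_zero ha.nf ((map_ne_zero τ).2 hb.nf), mul_ne_zero ha.ng ((map_ne_zero τ).2 hb.ng), ?_, ?_, ?_, ?_,
    ?_, ?_, ?_, ?_⟩
  · intro t
    rw [MulAut.mul_apply, hb.e1, ha.e1]
    refine congrArg T.x1 ?_
    simp only [map_mul, map_pow, hs, RingEquiv.coe_trans, Function.comp]
    ring
  · intro p u
    rw [MulAut.mul_apply, hb.e2, ha.e2]
    refine congrArg₂ T.x2 ?_ ?_ <;>
    · simp only [map_mul, map_pow, hs, RingEquiv.coe_trans, Function.comp]
      ring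
  · intro t
    rw [MulAut.mul_apply, hb.e3, ha.e3]
    refine congrArg T.x3 ?_
    simp only [map_mul, map_pow, hs, RingEquiv.coe_trans, Function.comp]
    ring
  · intro p u
    rw [MulAut.mul_apply, hb.e4, ha.e4]
    refine congrArg₂ T.x4 ?_ ?_ <;>
    · simp only [map_mul, map_pow, hs, RingEquiv.coe_trans, Function.comp]
      ring
  · intro t
    rw [MulAut.mul_apply, hb.e5, ha.e5]
    refine congrArg T.x5 ?_
    simp only [map_mul, map_pow, hs, RingEquiv.coe_trans, Function.comp]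
    ring
  · intro p u
    rw [MulAut.mul_apply, hb.e6, ha.e6]
    refine congrArg₂ T.x6 ?_ ?_ <;>
    · simp only [map_mul, map_pow, hs, RingEquiv.coe_trans, Function.comp]
      ring
  · intro t
    rw [MulAut.mul_apply, hb.e7, ha.e7]
    refine congrArg T.x7 ?_
    simp only [map_mul, map_pow, hs, RingEquiv.coe_trans, Function.comp]
    ring
  · intro p u
    rw [MulAut.mul_apply, hb.e8, ha.e8]
    refine congrArg₂ T.x8 ?_ ?_ <;>
    · simp only [map_mul, map_pow, hs, RingEquiv.coe_trans, Function.comp]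
      ring

theorem tor_one : T.IsTor 1 1 1 (RingEquiv.refl K) := by
  refine ⟨one_ne_zero, one_ne_zero, ?_, ?_, ?_, ?_, ?_, ?_, ?_, ?_⟩ <;> intros <;>
    simp

/-- an automorphism `IsTor` is determined by its parameters -/
theorem tor_uniq {α β : MulAut U} {f g : K} {τ : K ≃+* K} (ha : T.IsTor α f g τ) (hb : T.IsTor β f g τ) : α = β := by
  have h : α.toMonoidHom = β.toMonoidHom := hom_ext T (fun t => (ha.e1 t).trans (hb.e1 t).symm)
    (fun p u => (ha.e2 p u).trans (hb.e2 p u).symm) (fun t => (ha.e3 t).trans (hb.e3 t).symm)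
    (fun p u => (ha.e4 p u).trans (hb.e4 p u).symm) (fun t => (ha.e5 t).trans (hb.e5 t).symm)
    (fun p u => (ha.e6 p u).trans (hb.e6 p u).symm) (fun t => (ha.e7 t).trans (hb.e7 t).symm)
    (fun p u => (ha.e8 p u).trans (hb.e8 p u).symm)
  exact MulEquiv.ext fun x => DFunLike.congr_fun h x

theorem tor_inv {m : ℕ} (hK : HypK σ m) {α : MulAut U} {f g : K} {τ : K ≃+* K} (ha : T.IsTor α f g τ) :
    T.IsTor α⁻¹ (τ.symm f⁻¹) (τ.symm g⁻¹) τ.symm := by
  obtain ⟨β, hb⟩ := exists_tor T hK (τ.symm f⁻¹) (τ.symm g⁻¹) τ.symm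
    ((map_ne_zero τ.symm).2 (inv_ne_zero ha.nf)) ((map_ne_zero τ.symm).2 (inv_ne_zero ha.ng))
  have h1 := tor_mul hK ha hb
  rw [RingEquiv.apply_symm_apply, RingEquiv.apply_symm_apply, mul_inv_cancel₀ ha.nf, mul_inv_cancel₀ ha.ng,
    RingEquiv.symm_trans_self] at h1
  have h2 : α * β = 1 := tor_uniq h1 tor_one
  rwa [inv_eq_of_mul_eq_one_right h2]

theorem mem_TT {m : ℕ} (hK : HypK σ m) {α : MulAut U} : α ∈ T.TT ↔ ∃ f g τ, T.IsTor α f g τ := by
  refine ⟨fun h => ?_, fun h => Subgroup.subset_closure h⟩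
  refine Subgroup.closure_induction (p := fun α _ => ∃ f g τ, T.IsTor α f g τ) ?_ ?_ ?_ ?_ h
  · intro x hx
    exact hx
  · exact ⟨1, 1, _, tor_one⟩
  · rintro x y _ _ ⟨f, g, τ, h1⟩ ⟨f', g', τ', h2⟩
    exact ⟨_, _, _, tor_mul hK h1 h2⟩
  · rintro x _ ⟨f, g, τ, h1⟩
    exact ⟨_, _, _, tor_inv hK h1⟩

end

end Cfsg.Agent.H805.TF
end

-- part: H805/TF/Syl
section
prune_inst 0xe0106004112202000000000020003c0292000000000b000101a003020e8048410d020621a8300202090080a02004006003100009020000000000020040050120802352021270ad0c16008f809000000000000000000000000000000000000000000000000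
set_option linter.all false
open scoped Cfsg.Agent.FastGrp

-- part: H805/TF/Model
section
/-!
# S5262: the model of `TF` in `²F₄(q)` (helper805)
-/

set_option autoImplicit false

namespace Cfsg.Agent.H805.TF

open Cfsg.Agent.Octagon.Pkg Cfsg.Agent.H745.TF
open Cfsg.Agent.SplitTwo Cfsg.Agent.SplitTwo.ZS Cfsg.Agent.TitsThree.RankTwoZ Cfsg.Agent.KFacts.TwF4
open Cfsg.Agent.KFacts.TwF4.Arc

universe u v w

section abs

variable {G : Type u} [Group G] {X : ℤ → Subgroup G} {m : ℤ} (Z : ZSys m X)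
include Z

/-- the first factor of a product is unique -/
theorem first_uniq {a b : ℤ} (hb : b < a + m) {x x' y y' : G} (hx : x ∈ X a) (hx' : x' ∈ X a)
    (hy : y ∈ J X (a + 1) b) (hy' : y' ∈ J X (a + 1) b) (h : x * y = x' * y') : x = x' ∧ y = y' := by
  have e : x'⁻¹ * x = y' * y⁻¹ := by
    rw [eq_mul_inv_iff_mul_eq, mul_assoc, h, inv_mul_cancel_left]
  have h1 : x'⁻¹ * x ∈ X a := mul_mem (inv_mem hx') hx
  have h2 : x'⁻¹ * x ∈ J X (a + 1) (a + m - 1) := by
    rw [e]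
    exact J_mono le_rfl (by omega) (mul_mem hy' (inv_mem hy))
  have h3 := Z.inter a _ h1 h2
  have h4 : x = x' := (inv_mul_eq_one.1 h3).symm
  subst h4
  exact ⟨rfl, mul_left_cancel h⟩

end abs

section model

variable {F : Type u} [Field F] {σ : F →+* F} {G : Type v} [Group G] (S : Full σ G)

theorem o0_mem (t : F) : S.o 0 t ∈ S.XZ 1 := (mem_X1 S).2 ⟨t, rfl⟩
theorem e1_mem (p u : F) : S.e 1 p u ∈ S.XZ 2 := (mem_X2 S).2 ⟨p, u, rfl⟩
theorem o1_mem (t : F) : S.o 1 t ∈ S.XZ 3 := (mem_X3 S).2 ⟨t, rfl⟩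
theorem e2_mem (p u : F) : S.e 2 p u ∈ S.XZ 4 := (mem_X4 S).2 ⟨p, u, rfl⟩
theorem o2_mem (t : F) : S.o 2 t ∈ S.XZ 5 := (mem_X5 S).2 ⟨t, rfl⟩
theorem e3_mem (p u : F) : S.e 3 p u ∈ S.XZ 6 := (mem_X6 S).2 ⟨p, u, rfl⟩
theorem o3_mem (t : F) : S.o 3 t ∈ S.XZ 7 := (mem_X7 S).2 ⟨t, rfl⟩
theorem e4_mem (p u : F) : S.e 4 p u ∈ S.XZ 8 := (mem_X8 S).2 ⟨p, u, rfl⟩

/-- existence of the ordered product -/
theorem exists_prod {g : G} (hg : g ∈ J S.XZ 1 8) : ∃ c : Cd F, g = S.o 0 c.a1 * S.e 1 c.a2 c.b2 * S.o 1 c.a3 *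
    S.e 2 c.a4 c.b4 * S.o 2 c.a5 * S.e 3 c.a6 c.b6 * S.o 3 c.a7 * S.e 4 c.a8 c.b8 := by
  have Z := S.zsys8
  obtain ⟨y1, h1, g1, hg1, e1⟩ := Z.split_ll (by norm_num) (by norm_num) hg
  obtain ⟨y2, h2, g2, hg2, e2⟩ := Z.split_ll (by norm_num) (by norm_num) hg1
  obtain ⟨y3, h3, g3, hg3, e3⟩ := Z.split_ll (by norm_num) (by norm_num) hg2
  obtain ⟨y4, h4, g4, hg4, e4⟩ := Z.split_ll (by norm_num) (by norm_num) hg3
  obtain ⟨y5, h5, g5, hg5, e5⟩ := Z.split_ll (by norm_num) (by norm_num) hg4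
  obtain ⟨y6, h6, g6, hg6, e6⟩ := Z.split_ll (by norm_num) (by norm_num) hg5
  obtain ⟨y7, h7, g7, hg7, e7⟩ := Z.split_ll (by norm_num) (by norm_num) hg6
  have hg7' : g7 ∈ S.XZ 8 := mem_of_J_self hg7 (by norm_num)
  norm_num at h1 h2 h3 h4 h5 h6 h7
  obtain ⟨t1, rfl⟩ := (mem_X1 S).1 h1
  obtain ⟨p2, u2, rfl⟩ := (mem_X2 S).1 h2
  obtain ⟨t3, rfl⟩ := (mem_X3 S).1 h3
  obtain ⟨p4, u4, rfl⟩ := (mem_X4 S).1 h4
  obtain ⟨t5, rfl⟩ := (mem_X5 S).1 h5
  obtain ⟨p6, u6, rfl⟩ := (mem_X6 S).1 h6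
  obtain ⟨t7, rfl⟩ := (mem_X7 S).1 h7
  obtain ⟨p8, u8, rfl⟩ := (mem_X8 S).1 hg7'
  refine ⟨⟨t1, p2, u2, t3, p4, u4, t5, p6, u6, t7, p8, u8⟩, ?_⟩
  rw [e1, e2, e3, e4, e5, e6, e7]
  simp only [mul_assoc]

/-- uniqueness of the ordered product -/
theorem prod_inj {c d : Cd F} (h : S.o 0 c.a1 * S.e 1 c.a2 c.b2 * S.o 1 c.a3 *
    S.e 2 c.a4 c.b4 * S.o 2 c.a5 * S.e 3 c.a6 c.b6 * S.o 3 c.a7 * S.e 4 c.a8 c.b8 = S.o 0 d.a1 * S.e 1 d.a2 d.b2 *
    S.o 1 d.a3 * S.e 2 d.a4 d.b4 * S.o 2 d.a5 * S.e 3 d.a6 d.b6 * S.o 3 d.a7 * S.e 4 d.a8 d.b8) : c = d := by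
  have Z := S.zsys8
  simp only [mul_assoc] at h
  have m8 : ∀ c : Cd F, S.e 4 c.a8 c.b8 ∈ J S.XZ 8 8 := fun c => mem_J (e4_mem S _ _) (by norm_num) (by norm_num)
  have m7 : ∀ c : Cd F, S.o 3 c.a7 * S.e 4 c.a8 c.b8 ∈ J S.XZ 7 8 := fun c =>
    mul_mem (mem_J (o3_mem S _) (by norm_num) (by norm_num)) (J_mono (by norm_num) (by norm_num) (m8 c))
  have m6 : ∀ c : Cd F, S.e 3 c.a6 c.b6 * (S.o 3 c.a7 * S.e 4 c.a8 c.b8) ∈ J S.XZ 6 8 := fun c =>
    mul_mem (mem_J (e3_mem S _ _) (by norm_num) (by norm_num)) (J_mono (by norm_num) (by norm_num) (m7 c))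
  have m5 : ∀ c : Cd F, S.o 2 c.a5 * (S.e 3 c.a6 c.b6 * (S.o 3 c.a7 * S.e 4 c.a8 c.b8)) ∈ J S.XZ 5 8 := fun c =>
    mul_mem (mem_J (o2_mem S _) (by norm_num) (by norm_num)) (J_mono (by norm_num) (by norm_num) (m6 c))
  have m4 : ∀ c : Cd F, S.e 2 c.a4 c.b4 * (S.o 2 c.a5 * (S.e 3 c.a6 c.b6 * (S.o 3 c.a7 * S.e 4 c.a8 c.b8))) ∈
      J S.XZ 4 8 := fun c =>
    mul_mem (mem_J (e2_mem S _ _) (by norm_num) (by norm_num)) (J_mono (by norm_num) (by norm_num) (m5 c))
  have m3 : ∀ c : Cd F, S.o 1 c.a3 * (S.e 2 c.a4 c.b4 * (S.o 2 c.a5 * (S.e 3 c.a6 c.b6 * (S.o 3 c.a7 *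
      S.e 4 c.a8 c.b8)))) ∈ J S.XZ 3 8 := fun c =>
    mul_mem (mem_J (o1_mem S _) (by norm_num) (by norm_num)) (J_mono (by norm_num) (by norm_num) (m4 c))
  have m2 : ∀ c : Cd F, S.e 1 c.a2 c.b2 * (S.o 1 c.a3 * (S.e 2 c.a4 c.b4 * (S.o 2 c.a5 * (S.e 3 c.a6 c.b6 *
      (S.o 3 c.a7 * S.e 4 c.a8 c.b8))))) ∈ J S.XZ 2 8 := fun c =>
    mul_mem (mem_J (e1_mem S _ _) (by norm_num) (by norm_num)) (J_mono (by norm_num) (by norm_num) (m3 c))
  obtain ⟨h1, h⟩ := first_uniq Z (a := 1) (b := 8) (by norm_num) (o0_mem S _) (o0_mem S _) (m2 c) (m2 d) h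
  obtain ⟨h2, h⟩ := first_uniq Z (a := 2) (b := 8) (by norm_num) (e1_mem S _ _) (e1_mem S _ _) (m3 c) (m3 d) h
  obtain ⟨h3, h⟩ := first_uniq Z (a := 3) (b := 8) (by norm_num) (o1_mem S _) (o1_mem S _) (m4 c) (m4 d) h
  obtain ⟨h4, h⟩ := first_uniq Z (a := 4) (b := 8) (by norm_num) (e2_mem S _ _) (e2_mem S _ _) (m5 c) (m5 d) h
  obtain ⟨h5, h⟩ := first_uniq Z (a := 5) (b := 8) (by norm_num) (o2_mem S _) (o2_mem S _) (m6 c) (m6 d) h
  obtain ⟨h6, h⟩ := first_uniq Z (a := 6) (b := 8) (by norm_num) (e3_mem S _ _) (e3_mem S _ _) (m7 c) (m7 d) h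
  obtain ⟨h7, h8⟩ := first_uniq Z (a := 7) (b := 8) (by norm_num) (o3_mem S _) (o3_mem S _) (m8 c) (m8 d) h
  obtain ⟨k2, k2'⟩ := S.injE _ _ _ _ _ h2
  obtain ⟨k4, k4'⟩ := S.injE _ _ _ _ _ h4
  obtain ⟨k6, k6'⟩ := S.injE _ _ _ _ _ h6
  obtain ⟨k8, k8'⟩ := S.injE _ _ _ _ _ h8
  exact Cd.ext (S.injO _ h1) k2 k2' (S.injO _ h3) k4 k4' (S.injO _ h5) k6 k6' (S.injO _ h7) k8 k8'

/-- **the model**: the group `J 1 8` has coordinates -/
noncomputable def modelTF : TF σ ↥(J S.XZ 1 8) where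
  x1 t := ⟨S.o 0 t, mem_J (o0_mem S t) (by norm_num) (by norm_num)⟩
  x3 t := ⟨S.o 1 t, mem_J (o1_mem S t) (by norm_num) (by norm_num)⟩
  x5 t := ⟨S.o 2 t, mem_J (o2_mem S t) (by norm_num) (by norm_num)⟩
  x7 t := ⟨S.o 3 t, mem_J (o3_mem S t) (by norm_num) (by norm_num)⟩
  x2 p u := ⟨S.e 1 p u, mem_J (e1_mem S p u) (by norm_num) (by norm_num)⟩
  x4 p u := ⟨S.e 2 p u, mem_J (e2_mem S p u) (by norm_num) (by norm_num)⟩
  x6 p u := ⟨S.e 3 p u, mem_J (e3_mem S p u) (by norm_num) (by norm_num)⟩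
  x8 p u := ⟨S.e 4 p u, mem_J (e4_mem S p u) (by norm_num) (by norm_num)⟩
  rel := by
    constructor
    case m1 => intro t s; exact Subtype.ext (S.rel.m1 t s)
    case m3 => intro t s; exact Subtype.ext (S.rel.m3 t s)
    case m5 => intro t s; exact Subtype.ext (S.rel.m5 t s)
    case m7 => intro t s; exact Subtype.ext (S.rel.m7 t s)
    case m2 => intro p u q v; exact Subtype.ext (S.rel.m2 p u q v)
    case m4 => intro p u q v; exact Subtype.ext (S.rel.m4 p u q v)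
    case m6 => intro p u q v; exact Subtype.ext (S.rel.m6 p u q v)
    case m8 => intro p u q v; exact Subtype.ext (S.rel.m8 p u q v)
    case r12 => intro t q v; exact Subtype.ext (S.rel.r12 t q v)
    case r13 => intro t s; exact Subtype.ext (S.rel.r13 t s)
    case r14 => intro t q v; exact Subtype.ext (S.rel.r14 t q v)
    case r15 => intro t s; exact Subtype.ext (S.rel.r15 t s)
    case r16 => intro t q v; exact Subtype.ext (S.rel.r16 t q v)
    case r17 => intro t s; exact Subtype.ext (S.rel.r17 t s)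
    case r18 => intro t q v; exact Subtype.ext (S.rel.r18 t q v)
    case r23 => intro p u s; exact Subtype.ext (S.rel.r23 p u s)
    case r24 => intro p u q v; exact Subtype.ext (S.rel.r24 p u q v)
    case r25 => intro p u s; exact Subtype.ext (S.rel.r25 p u s)
    case r26 => intro p u q v; exact Subtype.ext (S.rel.r26 p u q v)
    case r27 => intro p u s; exact Subtype.ext (S.rel.r27 p u s)
    case r28 => intro p u q v; exact Subtype.ext (S.rel.r28 p u q v)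
    case r34 => intro t q v; exact Subtype.ext (S.rel.r34 t q v)
    case r35 => intro t s; exact Subtype.ext (S.rel.r35 t s)
    case r36 => intro t q v; exact Subtype.ext (S.rel.r36 t q v)
    case r37 => intro t s; exact Subtype.ext (S.rel.r37 t s)
    case r38 => intro t q v; exact Subtype.ext (S.rel.r38 t q v)
    case r45 => intro p u s; exact Subtype.ext (S.rel.r45 p u s)
    case r46 => intro p u q v; exact Subtype.ext (S.rel.r46 p u q v)
    case r47 => intro p u s; exact Subtype.ext (S.rel.r47 p u s)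
    case r48 => intro p u q v; exact Subtype.ext (S.rel.r48 p u q v)
    case r56 => intro t q v; exact Subtype.ext (S.rel.r56 t q v)
    case r57 => intro t s; exact Subtype.ext (S.rel.r57 t s)
    case r58 => intro t q v; exact Subtype.ext (S.rel.r58 t q v)
    case r67 => intro p u s; exact Subtype.ext (S.rel.r67 p u s)
    case r68 => intro p u q v; exact Subtype.ext (S.rel.r68 p u q v)
    case r78 => intro t q v; exact Subtype.ext (S.rel.r78 t q v)
  bij := by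
    constructor
    · intro c d h
      exact prod_inj S (congrArg Subtype.val h)
    · intro g
      obtain ⟨c, hc⟩ := exists_prod S g.2
      exact ⟨c, Subtype.ext hc.symm⟩

end model

/-! ### transport along an isomorphism -/

section transport

variable {K : Type u} [Field K] {σ : K →+* K} {U : Type v} [Group U] (T : TF σ U) {H : Type w} [Group H]

theorem octRel_map {x1 x3 x5 x7 : K → U} {x2 x4 x6 x8 : K → K → U} (R : OctRel σ x1 x3 x5 x7 x2 x4 x6 x8)
    (φ : U →* H) : OctRel σ (fun t => φ (x1 t)) (fun t => φ (x3 t)) (fun t => φ (x5 t)) (fun t => φ (x7 t))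
      (fun p u => φ (x2 p u)) (fun p u => φ (x4 p u)) (fun p u => φ (x6 p u)) (fun p u => φ (x8 p u)) := by
  constructor
  case m1 => intro t s; simpa only [map_mul] using congrArg φ (R.m1 t s)
  case m3 => intro t s; simpa only [map_mul] using congrArg φ (R.m3 t s)
  case m5 => intro t s; simpa only [map_mul] using congrArg φ (R.m5 t s)
  case m7 => intro t s; simpa only [map_mul] using congrArg φ (R.m7 t s)
  case m2 => intro p u q v; rw [← map_mul, R.m2]
  case m4 => intro p u q v; rw [← map_mul, R.m4]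
  case m6 => intro p u q v; rw [← map_mul, R.m6]
  case m8 => intro p u q v; rw [← map_mul, R.m8]
  case r12 => intro t q v; simp only [← map_mul]; rw [R.r12]
  case r13 => intro t s; simp only [← map_mul]; rw [R.r13]
  case r14 => intro t q v; rw [← map_mul, R.r14]; simp only [map_mul φ]
  case r15 => intro t s; simp only [← map_mul]; rw [R.r15]
  case r16 => intro t q v; rw [← map_mul, R.r16]; simp only [map_mul φ]
  case r17 => intro t s; rw [← map_mul, R.r17]; simp only [map_mul φ]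
  case r18 => intro t q v; rw [← map_mul, R.r18]; simp only [map_mul φ]
  case r23 => intro p u s; simp only [← map_mul]; rw [R.r23]
  case r24 => intro p u q v; rw [← map_mul, R.r24]; simp only [map_mul φ]
  case r25 => intro p u s; rw [← map_mul, R.r25]; simp only [map_mul φ]
  case r26 => intro p u q v; simp only [← map_mul]; rw [R.r26]
  case r27 => intro p u s; rw [← map_mul, R.r27]; simp only [map_mul φ]
  case r28 => intro p u q v; rw [← map_mul, R.r28]; simp only [map_mul φ]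
  case r34 => intro t q v; simp only [← map_mul]; rw [R.r34]
  case r35 => intro t s; simp only [← map_mul]; rw [R.r35]
  case r36 => intro t q v; rw [← map_mul, R.r36]; simp only [map_mul φ]
  case r37 => intro t s; simp only [← map_mul]; rw [R.r37]
  case r38 => intro t q v; rw [← map_mul, R.r38]; simp only [map_mul φ]
  case r45 => intro p u s; simp only [← map_mul]; rw [R.r45]
  case r46 => intro p u q v; rw [← map_mul, R.r46]; simp only [map_mul φ]
  case r47 => intro p u s; rw [← map_mul, R.r47]; simp only [map_mul φ]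
  case r48 => intro p u q v; simp only [← map_mul]; rw [R.r48]
  case r56 => intro t q v; simp only [← map_mul]; rw [R.r56]
  case r57 => intro t s; simp only [← map_mul]; rw [R.r57]
  case r58 => intro t q v; rw [← map_mul, R.r58]; simp only [map_mul φ]
  case r67 => intro p u s; simp only [← map_mul]; rw [R.r67]
  case r68 => intro p u q v; rw [← map_mul, R.r68]; simp only [map_mul φ]
  case r78 => intro t q v; simp only [← map_mul]; rw [R.r78]

/-- transport of the coordinates -/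
def mapTF (e : U ≃* H) : TF σ H where
  x1 t := e (T.x1 t)
  x3 t := e (T.x3 t)
  x5 t := e (T.x5 t)
  x7 t := e (T.x7 t)
  x2 p u := e (T.x2 p u)
  x4 p u := e (T.x4 p u)
  x6 p u := e (T.x6 p u)
  x8 p u := e (T.x8 p u)
  rel := octRel_map T.rel e.toMonoidHom
  bij := by
    have h : (fun c : Cd K => e (T.x1 c.a1) * e (T.x2 c.a2 c.b2) * e (T.x3 c.a3) * e (T.x4 c.a4 c.b4) *
        e (T.x5 c.a5) * e (T.x6 c.a6 c.b6) * e (T.x7 c.a7) * e (T.x8 c.a8 c.b8)) = e ∘ fun c : Cd K =>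
        T.x1 c.a1 * T.x2 c.a2 c.b2 * T.x3 c.a3 * T.x4 c.a4 c.b4 * T.x5 c.a5 * T.x6 c.a6 c.b6 * T.x7 c.a7 *
          T.x8 c.a8 c.b8 := by
      funext c
      simp only [Function.comp, map_mul]
    rw [h]
    exact e.bijective.comp T.bij

end transport

end Cfsg.Agent.H805.TF
end

-- part: H805/TF/Syl
section
/-!
# S5262: `StSyl` and `StGrp` (helper805)
-/

set_option autoImplicit false

namespace Cfsg.Agent.H805.TF

open Cfsg.Agent.Octagon.Pkg Cfsg.Agent.H745.TF Cfsg.Lie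
open Cfsg.Agent.SplitTwo Cfsg.Agent.SplitTwo.ZS Cfsg.Agent.TitsThree.RankTwoZ Cfsg.Agent.KFacts.TwF4
open Cfsg.Agent.KFacts.TwF4.Arc Cfsg.Agent.ChevalleyStructure.TwF4.TwistedFix

universe u v w

/-! ### the model exists for every `σ` -/

theorem charP_of {K : Type u} [Field K] {σ : K →+* K} {m : ℕ} (hK : HypK σ m) : CharP K 2 :=
  CharTwo.of_one_ne_zero_of_two_eq_zero one_ne_zero hK.two

theorem rln_of {K : Type u} [Field K] {σ : K →+* K} {m : ℕ} (hK : HypK σ m) : Rln σ (2 ^ m) := by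
  haveI := hK.fin
  haveI : Fintype K := Fintype.ofFinite K
  have h1 : Fintype.card K = 2 ^ (2 * m + 1) := by rw [← Nat.card_eq_fintype_card, hK.card]
  obtain ⟨φ, hφ⟩ := exists_rln h1
  have : φ = σ := by
    ext x
    rw [hφ.phi, hK.sig, ← pow_mul, pow_succ]
  rwa [this] at hφ

theorem hypK_of {K : Type u} [Field K] [Fintype K] {m : ℕ} (h1 : Fintype.card K = 2 ^ (2 * m + 1)) {σ : K →+* K}
    (hσ : Rln σ (2 ^ m)) : HypK σ m := by
  haveI := Cfsg.Agent.ChevalleyStructure.TwF4.Twisted.charP_two h1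
  refine ⟨inferInstance, by rw [Nat.card_eq_fintype_card, h1], ?_, ?_, ?_⟩
  · intro x
    rw [hσ.phi, ← pow_mul, pow_succ]
  · intro x
    rw [hσ.phi x, map_pow, hσ.phi_pow]
  · exact CharTwo.two_eq_zero

theorem stSyl : Cfsg.Agent.H745.TF.StSyl.{u} := by
  intro K _ _ m hK P
  haveI := Cfsg.Agent.ChevalleyStructure.TwF4.Twisted.charP_two hK
  haveI : Fact (Nat.Prime 2) := ⟨Nat.prime_two⟩
  obtain ⟨σ, hσ⟩ := exists_rln hK
  have hH := hypK_of hK hσ
  refine ⟨σ, hH, ?_⟩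
  let S := Cfsg.Agent.KFacts.TwF4.Inst.full hK hσ
  let T := modelTF S
  haveI : Finite ↥(twistedF4 K (2 ^ m)) := inferInstance
  have hcard : Nat.card ↥(J S.XZ 1 8) = (2 ^ (2 * m + 1)) ^ 12 := card_U' T hH
  -- the index is odd
  have hord := S1068.result (K := K) (m := m) hK
  have hJ : Nat.card ↥(J S.XZ 1 8) = 2 ^ (Nat.card ↥(twistedF4 K (2 ^ m))).factorization 2 := by
    rw [hcard, ← pow_mul]
    congr 1
    have h2 : Nat.card ↥(twistedF4 K (2 ^ m)) = 2 ^ (12 * (2 * m + 1)) * ((2 ^ (2 * m + 1) - 1) *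
        ((2 ^ (2 * m + 1)) ^ 3 + 1) * ((2 ^ (2 * m + 1)) ^ 4 - 1) * ((2 ^ (2 * m + 1)) ^ 6 + 1)) := by
      rw [hord, mul_comm 12 (2 * m + 1), pow_mul]
      ring
    rw [h2]
    have h3 : 2 ^ (2 * m + 1) % 2 = 0 := by rw [pow_succ]; omega
    have h4 : 0 < 2 ^ (2 * m + 1) := by positivity
    have hk : ∀ k, 1 ≤ k → (2 ^ (2 * m + 1)) ^ k % 2 = 0 ∧ 0 < (2 ^ (2 * m + 1)) ^ k := by
      intro k hk
      refine ⟨?_, by positivity⟩
      have h5 : 2 ∣ (2 ^ (2 * m + 1)) ^ k := dvd_pow (dvd_pow_self 2 (by omega)) (by omega)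
      omega
    have h3' := hk 3 (by norm_num)
    have h4' := hk 4 (by norm_num)
    have h6' := hk 6 (by norm_num)
    have hnd : ¬ 2 ∣ ((2 ^ (2 * m + 1) - 1) * ((2 ^ (2 * m + 1)) ^ 3 + 1) *
        ((2 ^ (2 * m + 1)) ^ 4 - 1) * ((2 ^ (2 * m + 1)) ^ 6 + 1)) := by
      rw [Nat.Prime.dvd_mul Nat.prime_two, Nat.Prime.dvd_mul Nat.prime_two, Nat.Prime.dvd_mul Nat.prime_two]
      rintro (((h | h) | h) | h) <;> omega
    rw [Nat.factorization_mul (by positivity) (fun h => hnd (by rw [h]; exact dvd_zero 2)), Finsupp.add_apply,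
      Nat.factorization_eq_zero_of_not_dvd hnd, add_zero, Nat.Prime.factorization_pow Nat.prime_two,
      Finsupp.single_eq_same]
    ring
  let P0 : Sylow 2 ↥(twistedF4 K (2 ^ m)) := Sylow.ofCard (J S.XZ 1 8) hJ
  exact ⟨mapTF T (P0.equiv P)⟩

/-! ### restriction of a conjugation -/

theorem exists_restr {U : Type v} {G : Type w} [Group U] [Group G] (f : U →* G) (hf : Function.Injective f)
    (Q : Subgroup U) (n : G) (hn : n * n = 1) (h : Q ≤ (Q.map f).comap ((MulAut.conj n).toMonoidHom.comp f)) :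
    ∃ γ : MulAut Q, ∀ e : Q, f ((γ e : Q) : U) = n * f e * n⁻¹ := by
  have h1 : ∀ e : Q, ∃ y : Q, f (y : U) = n * f e * n⁻¹ := by
    intro e
    obtain ⟨y, hy, hy'⟩ := h e.2
    exact ⟨⟨y, hy⟩, hy'⟩
  choose g hg using h1
  have hinj : ∀ a b : Q, f (a : U) = f (b : U) → a = b := fun a b h => Subtype.ext (hf h)
  have hinv : ∀ e : Q, g (g e) = e := by
    intro e
    apply hinj
    rw [hg, hg]
    calc n * (n * f e * n⁻¹) * n⁻¹ = (n * n) * f e * (n * n)⁻¹ := by group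
      _ = f e := by rw [hn]; group
  have hmul : ∀ a b : Q, g (a * b) = g a * g b := by
    intro a b
    apply hinj
    rw [hg, Subgroup.coe_mul, Subgroup.coe_mul, map_mul, map_mul, hg, hg]
    group
  exact ⟨{ toFun := g, invFun := g, left_inv := hinv, right_inv := hinv, map_mul' := hmul }, hg⟩

section weyl

variable {K : Type u} [Field K] {σ : K →+* K} {U : Type v} [Group U] (T : TF σ U)

/-- the embedding of `U` into the model -/
theorem exists_emb {m : ℕ} (hK : HypK σ m) : ∃ (G : Type u) (_ : Group G) (S : Full σ G) (f : U →* G),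
    Function.Injective f ∧ (∀ t, f (T.x1 t) = S.o 0 t) ∧ (∀ p u, f (T.x2 p u) = S.e 1 p u) ∧
      (∀ t, f (T.x3 t) = S.o 1 t) ∧ (∀ p u, f (T.x4 p u) = S.e 2 p u) ∧ (∀ t, f (T.x5 t) = S.o 2 t) ∧
      (∀ p u, f (T.x6 p u) = S.e 3 p u) ∧ (∀ t, f (T.x7 t) = S.o 3 t) ∧ (∀ p u, f (T.x8 p u) = S.e 4 p u) := by
  haveI := hK.fin
  haveI : Fintype K := Fintype.ofFinite K
  haveI := charP_of hK
  have h1 : Fintype.card K = 2 ^ (2 * m + 1) := by rw [← Nat.card_eq_fintype_card, hK.card]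
  let S := Cfsg.Agent.KFacts.TwF4.Inst.full h1 (rln_of hK)
  obtain ⟨e, a1, a2, a3, a4, a5, a6, a7, a8⟩ := stIso hK T (modelTF S)
  refine ⟨_, inferInstance, S, (J S.XZ 1 8).subtype.comp e.toMonoidHom, ?_, ?_, ?_, ?_, ?_, ?_, ?_, ?_, ?_⟩
  · exact Subtype.val_injective.comp e.injective
  · intro t; exact congrArg Subtype.val (a1 t)
  · intro p u; exact congrArg Subtype.val (a2 p u)
  · intro t; exact congrArg Subtype.val (a3 t)
  · intro p u; exact congrArg Subtype.val (a4 p u)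
  · intro t; exact congrArg Subtype.val (a5 t)
  · intro p u; exact congrArg Subtype.val (a6 p u)
  · intro t; exact congrArg Subtype.val (a7 t)
  · intro p u; exact congrArg Subtype.val (a8 p u)

/-! membership of the root elements -/

theorem x1_QA (t : K) : T.x1 t ∈ T.QA := by
  have h : T.X1 ≤ T.QA := by
    unfold TF.QA
    exact le_trans (le_trans (le_trans (le_trans (le_trans le_sup_left le_sup_left) le_sup_left) le_sup_left)
      le_sup_left) le_sup_left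
  exact h (Subgroup.subset_closure ⟨t, rfl⟩)

theorem x2_QA (p u : K) : T.x2 p u ∈ T.QA := by
  have h : T.X2 ≤ T.QA := by
    unfold TF.QA
    exact le_trans (le_trans (le_trans (le_trans (le_trans le_sup_right le_sup_left) le_sup_left) le_sup_left)
      le_sup_left) le_sup_left
  exact h (Subgroup.subset_closure ⟨p, u, rfl⟩)

theorem x3_QA (t : K) : T.x3 t ∈ T.QA := by
  have h : T.X3 ≤ T.QA := by
    unfold TF.QA
    exact le_trans (le_trans (le_trans (le_trans le_sup_right le_sup_left) le_sup_left) le_sup_left) le_sup_left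
  exact h (Subgroup.subset_closure ⟨t, rfl⟩)

theorem x4_QA (p u : K) : T.x4 p u ∈ T.QA := by
  have h : T.X4 ≤ T.QA := by
    unfold TF.QA
    exact le_trans (le_trans (le_trans le_sup_right le_sup_left) le_sup_left) le_sup_left
  exact h (Subgroup.subset_closure ⟨p, u, rfl⟩)

theorem x5_QA (t : K) : T.x5 t ∈ T.QA := by
  have h : T.X5 ≤ T.QA := by
    unfold TF.QA
    exact le_trans (le_trans le_sup_right le_sup_left) le_sup_left
  exact h (Subgroup.subset_closure ⟨t, rfl⟩)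

theorem x6_QA (p u : K) : T.x6 p u ∈ T.QA := by
  have h : T.X6 ≤ T.QA := by
    unfold TF.QA
    exact le_trans le_sup_right le_sup_left
  exact h (Subgroup.subset_closure ⟨p, u, rfl⟩)

theorem x7_QA (t : K) : T.x7 t ∈ T.QA := by
  have h : T.X7 ≤ T.QA := by
    unfold TF.QA
    exact le_sup_right
  exact h (Subgroup.subset_closure ⟨t, rfl⟩)

theorem x2_QB (p u : K) : T.x2 p u ∈ T.QB := by
  have h : T.X2 ≤ T.QB := by
    unfold TF.QB
    exact le_trans (le_trans (le_trans (le_trans (le_trans le_sup_left le_sup_left) le_sup_left) le_sup_left)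
      le_sup_left) le_sup_left
  exact h (Subgroup.subset_closure ⟨p, u, rfl⟩)

theorem x3_QB (t : K) : T.x3 t ∈ T.QB := by
  have h : T.X3 ≤ T.QB := by
    unfold TF.QB
    exact le_trans (le_trans (le_trans (le_trans (le_trans le_sup_right le_sup_left) le_sup_left) le_sup_left)
      le_sup_left) le_sup_left
  exact h (Subgroup.subset_closure ⟨t, rfl⟩)

theorem x4_QB (p u : K) : T.x4 p u ∈ T.QB := by
  have h : T.X4 ≤ T.QB := by
    unfold TF.QB
    exact le_trans (le_trans (le_trans (le_trans le_sup_right le_sup_left) le_sup_left) le_sup_left) le_sup_left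
  exact h (Subgroup.subset_closure ⟨p, u, rfl⟩)

theorem x5_QB (t : K) : T.x5 t ∈ T.QB := by
  have h : T.X5 ≤ T.QB := by
    unfold TF.QB
    exact le_trans (le_trans (le_trans le_sup_right le_sup_left) le_sup_left) le_sup_left
  exact h (Subgroup.subset_closure ⟨t, rfl⟩)

theorem x6_QB (p u : K) : T.x6 p u ∈ T.QB := by
  have h : T.X6 ≤ T.QB := by
    unfold TF.QB
    exact le_trans (le_trans le_sup_right le_sup_left) le_sup_left
  exact h (Subgroup.subset_closure ⟨p, u, rfl⟩)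

theorem x7_QB (t : K) : T.x7 t ∈ T.QB := by
  have h : T.X7 ≤ T.QB := by
    unfold TF.QB
    exact le_trans le_sup_right le_sup_left
  exact h (Subgroup.subset_closure ⟨t, rfl⟩)

theorem x8_QB (p u : K) : T.x8 p u ∈ T.QB := by
  have h : T.X8 ≤ T.QB := by
    unfold TF.QB
    exact le_sup_right
  exact h (Subgroup.subset_closure ⟨p, u, rfl⟩)

/-- a subgroup which contains the root elements contains `QA` -/
theorem QA_le {H : Subgroup U} (h1 : ∀ t, T.x1 t ∈ H) (h2 : ∀ p u, T.x2 p u ∈ H) (h3 : ∀ t, T.x3 t ∈ H)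
    (h4 : ∀ p u, T.x4 p u ∈ H) (h5 : ∀ t, T.x5 t ∈ H) (h6 : ∀ p u, T.x6 p u ∈ H) (h7 : ∀ t, T.x7 t ∈ H) :
    T.QA ≤ H := by
  unfold TF.QA
  refine sup_le (sup_le (sup_le (sup_le (sup_le (sup_le ?_ ?_) ?_) ?_) ?_) ?_) ?_ <;> refine (Subgroup.closure_le _).2 ?_
  · rintro _ ⟨t, rfl⟩; exact h1 t
  · rintro _ ⟨p, u, rfl⟩; exact h2 p u
  · rintro _ ⟨t, rfl⟩; exact h3 t
  · rintro _ ⟨p, u, rfl⟩; exact h4 p u
  · rintro _ ⟨t, rfl⟩; exact h5 t
  · rintro _ ⟨p, u, rfl⟩; exact h6 p u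
  · rintro _ ⟨t, rfl⟩; exact h7 t

theorem QB_le {H : Subgroup U} (h2 : ∀ p u, T.x2 p u ∈ H) (h3 : ∀ t, T.x3 t ∈ H) (h4 : ∀ p u, T.x4 p u ∈ H)
    (h5 : ∀ t, T.x5 t ∈ H) (h6 : ∀ p u, T.x6 p u ∈ H) (h7 : ∀ t, T.x7 t ∈ H) (h8 : ∀ p u, T.x8 p u ∈ H) :
    T.QB ≤ H := by
  unfold TF.QB
  refine sup_le (sup_le (sup_le (sup_le (sup_le (sup_le ?_ ?_) ?_) ?_) ?_) ?_) ?_ <;> refine (Subgroup.closure_le _).2 ?_
  · rintro _ ⟨p, u, rfl⟩; exact h2 p u
  · rintro _ ⟨t, rfl⟩; exact h3 t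
  · rintro _ ⟨p, u, rfl⟩; exact h4 p u
  · rintro _ ⟨t, rfl⟩; exact h5 t
  · rintro _ ⟨p, u, rfl⟩; exact h6 p u
  · rintro _ ⟨t, rfl⟩; exact h7 t
  · rintro _ ⟨p, u, rfl⟩; exact h8 p u

theorem exists_wa {m : ℕ} (hK : HypK σ m) : ∃ γ, T.IsWa γ := by
  obtain ⟨G, _, S, f, hf, a1, a2, a3, a4, a5, a6, a7, a8⟩ := exists_emb T hK
  have w1 : ∀ t, S.n2 * S.o 0 t * S.n2⁻¹ = S.o 3 t := fun t => S.n2_o 0 t
  have w3 : ∀ t, S.n2 * S.o 1 t * S.n2⁻¹ = S.o 2 t := fun t => S.n2_o 1 t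
  have w5 : ∀ t, S.n2 * S.o 2 t * S.n2⁻¹ = S.o 1 t := fun t => S.n2_o 2 t
  have w7 : ∀ t, S.n2 * S.o 3 t * S.n2⁻¹ = S.o 0 t := fun t => S.n2_o 3 t
  have w2 : ∀ p u, S.n2 * S.e 1 p u * S.n2⁻¹ = S.e 3 p u := fun p u => S.n2_e 1 p u
  have w4 : ∀ p u, S.n2 * S.e 2 p u * S.n2⁻¹ = S.e 2 p u := fun p u => S.n2_e 2 p u
  have w6 : ∀ p u, S.n2 * S.e 3 p u * S.n2⁻¹ = S.e 1 p u := fun p u => S.n2_e 3 p u
  obtain ⟨γ, hγ⟩ := exists_restr f hf T.QA S.n2 S.n2_sq (by
    apply QA_le T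
    · intro t; exact ⟨_, x7_QA T t, by show f _ = S.n2 * f _ * S.n2⁻¹; rw [a7, a1, w1]⟩
    · intro p u; exact ⟨_, x6_QA T p u, by show f _ = S.n2 * f _ * S.n2⁻¹; rw [a6, a2, w2]⟩
    · intro t; exact ⟨_, x5_QA T t, by show f _ = S.n2 * f _ * S.n2⁻¹; rw [a5, a3, w3]⟩
    · intro p u; exact ⟨_, x4_QA T p u, by show f _ = S.n2 * f _ * S.n2⁻¹; rw [a4, w4]⟩
    · intro t; exact ⟨_, x3_QA T t, by show f _ = S.n2 * f _ * S.n2⁻¹; rw [a5, a3, w5]⟩
    · intro p u; exact ⟨_, x2_QA T p u, by show f _ = S.n2 * f _ * S.n2⁻¹; rw [a6, a2, w6]⟩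
    · intro t; exact ⟨_, x1_QA T t, by show f _ = S.n2 * f _ * S.n2⁻¹; rw [a7, a1, w7]⟩)
  refine ⟨γ, ?_, ?_, ?_, ?_, ?_, ?_, ?_⟩
  · intro e t he; apply hf; rw [hγ, he, a1, a7, w1]
  · intro e p u he; apply hf; rw [hγ, he, a2, a6, w2]
  · intro e t he; apply hf; rw [hγ, he, a3, a5, w3]
  · intro e p u he; apply hf; rw [hγ, he, a4, w4]
  · intro e t he; apply hf; rw [hγ, he, a3, a5, w5]
  · intro e p u he; apply hf; rw [hγ, he, a2, a6, w6]
  · intro e t he; apply hf; rw [hγ, he, a1, a7, w7]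

theorem exists_wb {m : ℕ} (hK : HypK σ m) : ∃ γ, T.IsWb γ := by
  obtain ⟨G, _, S, f, hf, a1, a2, a3, a4, a5, a6, a7, a8⟩ := exists_emb T hK
  have w3 : ∀ t, S.n1 * S.o 1 t * S.n1⁻¹ = S.o 3 t := fun t => S.n1_o 1 t
  have w5 : ∀ t, S.n1 * S.o 2 t * S.n1⁻¹ = S.o 2 t := fun t => S.n1_o 2 t
  have w7 : ∀ t, S.n1 * S.o 3 t * S.n1⁻¹ = S.o 1 t := fun t => S.n1_o 3 t
  have w2 : ∀ p u, S.n1 * S.e 1 p u * S.n1⁻¹ = S.e 4 p u := fun p u => S.n1_e 1 p u
  have w4 : ∀ p u, S.n1 * S.e 2 p u * S.n1⁻¹ = S.e 3 p u := fun p u => S.n1_e 2 p u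
  have w6 : ∀ p u, S.n1 * S.e 3 p u * S.n1⁻¹ = S.e 2 p u := fun p u => S.n1_e 3 p u
  have w8 : ∀ p u, S.n1 * S.e 4 p u * S.n1⁻¹ = S.e 1 p u := fun p u => S.n1_e 4 p u
  obtain ⟨γ, hγ⟩ := exists_restr f hf T.QB S.n1 S.n1_sq (by
    apply QB_le T
    · intro p u; exact ⟨_, x8_QB T p u, by show f _ = S.n1 * f _ * S.n1⁻¹; rw [a8, a2, w2]⟩
    · intro t; exact ⟨_, x7_QB T t, by show f _ = S.n1 * f _ * S.n1⁻¹; rw [a7, a3, w3]⟩
    · intro p u; exact ⟨_, x6_QB T p u, by show f _ = S.n1 * f _ * S.n1⁻¹; rw [a6, a4, w4]⟩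
    · intro t; exact ⟨_, x5_QB T t, by show f _ = S.n1 * f _ * S.n1⁻¹; rw [a5, w5]⟩
    · intro p u; exact ⟨_, x4_QB T p u, by show f _ = S.n1 * f _ * S.n1⁻¹; rw [a6, a4, w6]⟩
    · intro t; exact ⟨_, x3_QB T t, by show f _ = S.n1 * f _ * S.n1⁻¹; rw [a7, a3, w7]⟩
    · intro p u; exact ⟨_, x2_QB T p u, by show f _ = S.n1 * f _ * S.n1⁻¹; rw [a8, a2, w8]⟩)
  refine ⟨γ, ?_, ?_, ?_, ?_, ?_, ?_, ?_⟩
  · intro e p u he; apply hf; rw [hγ, he, a2, a8, w2]
  · intro e t he; apply hf; rw [hγ, he, a3, a7, w3]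
  · intro e p u he; apply hf; rw [hγ, he, a4, a6, w4]
  · intro e t he; apply hf; rw [hγ, he, a5, w5]
  · intro e p u he; apply hf; rw [hγ, he, a4, a6, w6]
  · intro e t he; apply hf; rw [hγ, he, a3, a7, w7]
  · intro e p u he; apply hf; rw [hγ, he, a2, a8, w8]

end weyl

theorem stGrp : Cfsg.Agent.H745.TF.StGrp.{u, v} := by
  intro K _ σ m hK U _ T
  exact ⟨card_U' T hK, isPGroup_U T hK, fun f g τ hf hg => exists_tor T hK f g τ hf hg, fun α h => (mem_TT hK).1 h,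
    exists_wa T hK, exists_wb T hK⟩

end Cfsg.Agent.H805.TF
end
end

-- part: H240/TF/Rs
section
set_option linter.all false
open scoped Cfsg.Agent.FastGrp

/-!
# S5262, LA2: restrictions to `QA`, the Weyl element and the torus (helper240)
-/

set_option autoImplicit false

namespace Cfsg.Agent.H240.TF

open Cfsg Cfsg.FusionSystem Cfsg.Agent.Octagon.Pkg Cfsg.Agent.H745.TF Cfsg.Agent.H659.TF Cfsg.Agent.H756.PU

universe u v

section

variable {K : Type u} [Field K] {σ : K →+* K} {m : ℕ} {U : Type v} [Group U] {T : TF σ U}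

/-- automorphisms of `QA` are determined by the values on the root elements -/
theorem autA_ext {α β : MulAut T.QA}
    (h1 : ∀ t, α ⟨T.x1 t, x1_A t⟩ = β ⟨T.x1 t, x1_A t⟩)
    (h2 : ∀ p u, α ⟨T.x2 p u, x2_A p u⟩ = β ⟨T.x2 p u, x2_A p u⟩)
    (h3 : ∀ t, α ⟨T.x3 t, x3_A t⟩ = β ⟨T.x3 t, x3_A t⟩)
    (h4 : ∀ p u, α ⟨T.x4 p u, x4_A p u⟩ = β ⟨T.x4 p u, x4_A p u⟩)
    (h5 : ∀ t, α ⟨T.x5 t, x5_A t⟩ = β ⟨T.x5 t, x5_A t⟩)
    (h6 : ∀ p u, α ⟨T.x6 p u, x6_A p u⟩ = β ⟨T.x6 p u, x6_A p u⟩)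
    (h7 : ∀ t, α ⟨T.x7 t, x7_A t⟩ = β ⟨T.x7 t, x7_A t⟩) : α = β := by
  obtain ⟨ρ, R⟩ := exists_rho T
  ext ⟨x, hx⟩
  congr 1
  obtain ⟨c, hc⟩ := T.bij.2 x
  have h8 : ρ (T.el c) = 1 := by
    rw [R.mem_QA] at hx
    rw [← hx, ← hc]
    rfl
  rw [R.el] at h8
  have h9 : c.a8 = 0 := congrArg SU.p h8
  have h10 : c.b8 = 0 := congrArg SU.u h8
  have e : (⟨x, hx⟩ : T.QA) = ⟨T.x1 c.a1, x1_A _⟩ * ⟨T.x2 c.a2 c.b2, x2_A _ _⟩ * ⟨T.x3 c.a3, x3_A _⟩ *
      ⟨T.x4 c.a4 c.b4, x4_A _ _⟩ * ⟨T.x5 c.a5, x5_A _⟩ * ⟨T.x6 c.a6 c.b6, x6_A _ _⟩ * ⟨T.x7 c.a7, x7_A _⟩ := by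
    apply Subtype.ext
    have h11 : x = T.x1 c.a1 * T.x2 c.a2 c.b2 * T.x3 c.a3 * T.x4 c.a4 c.b4 * T.x5 c.a5 * T.x6 c.a6 c.b6 * T.x7 c.a7 := by
      rw [← hc]
      show T.x1 c.a1 * T.x2 c.a2 c.b2 * T.x3 c.a3 * T.x4 c.a4 c.b4 * T.x5 c.a5 * T.x6 c.a6 c.b6 * T.x7 c.a7 *
        T.x8 c.a8 c.b8 = _
      rw [h9, h10, x8_zero T.rel, mul_one]
    exact h11
  rw [e]
  simp only [map_mul, h1, h2, h3, h4, h5, h6, h7]

/-- restriction to `QA` -/
def rsH (hch : ∀ α : MulAut U, ∀ x ∈ T.QA, α x ∈ T.QA) : MulAut U →* MulAut T.QA where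
  toFun α :=
    { toFun := fun e => ⟨α e, hch α e e.2⟩
      invFun := fun e => ⟨α⁻¹ e, hch α⁻¹ e e.2⟩
      left_inv := fun e => Subtype.ext (MulAut.inv_apply_self _ _ _)
      right_inv := fun e => Subtype.ext (MulAut.apply_inv_self _ _ _)
      map_mul' := fun a b => Subtype.ext (map_mul α (a : U) (b : U)) }
  map_one' := by
    ext e
    rfl
  map_mul' a b := by
    ext e
    rfl

variable (hch : ∀ α : MulAut U, ∀ x ∈ T.QA, α x ∈ T.QA)

theorem rsH_isR (α : MulAut U) : TF.IsR α (rsH hch α) := fun _ => rfl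

theorem isR_iff (α : MulAut U) (γ : MulAut T.QA) : TF.IsR α γ ↔ γ = rsH hch α := by
  constructor
  · intro h
    ext e
    rw [h e]
    rfl
  · rintro rfl
    exact rsH_isR hch α

/-- the Weyl element is unique -/
theorem wa_unique {γ γ' : MulAut T.QA} (h : T.IsWa γ) (h' : T.IsWa γ') : γ = γ' := by
  apply autA_ext <;> intros <;> apply Subtype.ext
  · rw [h.e1 _ _ rfl, h'.e1 _ _ rfl]
  · rw [h.e2 _ _ _ rfl, h'.e2 _ _ _ rfl]
  · rw [h.e3 _ _ rfl, h'.e3 _ _ rfl]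
  · rw [h.e4 _ _ _ rfl, h'.e4 _ _ _ rfl]
  · rw [h.e5 _ _ rfl, h'.e5 _ _ rfl]
  · rw [h.e6 _ _ _ rfl, h'.e6 _ _ _ rfl]
  · rw [h.e7 _ _ rfl, h'.e7 _ _ rfl]

/-- the Weyl element acts on the torus -/
theorem wa_tor (hK : HypK σ m) {w : MulAut T.QA} (hw : T.IsWa w) {α α' : MulAut U} {f g : K}
    (h : T.IsTor α f g (RingEquiv.refl K)) (h' : T.IsTor α' (f * g ^ 2 * σ g) g⁻¹ (RingEquiv.refl K)) :
    w * rsH hch α = rsH hch α' * w := by
  have hf := h.nf
  have hg := h.ng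
  have hsf : σ f ≠ 0 := (map_ne_zero σ).2 hf
  have hsg : σ g ≠ 0 := (map_ne_zero σ).2 hg
  apply autA_ext <;> intros <;> apply Subtype.ext
  · rename_i t
    show ((w (rsH hch α ⟨T.x1 t, _⟩) : T.QA) : U) = α' ((w ⟨T.x1 t, _⟩ : T.QA) : U)
    rw [hw.e1 (rsH hch α ⟨T.x1 t, x1_A t⟩) _ (h.e1 t), hw.e1 ⟨T.x1 t, x1_A t⟩ t rfl, h'.e7]
    simp only [RingEquiv.refl_apply, map_inv₀]
    congr 1
    field_simp
  · rename_i p u
    show ((w (rsH hch α ⟨T.x2 p u, _⟩) : T.QA) : U) = α' ((w ⟨T.x2 p u, _⟩ : T.QA) : U)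
    rw [hw.e2 (rsH hch α ⟨T.x2 p u, x2_A p u⟩) _ _ (h.e2 p u), hw.e2 ⟨T.x2 p u, x2_A p u⟩ p u rfl, h'.e6]
    simp only [RingEquiv.refl_apply, map_inv₀, map_mul, map_pow, hK.sq]
    congr 1 <;> field_simp
  · rename_i t
    show ((w (rsH hch α ⟨T.x3 t, _⟩) : T.QA) : U) = α' ((w ⟨T.x3 t, _⟩ : T.QA) : U)
    rw [hw.e3 (rsH hch α ⟨T.x3 t, x3_A t⟩) _ (h.e3 t), hw.e3 ⟨T.x3 t, x3_A t⟩ t rfl, h'.e5]
    simp only [RingEquiv.refl_apply, map_inv₀, map_mul, map_pow, hK.sq]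
    congr 1
    field_simp
  · rename_i p u
    show ((w (rsH hch α ⟨T.x4 p u, _⟩) : T.QA) : U) = α' ((w ⟨T.x4 p u, _⟩ : T.QA) : U)
    rw [hw.e4 (rsH hch α ⟨T.x4 p u, x4_A p u⟩) _ _ (h.e4 p u), hw.e4 ⟨T.x4 p u, x4_A p u⟩ p u rfl, h'.e4]
    simp only [RingEquiv.refl_apply, map_inv₀, map_mul, map_pow, hK.sq]
    congr 1 <;> field_simp
  · rename_i t
    show ((w (rsH hch α ⟨T.x5 t, _⟩) : T.QA) : U) = α' ((w ⟨T.x5 t, _⟩ : T.QA) : U)
    rw [hw.e5 (rsH hch α ⟨T.x5 t, x5_A t⟩) _ (h.e5 t), hw.e5 ⟨T.x5 t, x5_A t⟩ t rfl, h'.e3]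
    simp only [RingEquiv.refl_apply, map_inv₀, map_mul, map_pow, hK.sq]
    congr 1
    field_simp
  · rename_i p u
    show ((w (rsH hch α ⟨T.x6 p u, _⟩) : T.QA) : U) = α' ((w ⟨T.x6 p u, _⟩ : T.QA) : U)
    rw [hw.e6 (rsH hch α ⟨T.x6 p u, x6_A p u⟩) _ _ (h.e6 p u), hw.e6 ⟨T.x6 p u, x6_A p u⟩ p u rfl, h'.e2]
    simp only [RingEquiv.refl_apply, map_inv₀, map_mul, map_pow, hK.sq]
    congr 1 <;> field_simp
  · rename_i t
    show ((w (rsH hch α ⟨T.x7 t, _⟩) : T.QA) : U) = α' ((w ⟨T.x7 t, _⟩ : T.QA) : U)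
    rw [hw.e7 (rsH hch α ⟨T.x7 t, x7_A t⟩) _ (h.e7 t), hw.e7 ⟨T.x7 t, x7_A t⟩ t rfl, h'.e1]

/-- the torus elements with trivial action on `Z4` -/
theorem hs_of_fix (hK : HypK σ m) {d : MulAut U} {f g : K} {τ : K ≃+* K} (ht : T.IsTor d f g τ)
    (hfix : ∀ u, d (T.x4 0 u) = T.x4 0 u) :
    ∃ y : K, y ≠ 0 ∧ T.IsTor d (y * σ y) (σ y)⁻¹ (RingEquiv.refl K) := by
  have key : ∀ u, u = σ (f * g) * g * σ (σ (f * g) * g) * τ u := by
    intro u
    have e2 := hfix u
    rw [ht.e4, map_zero, mul_zero] at e2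
    exact (x4_inj T e2.symm).2
  have k1 := key 1
  rw [map_one, mul_one] at k1
  have hτ : τ = RingEquiv.refl K := by
    ext u
    have k2 := key u
    rw [← k1, one_mul] at k2
    exact k2.symm
  subst hτ
  have hχ : σ (f * g) * g = 1 := by
    have hx : σ (f * g) * g ≠ 0 := mul_ne_zero ((map_ne_zero σ).2 (mul_ne_zero ht.nf ht.ng)) ht.ng
    have h1 : σ (σ (f * g) * g) = (σ (f * g) * g)⁻¹ := eq_inv_of_mul_eq_one_right k1.symm
    have h2 := hK.sq (σ (f * g) * g)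
    rw [h1, map_inv₀, h1, inv_inv] at h2
    have h3 : (σ (f * g) * g) * ((σ (f * g) * g) - 1) = 0 := by linear_combination -h2
    rcases mul_eq_zero.1 h3 with h4 | h4
    · exact absurd h4 hx
    · exact sub_eq_zero.1 h4
  have hg : g = (σ (f * g))⁻¹ := eq_inv_of_mul_eq_one_right hχ
  refine ⟨f * g, mul_ne_zero ht.nf ht.ng, ?_⟩
  rw [← hg]
  have hf : f * g * σ (f * g) = f := by
    calc f * g * σ (f * g) = f * (σ (f * g) * g) := by ring
      _ = f := by rw [hχ, mul_one]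
  rw [hf]
  exact ht

/-- the torus -/
def TS (T : TF σ U) (hK : HypK σ m) : Subgroup (MulAut U) where
  carrier := {α | ∃ f g : K, T.IsTor α f g (RingEquiv.refl K)}
  mul_mem' := by
    rintro a b ⟨f, g, h⟩ ⟨f', g', h'⟩
    exact ⟨_, _, tor_mul T h h'⟩
  one_mem' := by
    obtain ⟨α, hα⟩ := Cfsg.Agent.H805.TF.exists_tor T hK 1 1 (RingEquiv.refl K) one_ne_zero one_ne_zero
    refine ⟨1, 1, ?_⟩
    rw [← tor_one T hα]
    exact hα
  inv_mem' := by
    rintro a ⟨f, g, h⟩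
    obtain ⟨α, hα⟩ := Cfsg.Agent.H805.TF.exists_tor T hK f⁻¹ g⁻¹ (RingEquiv.refl K) (inv_ne_zero h.nf) (inv_ne_zero h.ng)
    refine ⟨f⁻¹, g⁻¹, ?_⟩
    have h1 := tor_mul T h hα
    rw [mul_inv_cancel₀ h.nf, mul_inv_cancel₀ h.ng] at h1
    have h2 : a⁻¹ = α := inv_eq_of_mul_eq_one_right (tor_one T h1)
    rw [h2]
    exact hα

/-- the torus of `L_A` -/
def HS (T : TF σ U) (hK : HypK σ m) : Subgroup (MulAut U) where
  carrier := {α | ∃ y : K, y ≠ 0 ∧ T.IsTor α (y * σ y) (σ y)⁻¹ (RingEquiv.refl K)}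
  mul_mem' := by
    rintro a b ⟨y, hy, h⟩ ⟨z, hz, h'⟩
    refine ⟨y * z, mul_ne_zero hy hz, ?_⟩
    have h1 := tor_mul T h h'
    have e1 : y * σ y * (z * σ z) = y * z * σ (y * z) := by rw [map_mul]; ring
    have e2 : (σ y)⁻¹ * (σ z)⁻¹ = (σ (y * z))⁻¹ := by rw [map_mul, mul_inv]
    rw [e1, e2] at h1
    exact h1
  one_mem' := by
    obtain ⟨α, hα⟩ := Cfsg.Agent.H805.TF.exists_tor T hK 1 1 (RingEquiv.refl K) one_ne_zero one_ne_zero
    refine ⟨1, one_ne_zero, ?_⟩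
    rw [← tor_one T hα, map_one, inv_one, mul_one]
    exact hα
  inv_mem' := by
    rintro a ⟨y, hy, h⟩
    have hsy : σ y ≠ 0 := (map_ne_zero σ).2 hy
    obtain ⟨α, hα⟩ := Cfsg.Agent.H805.TF.exists_tor T hK (y * σ y)⁻¹ (σ y) (RingEquiv.refl K) (inv_ne_zero h.nf) hsy
    refine ⟨y⁻¹, inv_ne_zero hy, ?_⟩
    have h1 := tor_mul T h hα
    rw [mul_inv_cancel₀ h.nf, inv_mul_cancel₀ hsy] at h1
    have h2 : a⁻¹ = α := inv_eq_of_mul_eq_one_right (tor_one T h1)
    rw [h2, map_inv₀, inv_inv, ← mul_inv]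
    exact hα

/-- `y / σ y` takes all values -/
theorem exists_div (hK : HypK σ m) {c : K} (hc : c ≠ 0) : ∃ y : K, y ≠ 0 ∧ y * (σ y)⁻¹ = c := by
  have := hK.fin
  let f : Kˣ →* Kˣ := MonoidHom.id Kˣ * (Units.map (σ : K →* K))⁻¹
  have hf : ∀ x : Kˣ, ((f x : Kˣ) : K) = x * (σ x)⁻¹ := by
    intro x
    show ((x * (Units.map (σ : K →* K) x)⁻¹ : Kˣ) : K) = _
    rw [Units.val_mul, Units.val_inv_eq_inv_val]
    rfl
  have hinj : Function.Injective f := by
    rw [injective_iff_map_eq_one]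
    intro x hx
    have h1 := hf x
    rw [hx, Units.val_one] at h1
    have hx0 : σ (x : K) ≠ 0 := (map_ne_zero σ).2 x.ne_zero
    have h2 : σ (x : K) = x := by
      rw [eq_mul_inv_iff_mul_eq₀ hx0, one_mul] at h1
      exact h1
    have h3 := hK.sq (x : K)
    rw [h2, h2] at h3
    apply Units.ext
    have h4 : (x : K) * ((x : K) - 1) = 0 := by linear_combination -h3
    rcases mul_eq_zero.1 h4 with h5 | h5
    · exact absurd h5 x.ne_zero
    · exact sub_eq_zero.1 h5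
  obtain ⟨y, hy⟩ := (Finite.injective_iff_surjective.1 hinj) (Units.mk0 c hc)
  refine ⟨y, y.ne_zero, ?_⟩
  rw [← hf, hy]
  rfl

/-- the full torus lies in `D` -/
theorem tor_mem (hK : HypK σ m) {D : Subgroup (MulAut U)} (hA : T.HasA D) (hB : T.HasB D) {α : MulAut U} {f g : K}
    (h : T.IsTor α f g (RingEquiv.refl K)) : α ∈ D := by
  have hf := h.nf
  have hg := h.ng
  obtain ⟨y, hy, hyc⟩ := exists_div hK (mul_ne_zero hf (pow_ne_zero 2 hg))
  have hsy : σ y ≠ 0 := (map_ne_zero σ).2 hy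
  obtain ⟨α1, h1⟩ := Cfsg.Agent.H805.TF.exists_tor T hK (y * σ y) (σ y)⁻¹ (RingEquiv.refl K) (mul_ne_zero hy hsy)
    (inv_ne_zero hsy)
  have hz : g * σ y ≠ 0 := mul_ne_zero hg hsy
  obtain ⟨α2, h2⟩ := Cfsg.Agent.H805.TF.exists_tor T hK ((g * σ y) ^ 2)⁻¹ (g * σ y) (RingEquiv.refl K)
    (inv_ne_zero (pow_ne_zero 2 hz)) hz
  have h3 := tor_mul T h1 h2
  have e1 : y * σ y * ((g * σ y) ^ 2)⁻¹ = f := by
    have h4 : y * σ y * ((g * σ y) ^ 2)⁻¹ = (y * (σ y)⁻¹) * (g ^ 2)⁻¹ := by field_simp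
    rw [h4, hyc]
    field_simp
  have e2 : (σ y)⁻¹ * (g * σ y) = g := by field_simp
  rw [e1, e2] at h3
  rw [tor_unique T h h3]
  exact mul_mem (hA y hy α1 h1) (hB _ hz α2 h2)

end

end Cfsg.Agent.H240.TF
end

-- part: H240/TF/Gam
section
prune_inst 0xe0004000010002000000000020000040100000000040000000e003020a0040400d02000008200012080000800004006000000000000000000000000000010120800100029008000806008f000000000000000000000000000000000000000000000000000
set_option linter.all false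
open scoped Cfsg.Agent.FastGrp

-- part: H240/TF/SzQuot
section
/-!
# Groups with a TI Sylow 2-subgroup of Suzuki type
-/

set_option autoImplicit false

open Subgroup Cfsg Cfsg.Agent.ThreePrime Cfsg.Agent.H666

namespace Cfsg.Agent.H240.TF

/-- coordinates adapted to a Sylow 2-subgroup -/
theorem exists_rel_sylow {J : Type*} [Group J] [Finite J] (h : Cfsg.Lie.IsoSuzuki J) (P : Sylow 2 J) :
    ∃ (F : Type) (_ : Field F) (_ : Fintype F) (m : ℕ), 1 ≤ m ∧ Fintype.card F = 2 ^ (2 * m + 1) ∧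
      ∃ R : SzRel.Rel J F, R.T = (P : Subgroup J) := by
  have : Fact (Nat.Prime 2) := ⟨Nat.prime_two⟩
  obtain ⟨F, iF, iF', m, hm, hF, ⟨R₀⟩⟩ := SzRel.exists_rel h
  obtain ⟨P₀, hP₀⟩ := R₀.exists_sylow_eq hm hF
  obtain ⟨g, hg⟩ := MulAction.exists_smul_eq J P₀ P
  refine ⟨F, iF, iF', m, hm, hF, R₀.map (MulAut.conj g), ?_⟩
  rw [← hg, Sylow.coe_subgroup_smul, hP₀]
  ext x
  rw [Subgroup.mem_pointwise_smul_iff_inv_smul_mem]
  constructor
  · rintro ⟨a, b, rfl⟩
    refine ⟨a, b, ?_⟩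
    show (MulAut.conj g)⁻¹ (MulAut.conj g (R₀.u a b)) = _
    rw [MulAut.inv_apply_self]
  · rintro ⟨a, b, hab⟩
    refine ⟨a, b, ?_⟩
    show x = MulAut.conj g (R₀.u a b)
    rw [← hab]
    exact (MulAut.apply_inv_self J (MulAut.conj g) x).symm

/-- `T` is parametrised like the unipotent group of a Suzuki group -/
structure SzT {K : Type*} [Field K] (σ : K →+* K) {Q : Type*} [Group Q] (T : Subgroup Q) (y : K → K → Q) : Prop where
  two : (2 : K) = 0
  sq : ∀ x, σ (σ x) = x ^ 2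
  mul : ∀ p u r s, y p u * y r s = y (p + r) (u + s + p * σ r)
  inj : ∀ p u, y p u = 1 → p = 0 ∧ u = 0
  mem : ∀ g, g ∈ T ↔ ∃ p u, g = y p u

namespace SzT

variable {K : Type*} [Field K] {σ : K →+* K} {Q : Type*} [Group Q] {T : Subgroup Q} {y : K → K → Q} (h : SzT σ T y)
include h

theorem one : y 0 0 = 1 := by
  have h1 := h.mul 0 0 0 0
  simpa using h1

theorem mem' (p u : K) : y p u ∈ T := (h.mem _).2 ⟨p, u, rfl⟩

theorem addself (x : K) : x + x = 0 := by linear_combination x * h.two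

theorem inv (p u : K) : (y p u)⁻¹ = y p (u + p * σ p) := by
  rw [inv_eq_iff_mul_eq_one, h.mul, h.addself]
  rw [show u + (u + p * σ p) + p * σ p = (u + u) + (p * σ p + p * σ p) by ring, h.addself, h.addself, add_zero, h.one]

theorem eq_iff {p u r s : K} (e : y p u = y r s) : p = r ∧ u = s := by
  have h1 : y p u * (y r s)⁻¹ = 1 := by rw [e, mul_inv_cancel]
  rw [h.inv, h.mul] at h1
  obtain ⟨h2, h3⟩ := h.inj _ _ h1
  have h4 : p = r := by linear_combination h2 - r * h.two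
  subst h4
  refine ⟨rfl, ?_⟩
  linear_combination h3 - (s + p * σ p) * h.two

theorem sqr (p u : K) : y p u * y p u = y 0 (p * σ p) := by
  rw [h.mul, h.addself, h.addself, zero_add]

theorem z_comm (u r s : K) : y 0 u * y r s = y r s * y 0 u := by
  rw [h.mul, h.mul, map_zero, zero_mul, mul_zero, add_zero, add_zero, zero_add, add_zero, add_comm]

theorem comm_iff (p u r s : K) : y p u * y r s = y r s * y p u ↔ p * σ r = r * σ p := by
  rw [h.mul, h.mul]
  constructor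
  · intro e
    have := (h.eq_iff e).2
    linear_combination this
  · intro e
    rw [e]
    congr 1 <;> ring

theorem card_T [Finite K] : Nat.card T = Nat.card K ^ 2 := by
  rw [_root_.sq, ← Nat.card_prod]
  symm
  refine Nat.card_congr (Equiv.ofBijective (fun p : K × K => (⟨y p.1 p.2, h.mem' _ _⟩ : T)) ⟨?_, ?_⟩)
  · intro a b e
    obtain ⟨h1, h2⟩ := h.eq_iff (congrArg Subtype.val e)
    exact Prod.ext h1 h2
  · rintro ⟨g, hg⟩
    obtain ⟨p, u, rfl⟩ := (h.mem g).1 hg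
    exact ⟨(p, u), rfl⟩

/-- not all of `K` is fixed by `σ` -/
theorem exists_ne [Finite K] (h8 : 8 ≤ Nat.card K) : ∃ r : K, σ r ≠ r := by
  by_contra hcon
  push Not at hcon
  classical
  have := Fintype.ofFinite K
  have h1 : ∀ x : K, x ∈ ({0, 1} : Finset K) := by
    intro x
    have h2 := h.sq x
    rw [hcon, hcon] at h2
    have h3 : x * (x - 1) = 0 := by linear_combination -h2
    rcases mul_eq_zero.1 h3 with h4 | h4
    · simp only [h4, _root_.Finset.mem_insert, _root_.Finset.mem_singleton, _root_.zero_ne_one, _root_.or_false]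
    · simp only [sub_eq_zero.1 h4, _root_.Finset.mem_insert, _root_.one_ne_zero, _root_.Finset.mem_singleton, _root_.or_true]
  have h2 : Fintype.card K ≤ 2 := by
    rw [← Finset.card_univ]
    exact (Finset.card_le_card fun x _ => h1 x).trans Finset.card_le_two
  rw [Nat.card_eq_fintype_card] at h8
  omega

theorem mem_center [Finite K] (h8 : 8 ≤ Nat.card K) (x : T) : x ∈ center T ↔ ∃ u, (x : Q) = y 0 u := by
  constructor
  · intro hx
    obtain ⟨p, u, e⟩ := (h.mem _).1 x.2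
    have h1 : ∀ r, p * σ r = r * σ p := by
      intro r
      have h2 := mem_center_iff.1 hx ⟨y r 0, h.mem' r 0⟩
      have h3 := congrArg Subtype.val h2
      change y r 0 * (x : Q) = x * y r 0 at h3
      rw [e] at h3
      exact ((h.comm_iff _ _ _ _).1 h3).symm
    have h2 := h1 1
    rw [map_one, mul_one, one_mul] at h2
    obtain ⟨r, hr⟩ := h.exists_ne h8
    have h3 := h1 r
    rw [← h2] at h3
    have h4 : p * (σ r - r) = 0 := by linear_combination h3
    rcases mul_eq_zero.1 h4 with h5 | h5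
    · exact ⟨u, by rw [e, h5]⟩
    · exact absurd (sub_eq_zero.1 h5) hr
  · rintro ⟨u, e⟩
    rw [mem_center_iff]
    rintro ⟨g, hg⟩
    obtain ⟨r, s, rfl⟩ := (h.mem g).1 hg
    apply Subtype.ext
    show y r s * (x : Q) = x * y r s
    rw [e, h.z_comm]

theorem card_center [Finite K] (h8 : 8 ≤ Nat.card K) : Nat.card (center T) = Nat.card K := by
  symm
  refine Nat.card_congr (Equiv.ofBijective (fun u : K => (⟨⟨y 0 u, h.mem' _ _⟩, (h.mem_center h8 _).2 ⟨u, rfl⟩⟩ : center T)) ⟨?_, ?_⟩)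
  · intro a b e
    exact (h.eq_iff (congrArg (fun z : center T => ((z : T) : Q)) e)).2
  · rintro ⟨g, hg⟩
    obtain ⟨u, e⟩ := (h.mem_center h8 g).1 hg
    exact ⟨u, Subtype.ext (Subtype.ext e.symm)⟩

theorem isPGroup : IsPGroup 2 T := by
  rintro ⟨g, hg⟩
  obtain ⟨p, u, rfl⟩ := (h.mem g).1 hg
  refine ⟨2, Subtype.ext ?_⟩
  show y p u ^ (2 ^ 2) = 1
  rw [show (2 : ℕ) ^ 2 = 2 + 2 by norm_num, pow_add, pow_two, h.sqr, h.sqr, zero_mul, h.one]

end SzT

/-- in characteristic two the elements `x` of `SL₂` with `x ^ 4 = 1` satisfy `x ^ 2 = 1` -/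
theorem sl2_sq {F : Type*} [Field F] [CharP F 2] (x : Matrix.SpecialLinearGroup (Fin 2) F) (hx : x ^ 4 = 1) :
    x ^ 2 = 1 := by
  have h2 : (2 : F) = 0 := CharTwo.two_eq_zero
  have hdet : (x : Matrix (Fin 2) (Fin 2) F) 0 0 * (x : Matrix (Fin 2) (Fin 2) F) 1 1 -
      (x : Matrix (Fin 2) (Fin 2) F) 0 1 * (x : Matrix (Fin 2) (Fin 2) F) 1 0 = 1 := by
    rw [← Matrix.det_fin_two, x.2]
  set a := (x : Matrix (Fin 2) (Fin 2) F) 0 0
  set b := (x : Matrix (Fin 2) (Fin 2) F) 0 1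
  set c := (x : Matrix (Fin 2) (Fin 2) F) 1 0
  set d := (x : Matrix (Fin 2) (Fin 2) F) 1 1
  have hsq : ∀ (g : Matrix.SpecialLinearGroup (Fin 2) F), ((g ^ 2 : Matrix.SpecialLinearGroup (Fin 2) F) : Matrix (Fin 2) (Fin 2) F) =
      !![(g : Matrix (Fin 2) (Fin 2) F) 0 0 ^ 2 + (g : Matrix (Fin 2) (Fin 2) F) 0 1 * (g : Matrix (Fin 2) (Fin 2) F) 1 0,
        (g : Matrix (Fin 2) (Fin 2) F) 0 1 * ((g : Matrix (Fin 2) (Fin 2) F) 0 0 + (g : Matrix (Fin 2) (Fin 2) F) 1 1);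
        (g : Matrix (Fin 2) (Fin 2) F) 1 0 * ((g : Matrix (Fin 2) (Fin 2) F) 0 0 + (g : Matrix (Fin 2) (Fin 2) F) 1 1),
        (g : Matrix (Fin 2) (Fin 2) F) 1 1 ^ 2 + (g : Matrix (Fin 2) (Fin 2) F) 0 1 * (g : Matrix (Fin 2) (Fin 2) F) 1 0] := by
    intro g
    rw [pow_two, Matrix.SpecialLinearGroup.coe_mul]
    ext i j
    (revert i j; simp only [Matrix.mul_apply, Fin.sum_univ_two, _root_.Fin.forall_fin_succ, Fin.isValue, _root_.Matrix.of_apply, _root_.Matrix.cons_val', _root_.Matrix.cons_val_fin_one, _root_.Matrix.cons_val_zero, _root_.Matrix.cons_val_succ, _root_.Fin.succ_zero_eq_one, _root_.IsEmpty.forall_iff, _root_.and_true, _root_.add_left_inj]) <;> (repeat' with_reducible apply And.intro) <;> ring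
  -- trace of `x ^ 4` is `(trace x) ^ 4`
  have h4 : ((x ^ 2) ^ 2 : Matrix.SpecialLinearGroup (Fin 2) F) = 1 := by rw [← pow_mul]; exact hx
  have e := hsq (x ^ 2)
  rw [h4, hsq x] at e
  have e00 := congrFun (congrFun e 0) 0
  have e11 := congrFun (congrFun e 1) 1
  simp only [Matrix.SpecialLinearGroup.coe_one, Matrix.one_apply_eq, Matrix.of_apply, Matrix.cons_val', Matrix.cons_val_zero,
    Matrix.cons_val_one, Matrix.cons_val_fin_one] at e00 e11
  have htr : (a + d) ^ 4 = 0 := by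
    have h5 : (a ^ 2 + b * c) ^ 2 + (d ^ 2 + b * c) ^ 2 + 2 * (b * (a + d) * (c * (a + d))) = 2 := by
      linear_combination -e00 - e11
    linear_combination h5 + (2 * a ^ 3 * d + 3 * a ^ 2 * d ^ 2 + 2 * a * d ^ 3 - a ^ 2 * b * c - 2 * a * b * c * d
      - b * c * d ^ 2 - (b * c) ^ 2 - a ^ 2 * b * c - b * c * d ^ 2 + 1) * h2
  have had : a + d = 0 := pow_eq_zero_iff (by norm_num) |>.1 htr
  have hda : d = a := by linear_combination had - a * h2
  apply Subtype.ext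
  rw [hsq x]
  ext i j
  fin_cases i <;> fin_cases j <;> simp only [_root_.Fin.isValue, _root_.Fin.zero_eta, _root_.Matrix.of_apply, _root_.Matrix.cons_val', _root_.Matrix.cons_val_zero, _root_.Matrix.cons_val_fin_one, _root_.Matrix.SpecialLinearGroup.coe_one, _root_.Matrix.one_apply_eq, _root_.Fin.mk_one, _root_.Matrix.cons_val_one, _root_.Nat.reduceAdd, _root_.ne_eq, _root_.zero_ne_one, _root_.not_false_eq_true, _root_.Matrix.one_apply_ne, _root_.mul_eq_zero, _root_.one_ne_zero]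
  · show a ^ 2 + b * c = 1
    rw [hda] at hdet
    linear_combination hdet + (b * c) * h2
  · right; exact had
  · right; exact had
  · show d ^ 2 + b * c = 1
    rw [hda] at hdet ⊢
    linear_combination hdet + (b * c) * h2

section main

variable {Q : Type*} [Group Q] [Finite Q] {K : Type*} [Field K] [Finite K] {σ : K →+* K} {y : K → K → Q}

theorem eq_one_of_odd {O T : Subgroup Q} (hO : (Nat.card O).Coprime 2) (hT : IsPGroup 2 T) {x : Q} (h1 : x ∈ O) (h2 : x ∈ T) :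
    x = 1 := by
  have h3 : orderOf x ∣ Nat.card O := O.orderOf_dvd_natCard h1
  obtain ⟨k, hk⟩ := hT ⟨x, h2⟩
  have hk' : x ^ 2 ^ k = 1 := congrArg Subtype.val hk
  have h4 : orderOf x ∣ 2 ^ k := orderOf_dvd_of_pow_eq_one hk'
  have h5 : Nat.Coprime (Nat.card O) (2 ^ k) := Nat.Coprime.pow_right k hO
  have h6 : orderOf x ∣ 1 := by
    rw [← h5.gcd_eq_one]
    exact Nat.dvd_gcd h3 h4
  exact orderOf_eq_one_iff.1 (Nat.dvd_one.1 h6)

/-- normal subgroups of odd order centralise `T` -/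
theorem odd_comm (T : Sylow 2 Q) (hTI : TI.IsTI 2 Q) (h : SzT σ (T : Subgroup Q) y) (h8 : 8 ≤ Nat.card K)
    {O : Subgroup Q} [hn : O.Normal] (hO : (Nat.card O).Coprime 2) {c : Q} (hc : c ∈ O) {t : Q} (ht : t ∈ T) :
    c * t = t * c := by
  classical
  -- the centre of `T`
  let Z : Subgroup Q :=
    { carrier := {g | ∃ u, g = y 0 u}
      mul_mem' := by
        rintro _ _ ⟨u, rfl⟩ ⟨v, rfl⟩
        refine ⟨u + v, ?_⟩
        rw [h.mul]
        congr 1 <;> ring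
      one_mem' := ⟨0, h.one.symm⟩
      inv_mem' := by
        rintro _ ⟨u, rfl⟩
        exact ⟨u, by rw [h.inv]; congr 1; ring⟩ }
  have hZT : Z ≤ (T : Subgroup Q) := by
    rintro _ ⟨u, rfl⟩
    exact h.mem' 0 u
  have hZc : IsMulCommutative Z := by
    refine ⟨⟨?_⟩⟩
    rintro ⟨_, u, rfl⟩ ⟨_, v, rfl⟩
    exact Subtype.ext (h.z_comm u 0 v)
  have hZcard : Nat.card Z = Nat.card K := by
    symm
    refine Nat.card_congr (Equiv.ofBijective (fun u : K => (⟨y 0 u, u, rfl⟩ : Z)) ⟨?_, ?_⟩)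
    · intro a b e
      exact (h.eq_iff (congrArg Subtype.val e)).2
    · rintro ⟨_, u, rfl⟩
      exact ⟨u, rfl⟩
  have hZn : ¬ IsCyclic Z := by
    intro hcyc
    obtain ⟨g, hg⟩ := hcyc.exists_generator
    have h1 : orderOf g = Nat.card Z := orderOf_eq_card_of_forall_mem_zpowers hg
    have h2 : g ^ 2 = 1 := by
      obtain ⟨_, u, rfl⟩ := g
      apply Subtype.ext
      show y 0 u ^ 2 = 1
      rw [pow_two, h.sqr, zero_mul, h.one]
    have h3 : orderOf g ≤ 2 := Nat.le_of_dvd two_pos (orderOf_dvd_of_pow_eq_one h2)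
    omega
  have hcop : (Nat.card Z).Coprime (Nat.card O) := by
    obtain ⟨k, hk⟩ := (IsPGroup.iff_card (p := 2)).1 (T.2.to_le hZT)
    rw [hk]
    exact (Nat.Coprime.pow_right k hO).symm
  have hgen := Cfsg.Agent.S0058.result Z O hZn (by rw [normalizer_eq_top_iff.2 hn]; exact le_top) hcop
  have hle : O ≤ centralizer ((T : Subgroup Q) : Set Q) := by
    rw [← hgen]
    refine iSup₂_le fun a ha => ?_
    rintro x ⟨hxO, hxa⟩
    have hax : x * a = a * x := (mem_centralizer_singleton_iff.1 hxa)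
    have hxN : x ∈ normalizer ((T : Subgroup Q) : Set Q) := by
      refine Sylow.smul_eq_iff_mem_normalizer.1 ?_
      refine hTI.sylow_eq (x := a) ?_ (hZT ha.1) ha.2
      show a ∈ ((x • T : Sylow 2 Q) : Subgroup Q)
      rw [Sylow.coe_subgroup_smul]
      refine ⟨a, hZT ha.1, ?_⟩
      show x * a * x⁻¹ = a
      rw [hax]; group
    rw [mem_centralizer_iff]
    intro t ht
    have h1 : x * t * x⁻¹ * t⁻¹ = 1 := by
      refine eq_one_of_odd hO T.2 ?_ ?_
      · have h2 : t * x⁻¹ * t⁻¹ ∈ O := hn.conj_mem _ (inv_mem hxO) t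
        have h3 : x * t * x⁻¹ * t⁻¹ = x * (t * x⁻¹ * t⁻¹) := by group
        rw [h3]
        exact mul_mem hxO h2
      · exact mul_mem ((mem_normalizer_iff.1 hxN t).1 ht) (inv_mem ht)
    have h2 : x * t * x⁻¹ = t := by rw [← mul_inv_eq_one]; exact h1
    rw [mul_inv_eq_iff_eq_mul] at h2
    exact h2.symm
  exact (mem_centralizer_iff.1 (hle hc) t ht).symm

end main

end Cfsg.Agent.H240.TF
end

-- part: H240/TF/IsoSuz
section
/-!
# Groups with a TI Sylow 2-subgroup of Suzuki type are of Suzuki type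
-/

set_option autoImplicit false

open Subgroup Cfsg Cfsg.Agent.ThreePrime Cfsg.Agent.H666

namespace Cfsg.Agent.H240.TF

section main

variable {Q : Type*} [Group Q] [Finite Q] {K : Type*} [Field K] [Finite K] {σ : K →+* K} {y : K → K → Q}

/-- the Sylow 2-subgroups of a section -/
theorem exists_syl (P : Sylow 2 Q) (N : Subgroup Q) [N.Normal] (hN : (Nat.card N).Coprime 2) (L : Subgroup (Q ⧸ N))
    (hPL : (P : Subgroup Q).map (QuotientGroup.mk' N) ≤ L) {J : Type*} [Group J] (e : L ≃* J) :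
    ∃ R : Sylow 2 J, Nonempty ((P : Subgroup Q) ≃* (R : Subgroup J)) := by
  have : Fact (Nat.Prime 2) := ⟨Nat.prime_two⟩
  let P1 : Sylow 2 (Q ⧸ N) := P.mapSurjective (QuotientGroup.mk'_surjective N)
  let Q0 : Sylow 2 L := P1.subtype hPL
  let R : Sylow 2 J := Q0.mapSurjective (f := e.toMonoidHom) e.surjective
  refine ⟨R, ⟨?_⟩⟩
  have e1 : (P : Subgroup Q) ≃* (P : Subgroup Q).map (QuotientGroup.mk' N) :=
    MulEquiv.ofBijective ((QuotientGroup.mk' N).subgroupMap (P : Subgroup Q))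
      ⟨by
        rw [injective_iff_map_eq_one]
        rintro ⟨x, hx⟩ h
        have h1 : (QuotientGroup.mk' N) x = 1 := congrArg Subtype.val h
        rw [QuotientGroup.mk'_apply, QuotientGroup.eq_one_iff] at h1
        exact Subtype.ext (eq_one_of_odd hN P.2 h1 hx),
      (QuotientGroup.mk' N).subgroupMap_surjective _⟩
  have e2 : (Q0 : Subgroup L) ≃* (P : Subgroup Q).map (QuotientGroup.mk' N) := Subgroup.subgroupOfEquivOfLe hPL
  exact (e1.trans e2.symm).trans (e.subgroupMap (Q0 : Subgroup L))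

omit [Finite Q] in
theorem sylow_le_closure (P : Sylow 2 Q) : (P : Subgroup Q) ≤ pElementClosure 2 (⊤ : Subgroup Q) := by
  intro y hy
  obtain ⟨k, hk⟩ := (IsPGroup.iff_orderOf.1 P.2) ⟨y, hy⟩
  rw [Subgroup.orderOf_mk] at hk
  exact subset_closure ⟨mem_top _, k, hk⟩

theorem map_closure_eq (P : Sylow 2 Q) (N : Subgroup Q) [N.Normal] :
    (pElementClosure 2 (⊤ : Subgroup Q)).map (QuotientGroup.mk' N) = pElementClosure 2 (⊤ : Subgroup (Q ⧸ N)) := by
  have : Fact (Nat.Prime 2) := ⟨Nat.prime_two⟩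
  apply le_antisymm
  · rw [pElementClosure, MonoidHom.map_closure, closure_le]
    rintro _ ⟨x, ⟨-, k, hk⟩, rfl⟩
    apply Subgroup.subset_closure
    refine ⟨mem_top _, ?_⟩
    have : orderOf (QuotientGroup.mk' N x) ∣ 2 ^ k := by
      rw [← hk]
      exact orderOf_map_dvd (QuotientGroup.mk' N) x
    obtain ⟨j, -, hj⟩ := (Nat.dvd_prime_pow Nat.prime_two).1 this
    exact ⟨j, hj⟩
  · rw [pElementClosure, closure_le]
    rintro z ⟨-, k, hk⟩
    obtain ⟨P', hP'⟩ := IsPGroup.exists_le_sylow (p := 2) (P := zpowers z) (by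
      have h1 : Nat.card (zpowers z) = 2 ^ k := by rw [Nat.card_zpowers, hk]
      exact IsPGroup.of_card h1)
    let P1 : Sylow 2 (Q ⧸ N) := P.mapSurjective (QuotientGroup.mk'_surjective N)
    obtain ⟨g, hg⟩ := MulAction.exists_smul_eq (Q ⧸ N) P1 P'
    have hz : z ∈ ((g • P1 : Sylow 2 (Q ⧸ N)) : Subgroup (Q ⧸ N)) := by
      rw [hg]
      exact hP' (mem_zpowers z)
    rw [Sylow.coe_subgroup_smul] at hz
    obtain ⟨_, ⟨p, hp, rfl⟩, hw⟩ := hz
    obtain ⟨g', rfl⟩ := QuotientGroup.mk'_surjective N g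
    refine ⟨g' * p * g'⁻¹, ?_, ?_⟩
    · have h3 := sylow_le_closure (g' • P)
      apply h3
      rw [Sylow.coe_subgroup_smul]
      exact ⟨p, hp, rfl⟩
    · rw [map_mul, map_mul, map_inv]
      exact hw

/-- the isomorphism type of `O^{2'}(Q)` -/
theorem iso_suz (T : Sylow 2 Q) (hTI : TI.IsTI 2 Q) (hN : normalizer ((T : Subgroup Q) : Set Q) ≠ ⊤)
    (h : SzT σ (T : Subgroup Q) y) (h8 : 8 ≤ Nat.card K)
    (hcen : ∀ c ∈ pElementClosure 2 (⊤ : Subgroup Q), (∀ t ∈ (T : Subgroup Q), c * t = t * c) → c ∈ (T : Subgroup Q)) :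
    Cfsg.Lie.IsoSuzuki ↥(pElementClosure 2 (⊤ : Subgroup Q)) := by
  classical
  have : Fact (Nat.Prime 2) := ⟨Nat.prime_two⟩
  have hO : (Nat.card (pPrimeCore 2 Q)).Coprime 2 := Lib.Cores.pPrimeCore_coprime 2
  have hOn : (pPrimeCore 2 Q).Normal := Lib.Cores.pPrimeCore_normal 2
  have hT1 : (T : Subgroup Q) ≠ ⊥ := by
    intro e
    have h1 := h.card_T
    rw [e, Subgroup.card_bot] at h1
    nlinarith only [h8, h1]
  have hmap : (T : Subgroup Q).map (QuotientGroup.mk' (pPrimeCore 2 Q)) ≤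
      pElementClosure 2 (⊤ : Subgroup (Q ⧸ pPrimeCore 2 Q)) := by
    rw [← map_closure_eq T]
    exact map_mono (sylow_le_closure T)
  rcases Cfsg.Agent.S2798.result _ (Link.stronglyP hTI T hT1 hN) with h1 | ⟨F, iF, iF', hchar, h4, ⟨e⟩⟩ |
    ⟨F, iF, iF', q, hq, hq4, hF, ⟨e⟩⟩ | hs
  · -- one class of involutions with unique involution in the centraliser
    exfalso
    have h01 : y 0 1 ≠ 1 := fun e => one_ne_zero (h.inj _ _ e).2
    have hord : ∀ b : K, b ≠ 0 → orderOf (y 0 b) = 2 := by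
      intro b hb
      refine orderOf_eq_prime ?_ fun e => hb (h.inj _ _ e).2
      rw [pow_two, h.sqr, zero_mul, h.one]
    obtain ⟨b, hb0, hb1⟩ : ∃ b : K, b ≠ 0 ∧ b ≠ 1 := by
      by_contra hcon
      push Not at hcon
      have := Fintype.ofFinite K
      have h2 : Fintype.card K ≤ 2 := by
        rw [← Finset.card_univ]
        refine (Finset.card_le_card (t := ({0, 1} : Finset K)) fun x _ => ?_).trans Finset.card_le_two
        by_cases hx : x = 0
        · simp only [hx, _root_.Finset.mem_insert, _root_.Finset.mem_singleton, _root_.zero_ne_one, _root_.or_false]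
        · simp only [hcon x hx, _root_.Finset.mem_insert, _root_.one_ne_zero, _root_.Finset.mem_singleton, _root_.or_true]
      rw [Nat.card_eq_fintype_card] at h8
      omega
    have h2 := (h1 (y 0 1) (hord 1 one_ne_zero)).2 (y 0 b) ?_ (hord b hb0)
    · exact hb1 (h.eq_iff h2).2
    · rw [mem_centralizer_singleton_iff]
      exact h.z_comm _ _ _
  · exfalso
    have hx : QuotientGroup.mk' (pPrimeCore 2 Q) (y 1 0) ∈ pElementClosure 2 (⊤ : Subgroup (Q ⧸ pPrimeCore 2 Q)) :=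
      hmap ⟨_, h.mem' _ _, rfl⟩
    have h2 : y 1 0 ^ 2 = y 0 1 := by rw [pow_two, h.sqr, map_one, mul_one]
    have h4' : y 1 0 ^ 4 = 1 := by
      rw [show (4 : ℕ) = 2 * 2 by norm_num, pow_mul, h2, pow_two, h.sqr, zero_mul, h.one]
    have h5 : (e ⟨_, hx⟩) ^ 4 = 1 := by
      rw [← map_pow, ← map_one e]
      congr 1
      apply Subtype.ext
      show (QuotientGroup.mk' (pPrimeCore 2 Q) (y 1 0)) ^ 4 = 1
      rw [← map_pow, h4', map_one]
    have h6 := sl2_sq _ h5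
    rw [← map_pow, ← map_one e] at h6
    have h7 := congrArg Subtype.val (e.injective h6)
    change (QuotientGroup.mk' (pPrimeCore 2 Q) (y 1 0)) ^ 2 = 1 at h7
    rw [← map_pow, h2, QuotientGroup.mk'_apply, QuotientGroup.eq_one_iff] at h7
    have h8 := eq_one_of_odd hO T.2 h7 (h.mem' 0 1)
    exact one_ne_zero (h.inj _ _ h8).2
  · exfalso
    have hchar2 : CharP F 2 := by
      obtain ⟨p, hp⟩ := CharP.exists F
      have hpp : Fact p.Prime := ⟨CharP.char_is_prime F p⟩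
      obtain ⟨n, hn⟩ := FiniteField.card F p
      have h2 : 2 ∣ p ^ (n : ℕ) := by
        rw [← hn.2, hF]
        exact (even_iff_two_dvd.1 hq).trans (dvd_pow_self q two_ne_zero)
      have h3 : 2 = p := (Nat.prime_dvd_prime_iff_eq Nat.prime_two hpp.out).1 (Nat.prime_two.dvd_of_dvd_pow h2)
      rw [h3]
      exact hp
    obtain ⟨n, hn⟩ := FiniteField.card F 2
    have h2 : q ∣ 2 ^ (n : ℕ) := by rw [← hn.2, hF]; exact dvd_pow_self q two_ne_zero
    obtain ⟨k, -, hk⟩ := (Nat.dvd_prime_pow Nat.prime_two).1 h2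
    subst hk
    have hk2 : 2 ≤ k := by
      by_contra hlt
      have : k ≤ 1 := by omega
      have h3 : 2 ^ k ≤ 2 ^ 1 := Nat.pow_le_pow_right two_pos this
      omega
    obtain ⟨S, ⟨f⟩⟩ := exists_syl T _ hO _ hmap e
    obtain ⟨h3, h5, -⟩ := Cfsg.Agent.S1141.result hk2 hF S
    have h6 : Nat.card K ^ 2 = (2 ^ k) ^ 3 := by
      rw [← h3, ← Nat.card_congr f.toEquiv, h.card_T]
    have h7 : Nat.card K = 2 ^ k := by
      rw [← h5, ← h.card_center h8]
      exact Nat.card_congr (Subgroup.centerCongr f).toEquiv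
    rw [h7] at h6
    have h9 : 0 < 2 ^ k := by positivity
    have h10 : (2 ^ k) ^ 2 * 2 ^ k = (2 ^ k) ^ 2 * 1 := by rw [mul_one, ← pow_succ]; exact h6.symm
    have h11 := Nat.eq_of_mul_eq_mul_left (by positivity) h10
    omega
  · -- the Suzuki groups
    obtain ⟨F, iF, iF', m, h1, h2, ⟨e⟩⟩ := hs
    refine ⟨F, iF, iF', m, h1, h2, ⟨?_⟩⟩
    refine MulEquiv.trans ?_ e
    refine (MulEquiv.ofBijective ((QuotientGroup.mk' (pPrimeCore 2 Q)).subgroupMap (pElementClosure 2 (⊤ : Subgroup Q)))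
      ⟨?_, (QuotientGroup.mk' (pPrimeCore 2 Q)).subgroupMap_surjective _⟩).trans (MulEquiv.subgroupCongr (map_closure_eq T _))
    rw [injective_iff_map_eq_one]
    rintro ⟨x, hx⟩ h1
    have h2 : (QuotientGroup.mk' (pPrimeCore 2 Q)) x = 1 := congrArg Subtype.val h1
    rw [QuotientGroup.mk'_apply, QuotientGroup.eq_one_iff] at h2
    have h3 := hcen x hx fun t ht => odd_comm T hTI h h8 hO h2 ht
    exact Subtype.ext (eq_one_of_odd hO T.2 h2 h3)

end main

end Cfsg.Agent.H240.TF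
end

-- part: H240/TF/SzLift
section
/-!
# Counting, Schur-Zassenhaus and lifts
-/

set_option autoImplicit false

open Subgroup Cfsg Cfsg.Agent.ThreePrime Cfsg.Agent.H666

namespace Cfsg.Agent.H240.TF

/-- counting -/
theorem exists_of_card {α β : Type*} [Finite β] (hc : Nat.card α = Nat.card β) (h0 : 0 < Nat.card α) (P : α → β → Prop)
    (h1 : ∀ a, ∃ b, P a b) (h2 : ∀ a a' b, P a b → P a' b → a = a') (b : β) : ∃ a, P a b := by
  classical
  choose f hf using h1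
  have hinj : Function.Injective f := fun a a' e => h2 a a' (f a) (hf a) (by rw [e]; exact hf a')
  have : Finite α := Nat.finite_of_card_ne_zero h0.ne'
  obtain ⟨a, rfl⟩ := ((Nat.bijective_iff_injective_and_card f).2 ⟨hinj, hc⟩).2 b
  exact ⟨a, hf a⟩

/-- Schur-Zassenhaus: conjugacy of complements -/
theorem sz_conj {G : Type*} [Group G] [Finite G] {I S S' : Subgroup G} (hI : IsPGroup 2 I) (hS : (Nat.card S).Coprime 2)
    (hS' : (Nat.card S').Coprime 2) (hN : S ≤ normalizer (I : Set G)) (h : S' ⊔ I = S ⊔ I) :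
    ∃ i ∈ I, ∀ x, x ∈ S' ↔ i * x * i⁻¹ ∈ S := by
  have : Fact (Nat.Prime 2) := ⟨Nat.prime_two⟩
  obtain ⟨k, hk⟩ := (IsPGroup.iff_card (p := 2)).1 hI
  set H := S ⊔ I with hH
  have hIH : I ≤ H := le_sup_right
  have hSH : S ≤ H := le_sup_left
  have hS'H : S' ≤ H := h ▸ le_sup_left
  have hHN : H ≤ normalizer (I : Set G) := sup_le hN le_normalizer
  have hIn : (I.subgroupOf H).Normal := (normal_subgroupOf_iff_le_normalizer hIH).2 hHN
  have hcI : Nat.card (I.subgroupOf H) = 2 ^ k := by rw [← hk]; exact Nat.card_congr (subgroupOfEquivOfLe hIH).toEquiv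
  have hcop : ∀ {R : Subgroup G}, (Nat.card R).Coprime 2 → R ≤ H → R ⊔ I = H →
      IsComplement' (I.subgroupOf H) (R.subgroupOf H) := by
    intro R hR hRH hRI
    have hd : Disjoint (I.subgroupOf H) (R.subgroupOf H) := by
      rw [disjoint_iff, eq_bot_iff]
      rintro ⟨x, hxH⟩ ⟨hx1, hx2⟩
      exact Subtype.ext (eq_one_of_odd hR hI (show x ∈ R from hx2) (show x ∈ I from hx1))
    refine isComplement'_of_disjoint_and_mul_eq_univ hd ?_
    rw [← Subgroup.normal_mul, ← subgroupOf_sup hIH hRH, sup_comm, hRI, subgroupOf_self, coe_top]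
  have c1 := hcop hS hSH rfl
  have c2 := hcop hS' hS'H h
  have hidx : (I.subgroupOf H).index = Nat.card S := by
    rw [c1.symm.index_eq_card]
    exact Nat.card_congr (subgroupOfEquivOfLe hSH).toEquiv
  obtain ⟨g, hg⟩ := Cfsg.Agent.S0001.result (I.subgroupOf H) (by
      rw [hcI, hidx]
      exact (Nat.Coprime.pow_right k hS).symm) (Or.inl (by
        have h1 : IsPGroup 2 (I.subgroupOf H) := IsPGroup.of_card hcI
        have := h1.isNilpotent
        infer_instance)) (S'.subgroupOf H) (S.subgroupOf H) c2 c1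
  -- split `g`
  have hg' : (g : G) ∈ S ⊔ I := g.2
  rw [← SetLike.mem_coe, coe_mul_of_left_le_normalizer_right _ _ hN] at hg'
  obtain ⟨s, hs, i, hi, hsi⟩ := hg'
  change s * i = (g : G) at hsi
  refine ⟨i, hi, fun x => ?_⟩
  have key : ∀ x : H, x ∈ S'.subgroupOf H ↔ g * x * g⁻¹ ∈ S.subgroupOf H := by
    intro x
    rw [← hg, mem_pointwise_smul_iff_inv_smul_mem]
    have e : (MulAut.conj g)⁻¹ • (g * x * g⁻¹) = x := by
      show (MulAut.conj g)⁻¹ (MulAut.conj g x) = x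
      exact MulAut.inv_apply_self _ _ _
    rw [e]
  have hs' : ∀ z : G, s * z * s⁻¹ ∈ S ↔ z ∈ S := by
    intro z
    constructor
    · intro h1
      have h2 := mul_mem (mul_mem (inv_mem hs) h1) hs
      have h3 : s⁻¹ * (s * z * s⁻¹) * s = z := by group
      rwa [h3] at h2
    · intro h1
      exact mul_mem (mul_mem hs h1) (inv_mem hs)
  constructor
  · intro hx
    have h1 := (key ⟨x, hS'H hx⟩).1 hx
    have h2 : (g : G) * x * (g : G)⁻¹ ∈ S := h1
    rw [← hsi] at h2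
    have h3 : s * i * x * (s * i)⁻¹ = s * (i * x * i⁻¹) * s⁻¹ := by group
    rw [h3, hs'] at h2
    exact h2
  · intro hx
    have hxH : x ∈ H := by
      have h1 : x = i⁻¹ * (i * x * i⁻¹) * i := by group
      rw [h1]
      exact mul_mem (mul_mem (inv_mem (hIH hi)) (hSH hx)) (hIH hi)
    refine (key ⟨x, hxH⟩).2 ?_
    show (g : G) * x * (g : G)⁻¹ ∈ S
    rw [← hsi]
    have h3 : s * i * x * (s * i)⁻¹ = s * (i * x * i⁻¹) * s⁻¹ := by group
    rw [h3, hs']
    exact hx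

/-- lifts of elements inducing a given map on a group of odd order -/
theorem exists_lift {G : Type*} [Group G] [Finite G] (I : Subgroup G) [I.Normal] (hI : IsPGroup 2 I) (S : Subgroup G)
    (hS : (Nat.card S).Coprime 2) (n : G ⧸ I) (ν : G → G) (hν : ∀ s ∈ S, ν s ∈ S)
    (hn : ∀ s ∈ S, n * (s : G ⧸ I) * n⁻¹ = (ν s : G)) :
    ∃ m : G, (m : G ⧸ I) = n ∧ ∀ s ∈ S, m * s * m⁻¹ = ν s := by
  obtain ⟨m₀, rfl⟩ := QuotientGroup.mk_surjective n
  set S' : Subgroup G := S.map (MulAut.conj m₀).toMonoidHom with hS'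
  have hcard : Nat.card S' = Nat.card S := Nat.card_congr (S.equivMapOfInjective _ (MulAut.conj m₀).injective).symm.toEquiv
  have hle : S' ⊔ I ≤ S ⊔ I := by
    refine sup_le ?_ le_sup_right
    rintro _ ⟨s, hs, rfl⟩
    have h1 := hn s hs
    have h2 : ((ν s)⁻¹ * (m₀ * s * m₀⁻¹) : G) ∈ I := by
      rw [← QuotientGroup.eq_one_iff]
      simp only [QuotientGroup.mk_mul, QuotientGroup.mk_inv]
      rw [h1, inv_mul_cancel]
    have h3 : (MulAut.conj m₀).toMonoidHom s = ν s * ((ν s)⁻¹ * (m₀ * s * m₀⁻¹)) := by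
      rw [mul_inv_cancel_left]; rfl
    rw [h3]
    exact mul_mem (le_sup_left (a := S) (hν s hs)) (le_sup_right (a := S) h2)
  have hcc : ∀ R : Subgroup G, (Nat.card R).Coprime 2 → Nat.card (R ⊔ I : Subgroup G) = Nat.card R * Nat.card I := by
    intro R hR
    rw [← Nat.card_prod]
    symm
    refine Nat.card_congr (Equiv.ofBijective (fun p : R × I => (⟨(p.1 : G) * (p.2 : G),
      mul_mem (le_sup_left (a := R) p.1.2) (le_sup_right (a := R) p.2.2)⟩ : (R ⊔ I : Subgroup G))) ⟨?_, ?_⟩)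
    · rintro ⟨r, i⟩ ⟨r', i'⟩ e
      have e1 : (r : G) * i = r' * i' := congrArg Subtype.val e
      have e2 : (r' : G)⁻¹ * r = i' * (i : G)⁻¹ := by
        rw [inv_mul_eq_iff_eq_mul, ← mul_assoc, ← e1, mul_inv_cancel_right]
      have e3 := eq_one_of_odd hR hI (mul_mem (inv_mem r'.2) r.2) (e2 ▸ mul_mem i'.2 (inv_mem i.2))
      have e4 : r = r' := Subtype.ext (inv_mul_eq_one.1 e3).symm
      subst e4
      exact Prod.ext rfl (Subtype.ext (mul_left_cancel e1))
    · rintro ⟨x, hx⟩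
      have hx' := hx
      rw [← SetLike.mem_coe, Subgroup.mul_normal] at hx'
      obtain ⟨r, hr, i, hi, e⟩ := hx'
      exact ⟨(⟨r, hr⟩, ⟨i, hi⟩), Subtype.ext e⟩
  have hS'c : (Nat.card S').Coprime 2 := by rw [hcard]; exact hS
  have heq : S' ⊔ I = S ⊔ I := by
    refine eq_of_le_of_card_ge hle ?_
    rw [hcc S hS, hcc S' hS'c, hcard]
  obtain ⟨i, hi, hii⟩ := sz_conj hI hS hS'c (by rw [normalizer_eq_top_iff.2 inferInstance]; exact le_top) heq
  refine ⟨i * m₀, ?_, fun s hs => ?_⟩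
  · rw [QuotientGroup.mk_mul, (QuotientGroup.eq_one_iff i).2 hi, one_mul]
  · have h1 : i * (m₀ * s * m₀⁻¹) * i⁻¹ ∈ S := (hii _).1 ⟨s, hs, rfl⟩
    have h2 : (ν s)⁻¹ * (i * (m₀ * s * m₀⁻¹) * i⁻¹) ∈ I := by
      rw [← QuotientGroup.eq_one_iff]
      simp only [QuotientGroup.mk_mul, QuotientGroup.mk_inv]
      rw [(QuotientGroup.eq_one_iff i).2 hi, one_mul, inv_one, mul_one, hn s hs, inv_mul_cancel]
    have h3 := eq_one_of_odd hS hI (mul_mem (inv_mem (hν s hs)) h1) h2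
    rw [inv_mul_eq_one] at h3
    rw [h3]
    group

end Cfsg.Agent.H240.TF
end

-- part: H240/TF/SzMain
section
/-!
# The Suzuki group in a group with a TI Sylow 2-subgroup of Suzuki type: torus and Weyl element
-/

set_option autoImplicit false

open Subgroup Cfsg Cfsg.Agent.ThreePrime Cfsg.Agent.H666

namespace Cfsg.Agent.H240.TF

section main

variable {Q : Type*} [Group Q] [Finite Q] {K : Type*} [Field K] [Finite K] {σ : K →+* K} {y : K → K → Q}

/-- coordinates on `O^{2'}(Q)` -/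
theorem exists_rel_L (T : Sylow 2 Q) (hTI : TI.IsTI 2 Q) (hN : normalizer ((T : Subgroup Q) : Set Q) ≠ ⊤)
    (h : SzT σ (T : Subgroup Q) y) (h8 : 8 ≤ Nat.card K)
    (hcen : ∀ c ∈ pElementClosure 2 (⊤ : Subgroup Q), (∀ t ∈ (T : Subgroup Q), c * t = t * c) → c ∈ (T : Subgroup Q)) :
    IsSimpleGroup ↥(pElementClosure 2 (⊤ : Subgroup Q)) ∧
    ∃ (F : Type) (_ : Field F) (_ : Fintype F) (m : ℕ), 1 ≤ m ∧ Fintype.card F = 2 ^ (2 * m + 1) ∧
      Nat.card F = Nat.card K ∧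
      ∃ R : SzRel.Rel ↥(pElementClosure 2 (⊤ : Subgroup Q)) F,
        ∀ x : ↥(pElementClosure 2 (⊤ : Subgroup Q)), x ∈ R.T ↔ (x : Q) ∈ (T : Subgroup Q) := by
  have hs := iso_suz T hTI hN h h8 hcen
  refine ⟨?_, ?_⟩
  · obtain ⟨F, iF, iF', m, hm, hF, ⟨e⟩⟩ := hs
    have := Cfsg.Agent.S1162.result hm hF
    exact e.isSimpleGroup
  · have hle := sylow_le_closure T
    obtain ⟨F, iF, iF', m, hm, hF, R, hR⟩ := exists_rel_sylow hs (T.subtype hle)
    have hmem : ∀ x : ↥(pElementClosure 2 (⊤ : Subgroup Q)), x ∈ R.T ↔ (x : Q) ∈ (T : Subgroup Q) := by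
      intro x
      rw [hR]
      exact Iff.rfl
    refine ⟨F, iF, iF', m, hm, hF, ?_, R, hmem⟩
    have h1 : Nat.card R.T = Nat.card (T : Subgroup Q) := by
      have e : R.T = (T : Subgroup Q).subgroupOf _ := by
        ext x
        rw [hmem, mem_subgroupOf]
      rw [e]
      exact Nat.card_congr (subgroupOfEquivOfLe hle).toEquiv
    rw [R.card_T, h.card_T, pow_two] at h1
    exact Nat.mul_self_inj.1 h1

omit [Finite Q] in
theorem closure_normal : (pElementClosure 2 (⊤ : Subgroup Q)).Normal := by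
  refine ⟨fun x hx c => ?_⟩
  have h1 : pElementClosure 2 (⊤ : Subgroup Q) ≤ (pElementClosure 2 (⊤ : Subgroup Q)).comap
      (MulAut.conj c).toMonoidHom := by
    rw [pElementClosure, closure_le]
    rintro y ⟨-, k, hk⟩
    refine _root_.Subgroup.subset_closure ⟨mem_top _, k, ?_⟩
    rw [← hk]
    exact orderOf_injective (MulAut.conj c).toMonoidHom (MulAut.conj c).injective y
  exact h1 hx

/-- `Q = O^{2'}(Q) N(T)` -/
theorem frattini (T : Sylow 2 Q) (g : Q) :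
    ∃ l ∈ pElementClosure 2 (⊤ : Subgroup Q), ∃ n ∈ normalizer ((T : Subgroup Q) : Set Q), g = l * n := by
  have : Fact (Nat.Prime 2) := ⟨Nat.prime_two⟩
  have hn : (pElementClosure 2 (⊤ : Subgroup Q)).Normal := closure_normal
  have h1 : normalizer ((T : Subgroup Q) : Set Q) ⊔ pElementClosure 2 (⊤ : Subgroup Q) = ⊤ :=
    Sylow.normalizer_sup_eq_top' T (sylow_le_closure T)
  have h2 : g ∈ (pElementClosure 2 (⊤ : Subgroup Q)) ⊔ normalizer ((T : Subgroup Q) : Set Q) := by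
    rw [sup_comm, h1]
    exact mem_top g
  rw [← SetLike.mem_coe, Subgroup.normal_mul] at h2
  obtain ⟨l, hl, n, hn, e⟩ := h2
  exact ⟨l, hl, n, hn, e.symm⟩

/-- the Weyl element attached to the torus `H` -/
theorem exists_n (T : Sylow 2 Q) (hTI : TI.IsTI 2 Q) (hN : normalizer ((T : Subgroup Q) : Set Q) ≠ ⊤)
    (h : SzT σ (T : Subgroup Q) y) (h8 : 8 ≤ Nat.card K)
    (hcen : ∀ c ∈ pElementClosure 2 (⊤ : Subgroup Q), (∀ t ∈ (T : Subgroup Q), c * t = t * c) → c ∈ (T : Subgroup Q))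
    (H : Subgroup Q) (hHL : H ≤ pElementClosure 2 (⊤ : Subgroup Q)) (hHo : (Nat.card H).Coprime 2)
    (hHN : H ≤ normalizer ((T : Subgroup Q) : Set Q))
    (hH : ∀ g ∈ pElementClosure 2 (⊤ : Subgroup Q), g ∈ normalizer ((T : Subgroup Q) : Set Q) →
      g ∈ (T : Subgroup Q) ⊔ H) :
    ∃ n ∈ pElementClosure 2 (⊤ : Subgroup Q), n ∉ normalizer ((T : Subgroup Q) : Set Q) ∧
      (∀ x ∈ H, n * x * n⁻¹ = x⁻¹) ∧
      (∀ c : Q, Odd (orderOf c) → (∀ t ∈ (T : Subgroup Q), c * t = t * c) → n * c * n⁻¹ = c) ∧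
      ∀ M : Subgroup Q, (T : Subgroup Q) ≤ M → ∀ g ∈ M, g ∈ pElementClosure 2 (⊤ : Subgroup Q) →
        g ∉ normalizer ((T : Subgroup Q) : Set Q) → pElementClosure 2 (⊤ : Subgroup Q) ≤ M := by
  obtain ⟨hsim, F, iF, iF', m, hm, hF, hFK, R₀, hR₀⟩ := exists_rel_L T hTI hN h h8 hcen
  have hTL : (T : Subgroup Q) ≤ pElementClosure 2 (⊤ : Subgroup Q) := sylow_le_closure T
  have hLn : (pElementClosure 2 (⊤ : Subgroup Q)).Normal := closure_normal
  classical
  clear hcen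
  generalize pElementClosure 2 (⊤ : Subgroup Q) = L at *
  -- normalizers
  have hnorm : ∀ (R : SzRel.Rel L F), (∀ x : L, x ∈ R.T ↔ (x : Q) ∈ (T : Subgroup Q)) → ∀ g : L,
      g ∈ normalizer (R.T : Set L) ↔ (g : Q) ∈ normalizer ((T : Subgroup Q) : Set Q) := by
    intro R hR g
    rw [mem_normalizer_iff, mem_normalizer_iff]
    constructor
    · intro h1 x
      constructor
      · intro hx
        exact (hR _).1 ((h1 ⟨x, hTL hx⟩).1 ((hR ⟨x, hTL hx⟩).2 hx))
      · intro hx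
        have hx' : x ∈ L := by
          have e : x = (g : Q)⁻¹ * ((g : Q) * x * (g : Q)⁻¹) * g := by group
          rw [e]
          exact mul_mem (mul_mem (inv_mem g.2) (hTL hx)) g.2
        exact (hR ⟨x, hx'⟩).1 ((h1 ⟨x, hx'⟩).2 ((hR _).2 hx))
    · intro h1 x
      rw [hR, hR]
      exact h1 x
  -- adjust the torus
  obtain ⟨R, hR, hRD⟩ : ∃ R : SzRel.Rel L F, (∀ x : L, x ∈ R.T ↔ (x : Q) ∈ (T : Subgroup Q)) ∧
      ∀ x : L, x ∈ R.D ↔ (x : Q) ∈ H := by
    have hsup : R₀.D ⊔ R₀.T = H.subgroupOf L ⊔ R₀.T := by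
      apply le_antisymm
      · refine sup_le ?_ le_sup_right
        intro x hx
        have h1 : (x : Q) ∈ normalizer ((T : Subgroup Q) : Set Q) := (hnorm R₀ hR₀ x).1 (R₀.D_le hx)
        have h2 := hH x x.2 h1
        rw [sup_comm, ← SetLike.mem_coe, coe_mul_of_left_le_normalizer_right _ _ hHN] at h2
        obtain ⟨a, ha, t, ht, e⟩ := h2
        have e' : x = (⟨a, hHL ha⟩ : L) * ⟨t, hTL ht⟩ := Subtype.ext e.symm
        rw [e']
        exact mul_mem (le_sup_left (a := H.subgroupOf L) (show (⟨a, hHL ha⟩ : L) ∈ H.subgroupOf L from ha))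
          (le_sup_right (a := H.subgroupOf L) ((hR₀ _).2 ht))
      · refine sup_le ?_ le_sup_right
        intro x hx
        obtain ⟨a, b, k, e⟩ := R₀.norm ((hnorm R₀ hR₀ x).2 (hHN hx))
        rw [e]
        exact mul_mem (le_sup_right (a := R₀.D) (R₀.u_mem a b)) (le_sup_left (a := R₀.D) (R₀.d_mem k))
    have hDc : (Nat.card R₀.D).Coprime 2 := by
      have h1 : Nat.card R₀.D = Nat.card Fˣ := by
        symm
        refine Nat.card_congr (Equiv.ofBijective (fun k : Fˣ => (⟨R₀.d k, R₀.d_mem k⟩ : R₀.D)) ⟨?_, ?_⟩)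
        · intro k l e
          exact R₀.d_inj (congrArg Subtype.val e)
        · rintro ⟨g, k, rfl⟩
          exact ⟨k, rfl⟩
      rw [h1, Nat.card_eq_fintype_card, Fintype.card_units, hF]
      have h2 : Odd (2 ^ (2 * m + 1) - 1) := by
        refine Nat.Even.sub_odd Nat.one_le_two_pow ?_ odd_one
        exact (even_two).pow_of_ne_zero (by omega)
      exact h2.coprime_two_right
    have hHc : (Nat.card (H.subgroupOf L)).Coprime 2 := by
      rw [Nat.card_congr (subgroupOfEquivOfLe hHL).toEquiv]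
      exact hHo
    obtain ⟨i, hi, hii⟩ := sz_conj (S := H.subgroupOf L) R₀.isPGroup hHc hDc (by
      intro x hx
      exact (hnorm R₀ hR₀ x).2 (hHN hx)) hsup
    refine ⟨R₀.map (MulAut.conj i), ?_, ?_⟩
    · intro x
      rw [← hR₀ x]
      constructor
      · rintro ⟨a, b, rfl⟩
        show i * R₀.u a b * i⁻¹ ∈ R₀.T
        exact mul_mem (mul_mem hi (R₀.u_mem a b)) (inv_mem hi)
      · intro hx
        obtain ⟨a, b, e⟩ : i⁻¹ * x * i ∈ R₀.T := mul_mem (mul_mem (inv_mem hi) hx) hi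
        refine ⟨a, b, ?_⟩
        show x = i * R₀.u a b * i⁻¹
        rw [← e]; group
    · intro x
      constructor
      · rintro ⟨k, rfl⟩
        exact (hii _).1 (R₀.d_mem k)
      · intro hx
        have h1 : i⁻¹ * x * i ∈ R₀.D := by
          rw [hii]
          have e : i * (i⁻¹ * x * i) * i⁻¹ = x := by group
          rw [e]
          exact hx
        obtain ⟨k, e⟩ := h1
        refine ⟨k, ?_⟩
        show x = i * R₀.d k * i⁻¹
        rw [← e]; group
  have hnn : ((R.w : L) : Q) ∉ normalizer ((T : Subgroup Q) : Set Q) := by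
    rw [← hnorm R hR]
    exact R.w_not_mem_normalizer
  refine ⟨(R.w : L), (R.w : L).2, hnn, ?_, ?_, ?_⟩
  · intro x hx
    obtain ⟨k, e⟩ := (hRD ⟨x, hHL hx⟩).2 hx
    have h1 := R.conj_d_pow_w k
    rw [← e] at h1
    have h2 := congrArg Subtype.val h1
    change ((R.w : L) : Q) * x * ((R.w : L) : Q) = x⁻¹ at h2
    have h3 : (((R.w : L) : Q))⁻¹ = ((R.w : L) : Q) := congrArg Subtype.val R.w_inv
    rw [h3, h2]
  · intro c hc hct
    let φ : MulAut L := MulAut.conjNormal c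
    have hφ : ∀ x : L, ((φ x : L) : Q) = c * x * c⁻¹ := fun x => MulAut.conjNormal_apply c x
    obtain ⟨t, ht, e⟩ := R.aut_cent_Z hm hF φ (fun z hz => by
      apply Subtype.ext
      rw [hφ, hct z ((hR z).1 (R.Z_le_T hz))]
      group)
    -- `φ` has odd order and order dividing 4
    have h1 : φ ^ 4 = 1 := by
      rw [e, ← map_pow, R.pow_four ht, map_one]
    have h2 : φ ^ orderOf c = 1 := by
      show (MulAut.conjNormal c) ^ orderOf c = 1
      rw [← map_pow, pow_orderOf_eq_one, map_one]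
    have h3 : orderOf φ ∣ 1 := by
      have h4 : Nat.Coprime 4 (orderOf c) := by
        rw [show 4 = 2 ^ 2 by norm_num]
        exact Nat.Coprime.pow_left 2 hc.coprime_two_left
      rw [← h4.gcd_eq_one]
      exact Nat.dvd_gcd (orderOf_dvd_of_pow_eq_one h1) (orderOf_dvd_of_pow_eq_one h2)
    have h5 : φ = 1 := orderOf_eq_one_iff.1 (Nat.dvd_one.1 h3)
    have h6 := hφ R.w
    rw [h5] at h6
    change ((R.w : L) : Q) = c * ((R.w : L) : Q) * c⁻¹ at h6
    have h7 : ((R.w : L) : Q) * c = c * ((R.w : L) : Q) := by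
      rw [eq_mul_inv_iff_mul_eq] at h6
      exact h6
    rw [h7]
    group
  · intro M hTM g hgM hgL hgN
    have h1 := R.sup_eq_top (H := M.subgroupOf L) (g := ⟨g, hgL⟩) (fun x hx => hTM ((hR x).1 hx)) (fun x hx =>
      (mul_mem (mul_mem hgM (hTM ((hR x).1 hx))) (inv_mem hgM) : g * (x : Q) * g⁻¹ ∈ M))
      (by rw [hnorm R hR]; exact hgN)
    rwa [subgroupOf_eq_top] at h1

end main

end Cfsg.Agent.H240.TF
end

-- part: H240/TF/Gam
section
/-!
# S5262, LA1 / LA2: `Γ / Inn(Q_a)` (helper240)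
-/

set_option autoImplicit false

namespace Cfsg.Agent.H240.TF

open Cfsg Cfsg.FusionSystem Cfsg.Agent.Octagon.Pkg Cfsg.Agent.H745.TF Cfsg.Agent.H659.TF Cfsg.Agent.H756.PU Cfsg.Agent.H666
open scoped Pointwise

universe u v

section

variable {K : Type u} [Field K] {σ : K →+* K} {U : Type v} [Group U] (T : TF σ U)

/-- conjugation on `QA` -/
def cj : U →* MulAut T.QA := @MulAut.conjNormal U _ T.QA (QA_normal T)

theorem cj_apply (x : U) (e : T.QA) : ((cj T x e : T.QA) : U) = x * e * x⁻¹ :=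
  @MulAut.conjNormal_apply U _ T.QA (QA_normal T) x e

theorem mem_aut (γ : MulAut T.QA) : γ ∈ autInducedBy ⊤ T.QA ↔ ∃ x : U, γ = cj T x := by
  constructor
  · intro h
    have hle : autInducedBy ⊤ T.QA ≤ (cj T).range := by
      unfold autInducedBy
      rw [Subgroup.closure_le]
      rintro α ⟨g, -, hg⟩
      refine ⟨g, ?_⟩
      ext e
      rw [cj_apply, hg]
    obtain ⟨x, hx⟩ := hle h
    exact ⟨x, hx.symm⟩
  · rintro ⟨x, rfl⟩
    exact Subgroup.subset_closure ⟨x, Subgroup.mem_top x, fun e => cj_apply T x e⟩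

theorem conj_eq (e : T.QA) : MulAut.conj e = cj T (e : U) := by
  ext x
  rw [cj_apply]
  rfl

theorem mem_inn (γ : MulAut T.QA) : γ ∈ Inn T.QA ↔ ∃ e : T.QA, γ = cj T (e : U) := by
  constructor
  · rintro ⟨e, rfl⟩
    exact ⟨e, conj_eq T e⟩
  · rintro ⟨e, rfl⟩
    exact ⟨e, conj_eq T e⟩

theorem inn_normal : (Inn T.QA).Normal := by
  refine ⟨?_⟩
  rintro _ ⟨e, rfl⟩ γ
  refine ⟨γ e, ?_⟩
  ext x
  simp only [MulAut.conj_apply, MulAut.mul_apply, _root_.Subgroup.coe_mul, _root_.InvMemClass.coe_inv, _root_.MulAut.inv_apply, _root_.map_mul, _root_.MulEquiv.apply_symm_apply, _root_.map_inv]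

theorem inn_le_aut : Inn T.QA ≤ autInducedBy ⊤ T.QA := by
  intro γ hγ
  obtain ⟨e, rfl⟩ := (mem_inn T γ).1 hγ
  exact (mem_aut T _).2 ⟨e, rfl⟩

variable (Γ : Subgroup (MulAut T.QA))

/-- the hypotheses on `Γ` -/
structure Ctx : Prop where
  pU : IsPGroup 2 (⊤ : Subgroup U)
  indu : autInducedBy ⊤ T.QA ≤ Γ
  syl : ∀ P : Subgroup (MulAut T.QA), P ≤ Γ → IsPGroup 2 P → ∃ g ∈ Γ, ∀ x ∈ P, g * x * g⁻¹ ∈ autInducedBy ⊤ T.QA
  ti : TIAut (⊤ : Subgroup U) Γ
  nn : ¬ ∀ γ ∈ Γ, NormAut ⊤ γ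
  cent : centralizerIn ⊤ T.QA ≤ T.QA

/-- `Inn(QA)` in `Γ` -/
def IG : Subgroup Γ := (Inn T.QA).subgroupOf Γ

instance IG_normal : (IG T Γ).Normal := by
  have := inn_normal T
  exact Subgroup.normal_subgroupOf

variable {T Γ}

theorem aut_pgroup (hU : IsPGroup 2 (⊤ : Subgroup U)) : IsPGroup 2 (autInducedBy ⊤ T.QA) := by
  rintro ⟨γ, hγ⟩
  obtain ⟨x, rfl⟩ := (mem_aut T γ).1 hγ
  obtain ⟨k, hk⟩ := hU ⟨x, Subgroup.mem_top x⟩
  refine ⟨k, Subtype.ext ?_⟩
  have h1 : x ^ 2 ^ k = 1 := congrArg Subtype.val hk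
  show cj T x ^ 2 ^ k = 1
  rw [← map_pow, h1, map_one]

theorem IG_pgroup (hU : IsPGroup 2 (⊤ : Subgroup U)) : IsPGroup 2 (IG T Γ) := by
  rintro ⟨γ, hγ⟩
  obtain ⟨k, hk⟩ := aut_pgroup (T := T) hU ⟨(γ : MulAut T.QA), inn_le_aut T hγ⟩
  refine ⟨k, Subtype.ext (Subtype.ext ?_)⟩
  have h1 : (γ : MulAut T.QA) ^ 2 ^ k = 1 := congrArg Subtype.val hk
  exact h1

namespace Ctx

variable (C : Ctx T Γ)
include C

theorem cj_inn (x : U) : cj T x ∈ Inn T.QA ↔ x ∈ T.QA := by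
  constructor
  · intro h
    obtain ⟨e, he⟩ := (mem_inn T _).1 h
    have h1 : (e : U)⁻¹ * x ∈ T.QA := by
      refine C.cent ⟨Subgroup.mem_top _, ?_⟩
      refine (Subgroup.mem_centralizer_iff (G := U)).2 ?_
      intro a ha
      have h2 := congrArg (fun z : T.QA => (z : U)) (DFunLike.congr_fun he ⟨a, ha⟩)
      simp only [cj_apply] at h2
      have h3 : x * a = e * a * (e : U)⁻¹ * x := by
        rw [← h2, inv_mul_cancel_right]
      calc a * ((e : U)⁻¹ * x) = (e : U)⁻¹ * (e * a * (e : U)⁻¹ * x) := by group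
        _ = (e : U)⁻¹ * x * a := by rw [← h3]; group
    have h2 : x = e * ((e : U)⁻¹ * x) := by group
    rw [h2]
    exact mul_mem e.2 h1
  · intro h
    exact (mem_inn T _).2 ⟨⟨x, h⟩, rfl⟩

/-- `U → Γ` -/
def cG : U →* Γ := (cj T).codRestrict Γ fun x => C.indu ((mem_aut T _).2 ⟨x, rfl⟩)

/-- the root elements of `Γ / Inn(QA)` -/
def yy (p u : K) : Γ ⧸ IG T Γ := QuotientGroup.mk (C.cG (T.x8 p u))

theorem mk_cG (x : U) : ∃ p u, (QuotientGroup.mk (C.cG x) : Γ ⧸ IG T Γ) = C.yy p u := by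
  obtain ⟨e, he, p, u, rfl⟩ := exists_x8 T x
  refine ⟨p, u, ?_⟩
  rw [map_mul, QuotientGroup.mk_mul]
  have h1 : (QuotientGroup.mk (C.cG e) : Γ ⧸ IG T Γ) = 1 := by
    rw [QuotientGroup.eq_one_iff]
    exact (C.cj_inn e).2 he
  rw [h1, one_mul]
  rfl

/-- `Aut_U(QA)` is a Sylow subgroup -/
theorem exists_sylow [Finite U] : ∃ P : Sylow 2 Γ, ∀ g : Γ, g ∈ P ↔ (g : MulAut T.QA) ∈ autInducedBy ⊤ T.QA := by
  have hf : Finite (MulAut T.QA) := inferInstance
  have hA : IsPGroup 2 ((autInducedBy ⊤ T.QA).subgroupOf Γ) := by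
    rintro ⟨γ, hγ⟩
    obtain ⟨k, hk⟩ := aut_pgroup (T := T) C.pU ⟨(γ : MulAut T.QA), hγ⟩
    refine ⟨k, Subtype.ext (Subtype.ext ?_)⟩
    have h1 : (γ : MulAut T.QA) ^ 2 ^ k = 1 := congrArg Subtype.val hk
    exact h1
  obtain ⟨P, hP⟩ := hA.exists_le_sylow
  refine ⟨P, fun g => ?_⟩
  have hPm : IsPGroup 2 ((P : Subgroup Γ).map Γ.subtype) := P.2.map _
  obtain ⟨c, hc, hcx⟩ := C.syl _ (by
    rintro _ ⟨x, -, rfl⟩
    exact x.2) hPm
  have hcard : Nat.card (P : Subgroup Γ) ≤ Nat.card ((autInducedBy ⊤ T.QA).subgroupOf Γ) := by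
    refine Nat.card_le_card_of_injective (fun x : (P : Subgroup Γ) => (⟨⟨c, hc⟩ * x * ⟨c, hc⟩⁻¹, ?_⟩ :
      ((autInducedBy ⊤ T.QA).subgroupOf Γ))) ?_
    · exact hcx _ ⟨x, x.2, rfl⟩
    · intro x y e
      have e1 := congrArg Subtype.val e
      have e2 : (⟨c, hc⟩ : Γ) * x * (⟨c, hc⟩ : Γ)⁻¹ = ⟨c, hc⟩ * y * (⟨c, hc⟩ : Γ)⁻¹ := e1
      exact Subtype.ext (mul_left_cancel (mul_right_cancel e2))
  have heq := Subgroup.eq_of_le_of_card_ge hP hcard
  have h1 : g ∈ (P : Subgroup Γ) ↔ g ∈ (autInducedBy ⊤ T.QA).subgroupOf Γ := by rw [heq]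
  exact h1

/-- the Sylow subgroup of the quotient -/
theorem exists_sylow_q [Finite U] : ∃ P : Sylow 2 (Γ ⧸ IG T Γ), ∀ g : Γ,
    (QuotientGroup.mk g : Γ ⧸ IG T Γ) ∈ P ↔ (g : MulAut T.QA) ∈ autInducedBy ⊤ T.QA := by
  obtain ⟨P, hP⟩ := C.exists_sylow
  refine ⟨P.mapSurjective (QuotientGroup.mk'_surjective (IG T Γ)), fun g => ?_⟩
  constructor
  · rintro ⟨a, ha, e⟩
    have h1 : a⁻¹ * g ∈ IG T Γ := QuotientGroup.eq.1 e
    have h2 : g = a * (a⁻¹ * g) := by group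
    rw [h2]
    exact mul_mem ((hP a).1 ha) (inn_le_aut T h1)
  · intro h
    exact ⟨g, (hP g).2 h, rfl⟩

theorem exists_T [Finite U] : ∃ P : Sylow 2 (Γ ⧸ IG T Γ),
    (∀ g : Γ, (QuotientGroup.mk g : Γ ⧸ IG T Γ) ∈ (P : Subgroup (Γ ⧸ IG T Γ)) ↔ (g : MulAut T.QA) ∈ autInducedBy ⊤ T.QA) ∧
    (∀ g : Γ, (QuotientGroup.mk g : Γ ⧸ IG T Γ) ∈ Subgroup.normalizer ((P : Subgroup (Γ ⧸ IG T Γ)) : Set (Γ ⧸ IG T Γ)) ↔
      NormAut ⊤ (g : MulAut T.QA)) ∧
    TI.IsTI 2 (Γ ⧸ IG T Γ) ∧ Subgroup.normalizer ((P : Subgroup (Γ ⧸ IG T Γ)) : Set (Γ ⧸ IG T Γ)) ≠ ⊤ := by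
  have hf : Finite (MulAut T.QA) := inferInstance
  obtain ⟨P, hP⟩ := C.exists_sylow_q
  have hP' : ∀ g : Γ, (QuotientGroup.mk g : Γ ⧸ IG T Γ) ∈ (P : Subgroup (Γ ⧸ IG T Γ)) ↔
    (g : MulAut T.QA) ∈ autInducedBy ⊤ T.QA := hP
  have hN : ∀ g : Γ, (QuotientGroup.mk g : Γ ⧸ IG T Γ) ∈ Subgroup.normalizer ((P : Subgroup (Γ ⧸ IG T Γ)) : Set (Γ ⧸ IG T Γ)) ↔
      NormAut ⊤ (g : MulAut T.QA) := by
    intro g
    constructor
    · intro h x hx
      rw [Subgroup.mem_normalizer_iff] at h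
      have h1 := (h (QuotientGroup.mk (⟨x, C.indu hx⟩ : Γ))).1 ((hP' _).2 hx)
      rw [← QuotientGroup.mk_mul, ← QuotientGroup.mk_inv, ← QuotientGroup.mk_mul, hP'] at h1
      exact h1
    · intro h
      refine Subgroup.mem_normalizer_fintype ?_
      intro n hn
      obtain ⟨a, rfl⟩ := QuotientGroup.mk_surjective n
      have ha : (a : MulAut T.QA) ∈ autInducedBy ⊤ T.QA := (hP' a).1 hn
      show (QuotientGroup.mk g : Γ ⧸ IG T Γ) * QuotientGroup.mk a * (QuotientGroup.mk g)⁻¹ ∈ (P : Subgroup (Γ ⧸ IG T Γ))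
      rw [← QuotientGroup.mk_mul, ← QuotientGroup.mk_inv, ← QuotientGroup.mk_mul, hP']
      exact h _ ha
  refine ⟨P, hP', hN, ?_, ?_⟩
  · have : Fact (Nat.Prime 2) := ⟨Nat.prime_two⟩
    refine Link.isTI_of_conj P fun g hg => ?_
    obtain ⟨γ, rfl⟩ := QuotientGroup.mk_surjective g
    rw [hN] at hg
    rw [eq_bot_iff]
    rintro x ⟨hx1, z, hz, rfl⟩
    obtain ⟨b, rfl⟩ := QuotientGroup.mk_surjective z
    have hb : (b : MulAut T.QA) ∈ autInducedBy ⊤ T.QA := (hP' b).1 hz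
    have h1 : (QuotientGroup.mk γ : Γ ⧸ IG T Γ) * QuotientGroup.mk b * (QuotientGroup.mk γ)⁻¹ ∈ (P : Subgroup (Γ ⧸ IG T Γ)) := hx1
    rw [← QuotientGroup.mk_mul, ← QuotientGroup.mk_inv, ← QuotientGroup.mk_mul, hP'] at h1
    have h2 : (b : MulAut T.QA) ∈ Inn T.QA := by
      by_contra hb'
      exact hg (C.ti _ γ.2 _ hb hb' h1)
    have h3 : (QuotientGroup.mk b : Γ ⧸ IG T Γ) = 1 := by
      rw [QuotientGroup.eq_one_iff]
      exact h2
    rw [Subgroup.mem_bot]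
    show (QuotientGroup.mk γ : Γ ⧸ IG T Γ) * QuotientGroup.mk b * (QuotientGroup.mk γ)⁻¹ = 1
    rw [h3, mul_one, mul_inv_cancel]
  · intro h
    apply C.nn
    intro γ hγ
    rw [← hN ⟨γ, hγ⟩, h]
    exact Subgroup.mem_top _

end Ctx

end

end Cfsg.Agent.H240.TF
end

private theorem dce_c063de997474 : _root_.True := by
  try have : _root_.True := by simp only [_root_.Cfsg.pElementClosure.eq_1]
  exact _root_.True.intro
end

-- part: H240/TF/LAone
section
prune_inst 0xf0100500052202000018000020001c62b20000020048000100c0040204c04c400d060021b020011200008044003c006003000000420000000a000000011c0180000052029248a008260008000000000000000000000000000000000000000000000000000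
set_option linter.all false
open scoped Cfsg.Agent.FastGrp

/-!
# S5262, LA1 (helper240)
-/

set_option autoImplicit false

namespace Cfsg.Agent.H240.TF

open Cfsg Cfsg.FusionSystem Cfsg.Agent.Octagon.Pkg Cfsg.Agent.H745.TF Cfsg.Agent.H659.TF Cfsg.Agent.H756.PU Cfsg.Agent.H666
open Cfsg.Agent.ThreePrime
open scoped Pointwise

universe u v

/-- a normal subgroup containing a Sylow 2-subgroup contains `O^{2'}` -/
theorem closure_le_of_normal {Q : Type*} [Group Q] [Finite Q] (P : Sylow 2 Q) (M : Subgroup Q) [hM : M.Normal]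
    (hPM : (P : Subgroup Q) ≤ M) : pElementClosure 2 (⊤ : Subgroup Q) ≤ M := by
  have : Fact (Nat.Prime 2) := ⟨Nat.prime_two⟩
  rw [pElementClosure, Subgroup.closure_le]
  rintro z ⟨-, k, hk⟩
  obtain ⟨P', hP'⟩ := IsPGroup.exists_le_sylow (p := 2) (P := Subgroup.zpowers z) (by
    have h1 : Nat.card (Subgroup.zpowers z) = 2 ^ k := by rw [Nat.card_zpowers, hk]
    exact IsPGroup.of_card h1)
  obtain ⟨g, hg⟩ := MulAction.exists_smul_eq Q P P'
  have hz : z ∈ ((g • P : Sylow 2 Q) : Subgroup Q) := by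
    rw [hg]
    exact hP' (Subgroup.mem_zpowers z)
  rw [Sylow.coe_subgroup_smul] at hz
  obtain ⟨p, hp, rfl⟩ := hz
  exact hM.conj_mem p (hPM hp) g

section

variable {K : Type u} [Field K] {σ : K →+* K} {m : ℕ} {U : Type v} [Group U] {T : TF σ U}

/-- `x σ(x) = 1` only for `x = 1` -/
theorem eq_one_of_mul_sig (hK : HypK σ m) {x : K} (h : x * σ x = 1) : x = 1 := by
  have hx : x ≠ 0 := by
    rintro rfl
    rw [zero_mul] at h
    exact zero_ne_one h
  have h1 : σ x = x⁻¹ := eq_inv_of_mul_eq_one_right h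
  have h2 := hK.sq x
  rw [h1, map_inv₀, h1, inv_inv] at h2
  have h3 : x * (x - 1) = 0 := by linear_combination -h2
  rcases mul_eq_zero.1 h3 with h4 | h4
  · exact absurd h4 hx
  · exact sub_eq_zero.1 h4

/-- `x4 0 u` is central -/
theorem x4_central (T : TF σ U) (u : K) (x : U) : x * T.x4 0 u = T.x4 0 u * x := by
  have R := T.rel
  have h1 : ∀ t, T.x1 t * T.x4 0 u = T.x4 0 u * T.x1 t := by
    intro t
    rw [R.r14, mul_zero, x2_zero R, mul_one]
  have h2 : ∀ p v, T.x2 p v * T.x4 0 u = T.x4 0 u * T.x2 p v := by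
    intro p v
    rw [R.r24, mul_zero, x3_zero R, mul_one]
  have h3 : ∀ t, T.x3 t * T.x4 0 u = T.x4 0 u * T.x3 t := fun t => R.r34 t 0 u
  have h4 : ∀ p v, T.x4 p v * T.x4 0 u = T.x4 0 u * T.x4 p v := by
    intro p v
    rw [R.m4, R.m4, map_zero, mul_zero, zero_mul, zero_add, add_zero, add_zero, add_zero, add_comm v u]
  have h5 : ∀ t, T.x5 t * T.x4 0 u = T.x4 0 u * T.x5 t := fun t => (R.r45 0 u t).symm
  have h6 : ∀ p v, T.x6 p v * T.x4 0 u = T.x4 0 u * T.x6 p v := by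
    intro p v
    rw [R.r46, zero_mul, x5_zero R, mul_one]
  have h7 : ∀ t, T.x7 t * T.x4 0 u = T.x4 0 u * T.x7 t := by
    intro t
    rw [R.r47, zero_mul, x6_zero R, mul_one]
  have h8 : ∀ p v, T.x8 p v * T.x4 0 u = T.x4 0 u * T.x8 p v := fun p v => (R.r48 0 u p v).symm
  obtain ⟨c, rfl⟩ := T.bij.2 x
  change (T.x1 c.a1 * T.x2 c.a2 c.b2 * T.x3 c.a3 * T.x4 c.a4 c.b4 * T.x5 c.a5 * T.x6 c.a6 c.b6 * T.x7 c.a7 * T.x8 c.a8 c.b8) *
    T.x4 0 u = T.x4 0 u * (T.x1 c.a1 * T.x2 c.a2 c.b2 * T.x3 c.a3 * T.x4 c.a4 c.b4 * T.x5 c.a5 * T.x6 c.a6 c.b6 *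
      T.x7 c.a7 * T.x8 c.a8 c.b8)
  have hc : ∀ a b : U, a * T.x4 0 u = T.x4 0 u * a → b * T.x4 0 u = T.x4 0 u * b →
      (a * b) * T.x4 0 u = T.x4 0 u * (a * b) := by
    intro a b ha hb
    rw [mul_assoc, hb, ← mul_assoc, ha, mul_assoc]
  exact hc _ _ (hc _ _ (hc _ _ (hc _ _ (hc _ _ (hc _ _ (hc _ _ (h1 _) (h2 _ _)) (h3 _)) (h4 _ _)) (h5 _)) (h6 _ _))
    (h7 _)) (h8 _ _)

/-- `Z(QA) = Z4` -/
def Cen (T : TF σ U) : Prop := ∀ z ∈ T.QA, (∀ e ∈ T.QA, e * z = z * e) → ∃ u, z = T.x4 0 u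

variable {Γ : Subgroup (MulAut T.QA)}

/-- the elements of `Γ` fixing `Z4` -/
def Fix (Γ : Subgroup (MulAut T.QA)) : Subgroup Γ where
  carrier := {γ | ∀ (e : T.QA) u, (e : U) = T.x4 0 u → (γ : MulAut T.QA) e = e}
  mul_mem' := by
    intro a b ha hb e u he
    show (a : MulAut T.QA) ((b : MulAut T.QA) e) = e
    rw [hb e u he, ha e u he]
  one_mem' := fun e u _ => rfl
  inv_mem' := by
    intro a ha e u he
    show ((a : MulAut T.QA)⁻¹) e = e
    conv_lhs => rw [← ha e u he]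
    exact MulAut.inv_apply_self _ _ _

theorem Fix_normal (hZ : Cen T) : (Fix Γ).Normal := by
  refine ⟨fun a ha g e u he => ?_⟩
  show (g : MulAut T.QA) ((a : MulAut T.QA) ((g : MulAut T.QA)⁻¹ e)) = e
  obtain ⟨v, hv⟩ := hZ (((g : MulAut T.QA)⁻¹ e : T.QA) : U) (Subtype.mem _) (by
    intro x hx
    have h1 : (g : MulAut T.QA) ⟨x, hx⟩ * e = e * (g : MulAut T.QA) ⟨x, hx⟩ := by
      apply Subtype.ext
      show (((g : MulAut T.QA) ⟨x, hx⟩ : T.QA) : U) * (e : U) = (e : U) * (((g : MulAut T.QA) ⟨x, hx⟩ : T.QA) : U)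
      rw [he]
      exact x4_central T u _
    have h2 := congrArg (fun z => ((g : MulAut T.QA)⁻¹ z : T.QA)) h1
    simp only [map_mul, MulAut.inv_apply_self] at h2
    exact congrArg Subtype.val h2)
  rw [ha _ v hv, MulAut.apply_inv_self]

theorem aut_le_fix (γ : Γ) (h : (γ : MulAut T.QA) ∈ autInducedBy ⊤ T.QA) : γ ∈ Fix Γ := by
  obtain ⟨x, hx⟩ := (mem_aut T _).1 h
  intro e u he
  rw [hx]
  apply Subtype.ext
  rw [cj_apply, he, x4_central T u x, mul_inv_cancel_right]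

namespace Ctx

variable (C : Ctx T Γ)
include C

theorem mem_fix [Finite U] (hZ : Cen T) (γ : Γ)
    (h : (QuotientGroup.mk γ : Γ ⧸ IG T Γ) ∈ pElementClosure 2 (⊤ : Subgroup (Γ ⧸ IG T Γ))) : γ ∈ Fix Γ := by
  have hf : Finite (MulAut T.QA) := inferInstance
  obtain ⟨P, hP, -⟩ := C.exists_T
  have hn := Fix_normal (Γ := Γ) hZ
  have hn' : ((Fix Γ).map (QuotientGroup.mk' (IG T Γ))).Normal := hn.map _ (QuotientGroup.mk'_surjective _)
  have hle := closure_le_of_normal P ((Fix Γ).map (QuotientGroup.mk' (IG T Γ))) (by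
    intro x hx
    obtain ⟨g, rfl⟩ := QuotientGroup.mk_surjective x
    exact ⟨g, aut_le_fix g ((hP g).1 hx), rfl⟩)
  obtain ⟨φ, hφ, e⟩ := hle h
  have h1 : φ⁻¹ * γ ∈ IG T Γ := QuotientGroup.eq.1 e
  have h2 : γ = φ * (φ⁻¹ * γ) := by group
  rw [h2]
  exact mul_mem hφ (aut_le_fix _ (inn_le_aut T h1))

/-- the coordinates of the Sylow subgroup -/
theorem szT (hK : HypK σ m) (P : Sylow 2 (Γ ⧸ IG T Γ))
    (hP : ∀ g : Γ, (QuotientGroup.mk g : Γ ⧸ IG T Γ) ∈ (P : Subgroup (Γ ⧸ IG T Γ)) ↔ (g : MulAut T.QA) ∈ autInducedBy ⊤ T.QA) :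
    SzT σ (P : Subgroup (Γ ⧸ IG T Γ)) C.yy where
  two := hK.two
  sq := hK.sq
  mul p u r s := by
    unfold Ctx.yy
    rw [← QuotientGroup.mk_mul, ← map_mul, T.rel.m8]
  inj p u h := by
    obtain ⟨ρ, R⟩ := exists_rho T
    unfold Ctx.yy at h
    rw [QuotientGroup.eq_one_iff] at h
    exact (R.x8_mem p u).1 ((C.cj_inn _).1 h)
  mem g := by
    obtain ⟨γ, rfl⟩ := QuotientGroup.mk_surjective g
    rw [hP, mem_aut]
    constructor
    · rintro ⟨x, hx⟩
      obtain ⟨p, u, e⟩ := C.mk_cG x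
      refine ⟨p, u, ?_⟩
      rw [← e]
      congr 1
      exact Subtype.ext hx
    · rintro ⟨p, u, e⟩
      have h1 : (C.cG (T.x8 p u))⁻¹ * γ ∈ IG T Γ := QuotientGroup.eq.1 e.symm
      obtain ⟨e', he'⟩ := (mem_inn T _).1 h1
      refine ⟨T.x8 p u * e', ?_⟩
      rw [map_mul, ← he']
      show (γ : MulAut T.QA) = cj T (T.x8 p u) * ((cj T (T.x8 p u))⁻¹ * (γ : MulAut T.QA))
      rw [mul_inv_cancel_left]

end Ctx

/-- the elements of `Γ` which normalise `Aut_U(QA)` and lie in `O^{2'}(Γ)` -/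
theorem norm_one (hK : HypK σ m) {D : Subgroup (MulAut U)} (hPar : T.Par T.QA Γ D) (γ : Γ)
    (h1 : γ ∈ Fix Γ) (h2 : NormAut ⊤ (γ : MulAut T.QA)) :
    ∃ x : U, ∃ d ∈ D, ∃ y : K, y ≠ 0 ∧ T.IsTor d (y * σ y) (σ y)⁻¹ (RingEquiv.refl K) ∧
      ∀ e : T.QA, (((γ : MulAut T.QA) e : T.QA) : U) = x * d e * x⁻¹ := by
  obtain ⟨x, d, hd, hx⟩ := hPar.norm _ γ.2 h2
  obtain ⟨f, g, τ, ht⟩ := (Cfsg.Agent.H805.TF.mem_TT hK).1 (hPar.D_le hd)
  have key : ∀ u, u = σ (f * g) * g * σ (σ (f * g) * g) * τ u := by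
    intro u
    have e1 := h1 ⟨T.x4 0 u, x4_A 0 u⟩ u rfl
    have e2 := hx ⟨T.x4 0 u, x4_A 0 u⟩
    rw [e1] at e2
    change T.x4 0 u = x * d (T.x4 0 u) * x⁻¹ at e2
    rw [ht.e4, map_zero, mul_zero, x4_central T _ x, mul_inv_cancel_right] at e2
    exact (x4_inj T e2).2
  have k1 := key 1
  rw [map_one, mul_one] at k1
  have hτ : τ = RingEquiv.refl K := by
    ext u
    have k2 := key u
    rw [← k1, one_mul] at k2
    exact k2.symm
  subst hτ
  have hχ : σ (f * g) * g = 1 := eq_one_of_mul_sig hK k1.symm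
  have hg : g = (σ (f * g))⁻¹ := eq_inv_of_mul_eq_one_right hχ
  refine ⟨x, d, hd, f * g, mul_ne_zero ht.nf ht.ng, ?_, hx⟩
  rw [← hg]
  have hf : f * g * σ (f * g) = f := by
    calc f * g * σ (f * g) = f * (σ (f * g) * g) := by ring
      _ = f := by rw [hχ, mul_one]
  rw [hf]
  exact ht

/-- conjugation by a restriction -/
theorem conj_cj {γ : MulAut T.QA} {x : U} {d : MulAut U} (h : ∀ e : T.QA, ((γ e : T.QA) : U) = x * d e * x⁻¹) (z : U) :
    γ * cj T z * γ⁻¹ = cj T (x * d z * x⁻¹) := by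
  rw [mul_inv_eq_iff_eq_mul]
  ext e
  rw [MulAut.mul_apply, MulAut.mul_apply, h, cj_apply, cj_apply, h, map_mul, map_mul, map_inv]
  group

/-- the context from the hypotheses -/
theorem ctx_of (hT : StTI.{u, v}) (hK : HypK σ m) {D : Subgroup (MulAut U)} (hPar : T.Par T.QA Γ D) : Ctx T Γ where
  pU := Cfsg.Agent.H805.TF.isPGroup_U T hK
  indu := hPar.indu
  syl := hPar.syl
  ti := (hT hK T T.QA (Or.inl rfl)).1 Γ hPar.indu hPar.syl
  nn := hPar.nn
  cent := (hT hK T T.QA (Or.inl rfl)).2.1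

theorem card_K (hK : HypK σ m) (hm : 1 ≤ m) : 8 ≤ Nat.card K := by
  rw [hK.card]
  calc 8 = 2 ^ 3 := by norm_num
    _ ≤ 2 ^ (2 * m + 1) := Nat.pow_le_pow_right two_pos (by omega)

/-- centralizers of the Sylow subgroup -/
theorem hcen (hK : HypK σ m) (C : Ctx T Γ) (hZ : Cen T) {D : Subgroup (MulAut U)} (hPar : T.Par T.QA Γ D)
    (P : Sylow 2 (Γ ⧸ IG T Γ))
    (hP : ∀ g : Γ, (QuotientGroup.mk g : Γ ⧸ IG T Γ) ∈ (P : Subgroup (Γ ⧸ IG T Γ)) ↔ (g : MulAut T.QA) ∈ autInducedBy ⊤ T.QA)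
    (hN : ∀ g : Γ, (QuotientGroup.mk g : Γ ⧸ IG T Γ) ∈ Subgroup.normalizer ((P : Subgroup (Γ ⧸ IG T Γ)) : Set (Γ ⧸ IG T Γ)) ↔
      NormAut ⊤ (g : MulAut T.QA)) :
    ∀ c ∈ pElementClosure 2 (⊤ : Subgroup (Γ ⧸ IG T Γ)), (∀ t ∈ (P : Subgroup (Γ ⧸ IG T Γ)), c * t = t * c) →
      c ∈ (P : Subgroup (Γ ⧸ IG T Γ)) := by
  have := Cfsg.Agent.H805.TF.finite_U T hK
  intro c hc hct
  obtain ⟨γ, rfl⟩ := QuotientGroup.mk_surjective c
  have hS := C.szT hK P hP
  have hn : (QuotientGroup.mk γ : Γ ⧸ IG T Γ) ∈ Subgroup.normalizer ((P : Subgroup (Γ ⧸ IG T Γ)) : Set (Γ ⧸ IG T Γ)) := by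
    have hf : Finite (MulAut T.QA) := inferInstance
    refine Subgroup.mem_normalizer_fintype fun n hn => ?_
    show (QuotientGroup.mk γ : Γ ⧸ IG T Γ) * n * (QuotientGroup.mk γ)⁻¹ ∈ (P : Subgroup (Γ ⧸ IG T Γ))
    rw [hct n hn, mul_inv_cancel_right]
    exact hn
  obtain ⟨x, d, hd, y, hy, ht, hx⟩ := norm_one hK hPar γ (C.mem_fix hZ γ hc) ((hN γ).1 hn)
  -- `g = 1`
  have h1 : (QuotientGroup.mk γ : Γ ⧸ IG T Γ) * C.yy 1 0 * (QuotientGroup.mk γ)⁻¹ =
      QuotientGroup.mk (C.cG (x * T.x8 ((σ y)⁻¹) 0 * x⁻¹)) := by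
    show (QuotientGroup.mk γ : Γ ⧸ IG T Γ) * QuotientGroup.mk (C.cG (T.x8 1 0)) * (QuotientGroup.mk γ)⁻¹ = _
    rw [← QuotientGroup.mk_mul, ← QuotientGroup.mk_inv, ← QuotientGroup.mk_mul]
    congr 1
    apply Subtype.ext
    have h2 := conj_cj hx (T.x8 1 0)
    rw [ht.e8] at h2
    simp only [RingEquiv.refl_apply, mul_one, mul_zero] at h2
    exact h2
  rw [hct _ (hS.mem' 1 0), mul_inv_cancel_right] at h1
  obtain ⟨a, b, hab⟩ := C.mk_cG x
  have h3 : C.yy 1 0 * C.yy a b = C.yy a b * C.yy ((σ y)⁻¹) 0 := by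
    rw [h1, ← hab]
    show (QuotientGroup.mk (C.cG (x * T.x8 ((σ y)⁻¹) 0 * x⁻¹)) : Γ ⧸ IG T Γ) * QuotientGroup.mk (C.cG x) =
      QuotientGroup.mk (C.cG x) * QuotientGroup.mk (C.cG (T.x8 ((σ y)⁻¹) 0))
    rw [← QuotientGroup.mk_mul, ← QuotientGroup.mk_mul, ← map_mul, ← map_mul, inv_mul_cancel_right]
  rw [hS.mul, hS.mul] at h3
  have h4 := (hS.eq_iff h3).1
  have h5 : (σ y)⁻¹ = 1 := by
    rw [add_comm] at h4
    exact (add_left_cancel h4).symm
  have h6 : y = 1 := by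
    apply σ.injective
    rw [map_one]
    exact inv_eq_one.1 h5
  subst h6
  have h7 : d = 1 := by
    refine tor_one T ?_
    have h8 := ht
    rw [map_one, inv_one, mul_one] at h8
    exact h8
  rw [hP, mem_aut]
  refine ⟨x, ?_⟩
  ext e
  rw [hx, h7, cj_apply]
  rfl

/-- `P k y` of the counting argument -/
def Cnt (T : TF σ U) (Γ : Subgroup (MulAut T.QA)) (D : Subgroup (MulAut U)) (q : Γ ⧸ IG T Γ) (y : K) : Prop :=
  ∃ γ : Γ, (QuotientGroup.mk γ : Γ ⧸ IG T Γ) = q ∧ ∃ x : U, ∃ d ∈ D, T.IsTor d (y * σ y) (σ y)⁻¹ (RingEquiv.refl K) ∧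
    ∀ e : T.QA, (((γ : MulAut T.QA) e : T.QA) : U) = x * d e * x⁻¹

theorem cnt_inj {D : Subgroup (MulAut U)} {q q' : Γ ⧸ IG T Γ} {y : K} (h : Cnt T Γ D q y) (h' : Cnt T Γ D q' y)
    (P : Subgroup (Γ ⧸ IG T Γ))
    (hP : ∀ g : Γ, (QuotientGroup.mk g : Γ ⧸ IG T Γ) ∈ P ↔ (g : MulAut T.QA) ∈ autInducedBy ⊤ T.QA) :
    q * q'⁻¹ ∈ P := by
  obtain ⟨γ, rfl, x, d, hd, ht, hx⟩ := h
  obtain ⟨γ', rfl, x', d', hd', ht', hx'⟩ := h'
  have hdd : d = d' := tor_unique T ht ht'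
  subst hdd
  rw [← QuotientGroup.mk_inv, ← QuotientGroup.mk_mul, hP, mem_aut]
  refine ⟨x * x'⁻¹, ?_⟩
  show (γ : MulAut T.QA) * (γ' : MulAut T.QA)⁻¹ = _
  rw [mul_inv_eq_iff_eq_mul]
  ext e
  rw [hx, MulAut.mul_apply, cj_apply, hx']
  group

/-- every torus element occurs -/
theorem count_all (C : Ctx T Γ) (hK : HypK σ m) (hm : 1 ≤ m) (hZ : Cen T) {D : Subgroup (MulAut U)}
    (hPar : T.Par T.QA Γ D) {y : K} (hy : y ≠ 0) :
    ∃ q ∈ pElementClosure 2 (⊤ : Subgroup (Γ ⧸ IG T Γ)), Cnt T Γ D q y := by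
  have := hK.fin
  have := Cfsg.Agent.H805.TF.finite_U T hK
  have hf : Finite (MulAut T.QA) := inferInstance
  obtain ⟨P, hP, hN, hTI, hne⟩ := C.exists_T
  have hS := C.szT hK P hP
  obtain ⟨-, F, iF, iF', m', hm', hF, hFK, R, hR⟩ := exists_rel_L P hTI hne hS (card_K hK hm) (hcen hK C hZ hPar P hP hN)
  have hcardU : Nat.card Fˣ = Nat.card Kˣ := by
    rw [Nat.card_units, Nat.card_units, hFK]
  obtain ⟨k, h⟩ := exists_of_card (α := Fˣ) (β := Kˣ) hcardU Nat.card_pos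
    (fun k y => Cnt T Γ D ((R.d k : ↥(pElementClosure 2 (⊤ : Subgroup (Γ ⧸ IG T Γ)))) : Γ ⧸ IG T Γ) (y : K)) (by
      intro k
      obtain ⟨γ, hγ⟩ := QuotientGroup.mk_surjective
        ((R.d k : ↥(pElementClosure 2 (⊤ : Subgroup (Γ ⧸ IG T Γ)))) : Γ ⧸ IG T Γ)
      have h1 : (QuotientGroup.mk γ : Γ ⧸ IG T Γ) ∈ pElementClosure 2 (⊤ : Subgroup (Γ ⧸ IG T Γ)) := by
        rw [hγ]
        exact (R.d k).2
      have h2 : NormAut ⊤ (γ : MulAut T.QA) := by
        rw [← hN, hγ]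
        refine Subgroup.mem_normalizer_fintype fun n hn => ?_
        have hnL := sylow_le_closure P hn
        have h3 := R.D_le (R.d_mem k)
        rw [Subgroup.mem_normalizer_iff] at h3
        exact (hR _).1 ((h3 ⟨n, hnL⟩).1 ((hR ⟨n, hnL⟩).2 hn))
      obtain ⟨x, d, hd, y, hy, ht, hx⟩ := norm_one hK hPar γ (C.mem_fix hZ γ h1) h2
      exact ⟨Units.mk0 y hy, γ, hγ, x, d, hd, ht, hx⟩) (by
      intro k k' y h1 h2
      have h3 := cnt_inj h1 h2 (P : Subgroup (Γ ⧸ IG T Γ)) hP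
      have h4 : R.d k * (R.d k')⁻¹ ∈ R.T := (hR _).2 h3
      rw [R.d_inv, R.d_mul] at h4
      obtain ⟨a, b, e⟩ := h4
      have h5 : R.u a b * R.d 1 = R.u 0 0 * R.d (k * k'⁻¹) := by
        rw [R.d_one, mul_one, R.u_zero, one_mul, e]
      have h6 := (R.ud_inj h5).2.2
      exact (mul_inv_eq_one.1 h6.symm)) (Units.mk0 y hy)
  exact ⟨_, (R.d k).2, h⟩

/-- **LA1** -/
theorem la_one (hT : StTI.{u, v}) (hZ : ∀ {K : Type u} [Field K] {σ : K →+* K} {m : ℕ}, HypK σ m → 1 ≤ m →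
    ∀ {U : Type v} [Group U] (T : TF σ U), Cen T) : StLA1.{u, v} := by
  intro K _ σ m hK hm U _ T Γ D hPar y hy α hα
  obtain ⟨q, -, γ, -, x, d, hd, ht, -⟩ := count_all (ctx_of hT hK hPar) hK hm (hZ hK hm T) hPar hy
  have hdd : d = α := tor_unique T ht hα
  rw [← hdd]
  exact hd

end

end Cfsg.Agent.H240.TF
end

-- part: H745/TF/Twist_mg
section
prune_inst 0xc0102004000000000000000000003c029200000200480001000000000480084004040020a02000120000080020000040030000000200000000000000000401000020100080480008000000000000000000000000000000000000000000000000000000000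
set_option linter.all false
open scoped Cfsg.Agent.FastGrp

-- part: H745/TF/Twist
section
/-!
# S5262: twisting a system, with the automizers of characteristic subgroups
-/

set_option autoImplicit false
set_option linter.dupNamespace false

namespace Cfsg.Agent.H745.TF

open Cfsg Cfsg.FusionSystem Cfsg.Agent.H756.PU Cfsg.Agent.H759 Cfsg.Agent.H805.PU

universe u

theorem exists_twist {G0 : Type u} [Group G0] [Finite G0] {p : ℕ} [Fact p.Prime] (F : FusionSystem (⊤ : Subgroup G0))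
    (θ : MulAut G0) (hF : F.IsSaturated p) :
    ∃ F' : FusionSystem (⊤ : Subgroup G0), F'.IsSaturated p ∧ (F'.IsRealizable p → F.IsRealizable p) ∧
      AF F' = (AF F).map (MulAut.conj θ).toMonoidHom ∧
      (∀ E : Subgroup G0, F.IsEssential p E ↔ F'.IsEssential p (E.map θ.toMonoidHom)) ∧
      ∀ Q : Subgroup G0, (∀ α : MulAut G0, Q.map α.toMonoidHom = Q) → ∀ γ γ' : MulAut Q, IsCj θ γ γ' →
        (γ ∈ F.autGroup Q ↔ γ' ∈ F'.autGroup Q) := by
  have hinj : Function.Injective (θ⁻¹ : MulAut G0).toMonoidHom := (θ⁻¹ : MulAut G0).injective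
  have htop : (⊤ : Subgroup G0) = (⊤ : Subgroup G0).map (θ⁻¹ : MulAut G0).toMonoidHom :=
    (Subgroup.map_top_of_surjective _ (θ⁻¹ : MulAut G0).surjective).symm
  obtain ⟨F', hF'⟩ := exists_pull' (hf := hinj) htop F
  refine ⟨F', hF'.isSaturated_iff.1 hF, H776.Co.isRealizable_push hF', ?_, fun E => ?_, ?_⟩
  · rw [AF_push hF', Subgroup.map_map]
    have : (MulAut.conj θ).toMonoidHom.comp (MulAut.conj θ⁻¹).toMonoidHom = MonoidHom.id _ := by
      ext x
      simp [MulAut.conj_apply, mul_assoc]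
    rw [this, Subgroup.map_id]
  · rw [← Cfsg.Agent.H805.PU.isEssential_iff hF', Subgroup.map_map]
    have : (θ⁻¹ : MulAut G0).toMonoidHom.comp θ.toMonoidHom = MonoidHom.id _ := by
      ext x
      show θ⁻¹ (θ x) = x
      exact MulAut.inv_apply_self _ _ _
    rw [this, Subgroup.map_id]
  · intro Q hQ γ γ' hc
    rw [← hF'.mem_autGroup_iff]
    -- `ca γ' = γ` up to the equality `Q.map θ⁻¹ = Q`
    have key : ∀ (P : Subgroup G0) (hP : P = Q) (β : MulAut P),
        (∀ (x : P), ((β x : P) : G0) = (γ ⟨x, hP ▸ x.2⟩ : Q)) → (γ ∈ F.autGroup Q ↔ β ∈ F.autGroup P) := by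
      intro P hP β hβ
      subst hP
      have : β = γ := by
        ext x
        exact hβ x
      rw [this]
    refine key _ (hQ θ⁻¹) _ fun y => ?_
    obtain ⟨x, rfl⟩ := (eqv hinj Q).surjective y
    rw [coe_ca_apply]
    have hθx : θ⁻¹ (x : G0) ∈ Q := by
      have : θ⁻¹ (x : G0) ∈ Q.map (θ⁻¹ : MulAut G0).toMonoidHom := ⟨x, x.2, rfl⟩
      rwa [hQ] at this
    have h1 := hc ⟨θ⁻¹ (x : G0), hθx⟩ x (by
      show (x : G0) = θ (θ⁻¹ (x : G0))
      rw [MulAut.apply_inv_self])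
    show θ⁻¹ ((γ' x : Q) : G0) = _
    rw [h1, MulAut.inv_apply_self]
    rfl

end Cfsg.Agent.H745.TF
end

-- part: H491/TF/Norm
section
/-!
# The normalisers of `U`, `⟨X_1, …, X_7⟩`, `⟨X_2, …, X_8⟩` in `²F₄(q)`, all `q` (S5262)
-/

set_option autoImplicit false
set_option linter.unusedSectionVars false

namespace Cfsg.Agent.H491.TF

open Cfsg.Agent.KFacts.TwF4 Cfsg.Agent.KFacts.TwF4.SylU Cfsg.Agent.KFacts.TwF4.Inv Cfsg.Agent.KFacts.TwF4.Arc
open Cfsg.Agent.SplitTwo Cfsg.Agent.SplitTwo.ZS Cfsg.Agent.TitsThree.RankTwoZ Cfsg.Agent.TitsThree.RankTwoRGD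
open scoped commutatorElement

universe u

variable {F : Type*} [Field F] {σ : F →+* F} {G : Type u} [Group G] (S : Full σ G)

theorem z_mem : S.e 2 0 1 ∈ S.Zc 2 := S.mem_Zc.2 ⟨1, rfl⟩

theorem z_ne : S.e 2 0 1 ≠ 1 := fun h => one_ne_zero (S.e_eq_one h).2

/-- a normalising element normalises the centraliser -/
theorem conj_centralizer {A : Subgroup G} {g z : G} (hg : ∀ x ∈ A, g⁻¹ * x * g ∈ A)
    (hz : z ∈ Subgroup.centralizer (A : Set G)) : g * z * g⁻¹ ∈ Subgroup.centralizer (A : Set G) := by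
  rw [Subgroup.mem_centralizer_iff] at hz ⊢
  intro x hx
  have h2 := hz _ (hg x hx)
  calc x * (g * z * g⁻¹) = g * ((g⁻¹ * x * g) * z) * g⁻¹ := by group
    _ = g * (z * (g⁻¹ * x * g)) * g⁻¹ := by rw [h2]
    _ = _ := by group

/-- the normaliser of `⟨X_1, …, X_7⟩` -/
theorem norm_Q {g : G} (hg : ∀ x ∈ J S.XZ 1 7, g⁻¹ * x * g ∈ J S.XZ 1 7) :
    ∃ b ∈ J S.XZ 1 8, ∃ t ∈ S.T, g = b * t ∨ ∃ b' ∈ J S.XZ 1 8, g = b * (t * S.n2) * b' := by
  refine S.form_of_conj (z_mem S) (z_ne S) ?_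
  have h1 : S.e 2 0 1 ∈ Subgroup.centralizer (S.Q : Set G) := by
    rw [S.centralizer_Q]
    exact z_mem S
  have h2 := conj_centralizer (A := S.Q) hg h1
  rwa [S.centralizer_Q] at h2

/-- `n2` does not normalise `U` -/
theorem n2_not (h : ∀ x ∈ S.XZ 8, S.n2 * x * S.n2⁻¹ ∈ J S.XZ 1 8) : False := by
  have h1 : S.e 4 0 1 ∈ S.XZ 8 := (S.mem_XZ_even 4 _).2 ⟨0, 1, rfl⟩
  have h2 := h _ h1
  have h3 : S.n2 * S.e 4 0 1 * S.n2⁻¹ ∈ S.XZ 0 := S.n2_refl.mem' h1 (by norm_num)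
  have h4 := (S.J07_inf_UT h3 h2 (one_mem S.T) (by rw [mul_one])).1
  have h5 : S.e 4 0 1 = 1 := by
    have : S.e 4 0 1 = S.n2⁻¹ * (S.n2 * S.e 4 0 1 * S.n2⁻¹) * S.n2 := by group
    rw [this, h4]; group
  exact one_ne_zero (S.e_eq_one h5).2

/-- an element `b t n2 b'` does not normalise a group between `X_8` and `U` -/
theorem not_norm {A : Subgroup G} (h8 : S.XZ 8 ≤ A) (hA : A ≤ J S.XZ 1 8)
    (hAU : ∀ b ∈ J S.XZ 1 8, ∀ x ∈ A, b * x * b⁻¹ ∈ A) (hAT : ∀ t ∈ S.T, ∀ x ∈ A, t * x * t⁻¹ ∈ A)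
    {b t b' : G} (hb : b ∈ J S.XZ 1 8) (ht : t ∈ S.T) (hb' : b' ∈ J S.XZ 1 8)
    (hg : ∀ x ∈ A, (b * (t * S.n2) * b') * x * (b * (t * S.n2) * b')⁻¹ ∈ A) : False := by
  refine n2_not S fun x hx => hA ?_
  have h1 : b'⁻¹ * x * b' ∈ A := by
    have := hAU b'⁻¹ (inv_mem hb') x (h8 hx)
    rwa [inv_inv] at this
  have h2 := hg _ h1
  have h3 := hAU b⁻¹ (inv_mem hb) _ h2
  have h4 := hAT t⁻¹ (inv_mem ht) _ h3
  have e : S.n2 * x * S.n2⁻¹ = t⁻¹ * (b⁻¹ * ((b * (t * S.n2) * b') * (b'⁻¹ * x * b') * (b * (t * S.n2) * b')⁻¹) *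
      b⁻¹⁻¹) * t⁻¹⁻¹ := by group
  rw [e]
  exact h4

/-- the normaliser of `U` -/
theorem norm_U {g : G} (hg : ∀ x ∈ J S.XZ 1 8, g * x * g⁻¹ ∈ J S.XZ 1 8)
    (hg' : ∀ x ∈ J S.XZ 1 8, g⁻¹ * x * g ∈ J S.XZ 1 8) :
    ∃ b ∈ J S.XZ 1 8, ∃ t ∈ S.T, g = b * t := by
  have hc : ∀ z ∈ S.Zc 2, z ∈ Subgroup.centralizer (J S.XZ 1 8 : Set G) := by
    intro z hz
    rw [Subgroup.mem_centralizer_iff]
    intro x hx
    exact S.comm_PL (J_mono (by norm_num) le_rfl hx) hz
  have hzc : g * S.e 2 0 1 * g⁻¹ ∈ S.Zc 2 := by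
    have h1 := conj_centralizer (A := J S.XZ 1 8) hg' (hc _ (z_mem S))
    rw [← S.centralizer_Q, Subgroup.mem_centralizer_iff]
    rw [Subgroup.mem_centralizer_iff] at h1
    intro x hx
    exact h1 x (J_mono le_rfl (by norm_num) hx)
  obtain ⟨b, hb, t, ht, h | ⟨b', hb', h⟩⟩ := S.form_of_conj (z_mem S) (z_ne S) hzc
  · exact ⟨b, hb, t, ht, h⟩
  · exfalso
    refine not_norm S (A := J S.XZ 1 8) (X_le_J (by norm_num) le_rfl) le_rfl
      (fun b hb x hx => mul_mem (mul_mem hb hx) (inv_mem hb)) (fun t ht x hx => S.T_conj_J ht hx) hb ht hb' ?_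
    rw [← h]
    exact hg

/-- `U` normalises `⟨X_2, …, X_8⟩` -/
theorem U_J28 : ∀ b ∈ J S.XZ 1 8, ∀ x ∈ J S.XZ 2 8, b * x * b⁻¹ ∈ J S.XZ 2 8 := by
  intro b hb x hx
  obtain ⟨y, hy, r, hr, rfl⟩ := S.zsys8.split_ll (a := 1) (b := 8) (by norm_num) (by norm_num) hb
  have h1 : r * x * r⁻¹ ∈ J S.XZ 2 8 := mul_mem (mul_mem hr hx) (inv_mem hr)
  have h2 : y * (r * x * r⁻¹) * y⁻¹ ∈ J S.XZ 2 8 := by
    have h3 : J S.XZ 2 8 ≤ (J S.XZ 2 8).comap (MulAut.conj y).toMonoidHom := by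
      refine J_le fun k h1 h2 z hz => ?_
      show y * z * y⁻¹ ∈ J S.XZ 2 8
      have h4 := S.zsys8.comm 1 k (by omega) (by omega) y hy z hz
      have e : y * z * y⁻¹ = ⁅y, z⁆ * z := by rw [commutatorElement_def]; group
      rw [e]
      exact mul_mem (J_mono (by omega) (by omega) h4) (mem_J hz (by omega) (by omega))
    exact h3 h1
  have e : y * r * x * (y * r)⁻¹ = y * (r * x * r⁻¹) * y⁻¹ := by group
  rw [e]
  exact h2

/-- `U` normalises `⟨X_1, …, X_7⟩` -/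
theorem U_J17 : ∀ b ∈ J S.XZ 1 8, ∀ x ∈ J S.XZ 1 7, b * x * b⁻¹ ∈ J S.XZ 1 7 := by
  intro b hb x hx
  obtain ⟨r, hr, y, hy, rfl⟩ := S.zsys8.split_rr (a := 1) (b := 8) (by norm_num) (by norm_num) hb
  have h2 : y * x * y⁻¹ ∈ J S.XZ 1 7 := by
    have h3 : J S.XZ 1 7 ≤ (J S.XZ 1 7).comap (MulAut.conj y).toMonoidHom := by
      refine J_le fun k h1 h2 z hz => ?_
      show y * z * y⁻¹ ∈ J S.XZ 1 7
      have h4 := S.zsys8.comm k 8 (by omega) (by omega) z hz y hy
      have e : y * z * y⁻¹ = ⁅z, y⁆⁻¹ * z := by rw [commutatorElement_def]; group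
      rw [e]
      exact mul_mem (inv_mem (J_mono (by omega) (by omega) h4)) (mem_J hz (by omega) (by omega))
    exact h3 hx
  have e : r * y * x * (r * y)⁻¹ = r * (y * x * y⁻¹) * r⁻¹ := by group
  rw [e]
  exact mul_mem (mul_mem (by exact hr) h2) (inv_mem (by exact hr))

theorem n1_J28 : ∀ x ∈ J S.XZ 2 8, S.n1 * x * S.n1⁻¹ ∈ J S.XZ 2 8 :=
  fun _ hx => S.n1_refl.mem_J hx (by norm_num) (by norm_num)

theorem n1_inv : S.n1⁻¹ = S.n1 := inv_eq_of_mul_eq_one_right S.n1_sq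

theorem n2_inv : S.n2⁻¹ = S.n2 := inv_eq_of_mul_eq_one_right S.n2_sq

/-- the normaliser of `⟨X_2, …, X_8⟩` -/
theorem norm_J28 {g : G} (hg : ∀ x ∈ J S.XZ 2 8, g * x * g⁻¹ ∈ J S.XZ 2 8)
    (hg' : ∀ x ∈ J S.XZ 2 8, g⁻¹ * x * g ∈ J S.XZ 2 8) :
    ∃ b ∈ J S.XZ 1 8, ∃ t ∈ S.T, g = b * t ∨ ∃ b' ∈ J S.XZ 1 8, g = b' * S.n1 * (b * t) := by
  have key : ∀ g : G, (∀ x ∈ J S.XZ 2 8, g * x * g⁻¹ ∈ J S.XZ 2 8) → g * S.e 2 0 1 * g⁻¹ ∈ S.Zc 2 →
      ∃ b ∈ J S.XZ 1 8, ∃ t ∈ S.T, g = b * t := by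
    intro g hg h1
    obtain ⟨b, hb, t, ht, h | ⟨b', hb', h⟩⟩ := S.form_of_conj (z_mem S) (z_ne S) h1
    · exact ⟨b, hb, t, ht, h⟩
    · exfalso
      refine not_norm S (A := J S.XZ 2 8) (X_le_J (by norm_num) le_rfl) (J_mono (by norm_num) le_rfl)
        (U_J28 S) (fun t ht x hx => S.T_conj_J ht hx) hb ht hb' ?_
      rw [← h]
      exact hg
  have hzW : g * S.e 2 0 1 * g⁻¹ ∈ S.W46 := by
    rw [← S.centralizer_J28]
    refine conj_centralizer hg' ?_
    rw [S.centralizer_J28]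
    exact S.Z4_W46 1
  obtain ⟨u, v, huv⟩ := S.mem_W46.1 hzW
  by_cases hv : v = 0
  · subst hv
    rw [S.e_zero, mul_one] at huv
    obtain ⟨b, hb, t, ht, h⟩ := key g hg (by rw [← huv]; exact ⟨u, rfl⟩)
    exact ⟨b, hb, t, ht, Or.inl h⟩
  · -- `z4(u) z6(v) = (x1(t) n1) z4(v) (x1(t) n1)⁻¹`
    set s : F := u / v with hs
    have hsv : s * v = u := by rw [hs]; field_simp
    have hx1 : S.o 0 s ∈ J S.XZ 1 8 := mem_J (S.mX1 s) (by norm_num) (by norm_num)
    have h1 : S.o 0 s * S.e 3 0 v = S.e 3 0 v * S.o 0 s * S.e 2 0 u := by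
      have h := S.o_e3 0 s 0 v
      simp only [mul_zero, map_zero, zero_add] at h
      rw [S.e_zero, S.o_zero, mul_one, mul_one, hsv] at h
      exact h
    have h2 : S.n1 * S.e 2 0 v * S.n1⁻¹ = S.e 3 0 v := by
      rw [S.n1_e]
      rfl
    have hcomm : S.e 2 0 u * S.e 3 0 v = S.e 3 0 v * S.e 2 0 u := by
      have h := S.e_e1 2 0 u 0 v
      rw [mul_zero, S.o_zero, mul_one] at h
      exact h
    have hcomm2 : S.o 0 s * S.e 2 0 u = S.e 2 0 u * S.o 0 s := by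
      have h := S.o_e2 0 s 0 u
      rw [mul_zero, S.e_zero, mul_one] at h
      exact h
    have h3 : (S.o 0 s * S.n1)⁻¹ * (g * S.e 2 0 1 * g⁻¹) * (S.o 0 s * S.n1) = S.e 2 0 v := by
      rw [← huv]
      have e1 : S.o 0 s * S.e 3 0 v * (S.o 0 s)⁻¹ = S.e 2 0 u * S.e 3 0 v := by
        rw [h1, hcomm, mul_assoc (S.e 3 0 v), hcomm2]
        group
      rw [← e1, ← h2]
      group
    obtain ⟨b, hb, t, ht, h⟩ := key ((S.o 0 s * S.n1)⁻¹ * g) (by
      intro x hx
      have h4 := hg x hx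
      have h5 := U_J28 S _ (inv_mem hx1) _ h4
      have h6 := n1_J28 S _ h5
      rw [n1_inv] at h6
      have e : (S.o 0 s * S.n1)⁻¹ * g * x * ((S.o 0 s * S.n1)⁻¹ * g)⁻¹ =
          S.n1⁻¹ * ((S.o 0 s)⁻¹ * (g * x * g⁻¹) * (S.o 0 s)⁻¹⁻¹) * S.n1⁻¹⁻¹ := by group
      rw [e, n1_inv, n1_inv]
      exact h6) (by
      have e : (S.o 0 s * S.n1)⁻¹ * g * S.e 2 0 1 * ((S.o 0 s * S.n1)⁻¹ * g)⁻¹ =
          (S.o 0 s * S.n1)⁻¹ * (g * S.e 2 0 1 * g⁻¹) * (S.o 0 s * S.n1) := by group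
      rw [e, h3]
      exact ⟨v, rfl⟩)
    refine ⟨b, hb, t, ht, Or.inr ⟨S.o 0 s, hx1, ?_⟩⟩
    rw [← h]
    group

/-- **`U` is a Sylow 2-subgroup** -/
theorem exists_sylow [Finite F] [Finite G] (hR : S.R.p = 2) : ∃ P : Sylow 2 G, (P : Subgroup G) = J S.XZ 1 8 := by
  have Z := S.zsys8
  have hU2 : IsPGroup 2 (J S.XZ 1 8) := isPGroup_J Z (two_X S hR) 8 1 8 (by norm_num) (by norm_num)
  obtain ⟨P, hP⟩ := hU2.exists_le_sylow
  refine ⟨P, ?_⟩
  by_contra hne
  have hlt : J S.XZ 1 8 < (P : Subgroup G) := lt_of_le_of_ne hP (fun h => hne h.symm)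
  have hfact : Fact (Nat.Prime 2) := ⟨Nat.prime_two⟩
  have hnil : Group.IsNilpotent (P : Subgroup G) := P.2.isNilpotent
  have hnc := (Group.normalizerCondition_of_isNilpotent (G := (P : Subgroup G))) ((J S.XZ 1 8).subgroupOf P)
    (lt_top_iff_ne_top.2 fun h => by
      rw [Subgroup.subgroupOf_eq_top] at h
      exact absurd h (not_le_of_gt hlt))
  obtain ⟨g, hgN, hgU⟩ := SetLike.exists_of_lt hnc
  have hg : ∀ g : (P : Subgroup G), g ∈ Subgroup.normalizer ((J S.XZ 1 8).subgroupOf P : Set P) →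
      ∀ x ∈ J S.XZ 1 8, (g : G) * x * (g : G)⁻¹ ∈ J S.XZ 1 8 := by
    intro g hgN x hx
    exact (Subgroup.mem_normalizer_iff.1 hgN ⟨x, hP hx⟩).1 hx
  have hg' : ∀ x ∈ J S.XZ 1 8, (g : G)⁻¹ * x * (g : G) ∈ J S.XZ 1 8 := by
    intro x hx
    have h1 := hg g⁻¹ (inv_mem hgN) x hx
    have e : ((g⁻¹ : (P : Subgroup G)) : G) * x * ((g⁻¹ : (P : Subgroup G)) : G)⁻¹ = (g : G)⁻¹ * x * g := by
      rw [Subgroup.coe_inv, inv_inv]
    rwa [e] at h1
  obtain ⟨b, hb, t, ht, e⟩ := norm_U S (hg g hgN) hg'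
  obtain ⟨c, d, rfl⟩ := S.mem_T.1 ht
  have htP : S.h c d ∈ (P : Subgroup G) := by
    have e1 : S.h c d = b⁻¹ * g := by rw [e]; group
    rw [e1]; exact mul_mem (inv_mem (hP hb)) g.2
  obtain ⟨k, hk⟩ := P.2 ⟨_, htP⟩
  have hk' : S.h c d ^ (2 ^ k) = 1 := by
    have := congrArg Subtype.val hk
    simpa using this
  obtain ⟨rfl, rfl⟩ := torus_two S hk'
  apply hgU
  show (g : G) ∈ J S.XZ 1 8
  rw [e, S.h_one, mul_one]; exact hb

end Cfsg.Agent.H491.TF
end

-- part: H491/TF/Emb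
section
/-!
# The embedding of `U` into `²F₄(q)` (S5262, REAL)

* `Emb S T ι` : `ι : U → G` respects the root elements;
* `Fl S ψ` : `ψ τ` is the field automorphism `τ` of `G`;
* `rep` : every element of the torus, with a field automorphism, induces an automorphism `IsTor`, and conversely.
-/

set_option autoImplicit false
set_option linter.unusedSectionVars false

namespace Cfsg.Agent.H491.TF

open Cfsg Cfsg.FusionSystem Cfsg.Agent.H745.TF
open Cfsg.Agent.KFacts.TwF4 Cfsg.Agent.KFacts.TwF4.SylU Cfsg.Agent.KFacts.TwF4.Inv Cfsg.Agent.KFacts.TwF4.Arc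
open Cfsg.Agent.SplitTwo Cfsg.Agent.SplitTwo.ZS Cfsg.Agent.TitsThree.RankTwoZ

universe u v w

variable {K : Type u} [Field K] {σ : K →+* K} {G : Type w} [Group G] (S : Full σ G) {U : Type v} [Group U]
  (T : Cfsg.Agent.H745.TF.TF σ U)

/-- `ι` respects the root elements -/
structure Emb (ι : U →* G) : Prop where
  inj : Function.Injective ι
  e1 : ∀ t, ι (T.x1 t) = S.o 0 t
  e2 : ∀ p u, ι (T.x2 p u) = S.e 1 p u
  e3 : ∀ t, ι (T.x3 t) = S.o 1 t
  e4 : ∀ p u, ι (T.x4 p u) = S.e 2 p u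
  e5 : ∀ t, ι (T.x5 t) = S.o 2 t
  e6 : ∀ p u, ι (T.x6 p u) = S.e 3 p u
  e7 : ∀ t, ι (T.x7 t) = S.o 3 t
  e8 : ∀ p u, ι (T.x8 p u) = S.e 4 p u

/-- the field automorphisms of `G` -/
structure Fl (ψ : (K ≃+* K) → MulAut G) : Prop where
  o : ∀ τ a t, ψ τ (S.o a t) = S.o a (τ t)
  e : ∀ τ a p u, ψ τ (S.e a p u) = S.e a (τ p) (τ u)

/-- homomorphisms which agree on the root elements are equal -/
theorem hom_ext {M : Type*} [Group M] {α β : U →* M} (h1 : ∀ t, α (T.x1 t) = β (T.x1 t))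
    (h2 : ∀ p u, α (T.x2 p u) = β (T.x2 p u)) (h3 : ∀ t, α (T.x3 t) = β (T.x3 t))
    (h4 : ∀ p u, α (T.x4 p u) = β (T.x4 p u)) (h5 : ∀ t, α (T.x5 t) = β (T.x5 t))
    (h6 : ∀ p u, α (T.x6 p u) = β (T.x6 p u)) (h7 : ∀ t, α (T.x7 t) = β (T.x7 t))
    (h8 : ∀ p u, α (T.x8 p u) = β (T.x8 p u)) : α = β := by
  ext x
  obtain ⟨c, rfl⟩ := T.bij.2 x
  simp only [map_mul, h1, h2, h3, h4, h5, h6, h7, h8]

/-- a subgroup containing the root elements is everything -/
theorem mem_of_roots {H : Subgroup U} (h1 : ∀ t, T.x1 t ∈ H) (h2 : ∀ p u, T.x2 p u ∈ H) (h3 : ∀ t, T.x3 t ∈ H)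
    (h4 : ∀ p u, T.x4 p u ∈ H) (h5 : ∀ t, T.x5 t ∈ H) (h6 : ∀ p u, T.x6 p u ∈ H) (h7 : ∀ t, T.x7 t ∈ H)
    (h8 : ∀ p u, T.x8 p u ∈ H) (x : U) : x ∈ H := by
  obtain ⟨c, rfl⟩ := T.bij.2 x
  exact mul_mem (mul_mem (mul_mem (mul_mem (mul_mem (mul_mem (mul_mem (h1 _) (h2 _ _)) (h3 _)) (h4 _ _)) (h5 _))
    (h6 _ _)) (h7 _)) (h8 _ _)

/-! ### elements of the root groups -/

theorem cX {k : ℤ} (h1 : 1 ≤ k) (h2 : k ≤ 8) {x : G} (hx : x ∈ S.XZ k) :
    (k = 1 ∧ ∃ t, S.o 0 t = x) ∨ (k = 2 ∧ ∃ p u, S.e 1 p u = x) ∨ (k = 3 ∧ ∃ t, S.o 1 t = x) ∨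
    (k = 4 ∧ ∃ p u, S.e 2 p u = x) ∨ (k = 5 ∧ ∃ t, S.o 2 t = x) ∨ (k = 6 ∧ ∃ p u, S.e 3 p u = x) ∨
    (k = 7 ∧ ∃ t, S.o 3 t = x) ∨ (k = 8 ∧ ∃ p u, S.e 4 p u = x) := by
  have : k = 1 ∨ k = 2 ∨ k = 3 ∨ k = 4 ∨ k = 5 ∨ k = 6 ∨ k = 7 ∨ k = 8 := by omega
  rcases this with rfl | rfl | rfl | rfl | rfl | rfl | rfl | rfl
  · exact Or.inl ⟨rfl, S.X1 hx⟩
  · exact Or.inr (Or.inl ⟨rfl, S.X2 hx⟩)
  · exact Or.inr (Or.inr (Or.inl ⟨rfl, S.X3 hx⟩))
  · exact Or.inr (Or.inr (Or.inr (Or.inl ⟨rfl, S.X4 hx⟩)))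
  · exact Or.inr (Or.inr (Or.inr (Or.inr (Or.inl ⟨rfl, S.X5 hx⟩))))
  · exact Or.inr (Or.inr (Or.inr (Or.inr (Or.inr (Or.inl ⟨rfl, S.X6 hx⟩)))))
  · exact Or.inr (Or.inr (Or.inr (Or.inr (Or.inr (Or.inr (Or.inl ⟨rfl, S.X7 hx⟩))))))
  · exact Or.inr (Or.inr (Or.inr (Or.inr (Or.inr (Or.inr (Or.inr ⟨rfl, S.X8 hx⟩))))))

variable {S T} {ι : U →* G} (E : Emb S T ι)

include E

theorem Emb.mem (x : U) : ι x ∈ J S.XZ 1 8 := by
  have h : ∀ x, x ∈ (J S.XZ 1 8).comap ι := by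
    refine mem_of_roots T ?_ ?_ ?_ ?_ ?_ ?_ ?_ ?_
    · intro t; show ι _ ∈ J S.XZ 1 8; rw [E.e1]; exact mem_J (S.mX1 t) (by norm_num) (by norm_num)
    · intro p u; show ι _ ∈ J S.XZ 1 8; rw [E.e2]; exact mem_J (S.mX2 p u) (by norm_num) (by norm_num)
    · intro t; show ι _ ∈ J S.XZ 1 8; rw [E.e3]; exact mem_J (S.mX3 t) (by norm_num) (by norm_num)
    · intro p u; show ι _ ∈ J S.XZ 1 8; rw [E.e4]; exact mem_J (S.mX4 p u) (by norm_num) (by norm_num)
    · intro t; show ι _ ∈ J S.XZ 1 8; rw [E.e5]; exact mem_J (S.mX5 t) (by norm_num) (by norm_num)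
    · intro p u; show ι _ ∈ J S.XZ 1 8; rw [E.e6]; exact mem_J (S.mX6 p u) (by norm_num) (by norm_num)
    · intro t; show ι _ ∈ J S.XZ 1 8; rw [E.e7]; exact mem_J (S.mX7 t) (by norm_num) (by norm_num)
    · intro p u; show ι _ ∈ J S.XZ 1 8; rw [E.e8]; exact mem_J (S.mX8 p u) (by norm_num) (by norm_num)
  exact h x

theorem Emb.X_le_map {k : ℤ} (h1 : 1 ≤ k) (h2 : k ≤ 8) {H : Subgroup U}
    (a1 : k = 1 → ∀ t, T.x1 t ∈ H) (a2 : k = 2 → ∀ p u, T.x2 p u ∈ H) (a3 : k = 3 → ∀ t, T.x3 t ∈ H)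
    (a4 : k = 4 → ∀ p u, T.x4 p u ∈ H) (a5 : k = 5 → ∀ t, T.x5 t ∈ H) (a6 : k = 6 → ∀ p u, T.x6 p u ∈ H)
    (a7 : k = 7 → ∀ t, T.x7 t ∈ H) (a8 : k = 8 → ∀ p u, T.x8 p u ∈ H) : S.XZ k ≤ H.map ι := by
  intro x hx
  rcases cX S h1 h2 hx with ⟨h, t, rfl⟩ | ⟨h, p, u, rfl⟩ | ⟨h, t, rfl⟩ | ⟨h, p, u, rfl⟩ | ⟨h, t, rfl⟩ | ⟨h, p, u, rfl⟩ |
    ⟨h, t, rfl⟩ | ⟨h, p, u, rfl⟩
  · exact ⟨_, a1 h t, E.e1 t⟩
  · exact ⟨_, a2 h p u, E.e2 p u⟩
  · exact ⟨_, a3 h t, E.e3 t⟩
  · exact ⟨_, a4 h p u, E.e4 p u⟩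
  · exact ⟨_, a5 h t, E.e5 t⟩
  · exact ⟨_, a6 h p u, E.e6 p u⟩
  · exact ⟨_, a7 h t, E.e7 t⟩
  · exact ⟨_, a8 h p u, E.e8 p u⟩

theorem Emb.range_eq : ι.range = J S.XZ 1 8 := by
  apply le_antisymm
  · rintro _ ⟨x, rfl⟩
    exact E.mem x
  · rw [MonoidHom.range_eq_map]
    exact J_le fun k h1 h2 => E.X_le_map h1 h2 (fun _ _ => Subgroup.mem_top _) (fun _ _ _ => Subgroup.mem_top _)
      (fun _ _ => Subgroup.mem_top _) (fun _ _ _ => Subgroup.mem_top _) (fun _ _ => Subgroup.mem_top _)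
      (fun _ _ _ => Subgroup.mem_top _) (fun _ _ => Subgroup.mem_top _) (fun _ _ _ => Subgroup.mem_top _)

theorem Emb.surj {y : G} (hy : y ∈ J S.XZ 1 8) : ∃ x, ι x = y := by
  rw [← E.range_eq] at hy
  exact hy

theorem Emb.mem_QA (x : U) : x ∈ T.QA ↔ ι x ∈ J S.XZ 1 7 := by
  constructor
  · have h : T.QA ≤ (J S.XZ 1 7).comap ι := by
      unfold TF.QA TF.X1 TF.X2 TF.X3 TF.X4 TF.X5 TF.X6 TF.X7
      simp only [sup_le_iff, Subgroup.closure_le]
      refine ⟨⟨⟨⟨⟨⟨?_, ?_⟩, ?_⟩, ?_⟩, ?_⟩, ?_⟩, ?_⟩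
      · rintro _ ⟨t, rfl⟩; show ι _ ∈ J S.XZ 1 7; rw [E.e1]; exact mem_J (S.mX1 t) (by norm_num) (by norm_num)
      · rintro _ ⟨p, u, rfl⟩; show ι _ ∈ J S.XZ 1 7; rw [E.e2]; exact mem_J (S.mX2 p u) (by norm_num) (by norm_num)
      · rintro _ ⟨t, rfl⟩; show ι _ ∈ J S.XZ 1 7; rw [E.e3]; exact mem_J (S.mX3 t) (by norm_num) (by norm_num)
      · rintro _ ⟨p, u, rfl⟩; show ι _ ∈ J S.XZ 1 7; rw [E.e4]; exact mem_J (S.mX4 p u) (by norm_num) (by norm_num)
      · rintro _ ⟨t, rfl⟩; show ι _ ∈ J S.XZ 1 7; rw [E.e5]; exact mem_J (S.mX5 t) (by norm_num) (by norm_num)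
      · rintro _ ⟨p, u, rfl⟩; show ι _ ∈ J S.XZ 1 7; rw [E.e6]; exact mem_J (S.mX6 p u) (by norm_num) (by norm_num)
      · rintro _ ⟨t, rfl⟩; show ι _ ∈ J S.XZ 1 7; rw [E.e7]; exact mem_J (S.mX7 t) (by norm_num) (by norm_num)
    exact fun hx => h hx
  · intro hx
    have h : J S.XZ 1 7 ≤ T.QA.map ι := by
      refine J_le fun k h1 h2 => E.X_le_map h1 (by omega) ?_ ?_ ?_ ?_ ?_ ?_ ?_ ?_
      · intro _ t
        exact (le_sup_of_le_left (le_sup_of_le_left (le_sup_of_le_left (le_sup_of_le_left (le_sup_of_le_left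
          (le_sup_of_le_left le_rfl))))) : T.X1 ≤ T.QA) (Subgroup.subset_closure ⟨t, rfl⟩)
      · intro _ p u
        exact (le_sup_of_le_left (le_sup_of_le_left (le_sup_of_le_left (le_sup_of_le_left (le_sup_of_le_left
          (le_sup_of_le_right le_rfl))))) : T.X2 ≤ T.QA) (Subgroup.subset_closure ⟨p, u, rfl⟩)
      · intro _ t
        exact (le_sup_of_le_left (le_sup_of_le_left (le_sup_of_le_left (le_sup_of_le_left
          (le_sup_of_le_right le_rfl)))) : T.X3 ≤ T.QA) (Subgroup.subset_closure ⟨t, rfl⟩)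
      · intro _ p u
        exact (le_sup_of_le_left (le_sup_of_le_left (le_sup_of_le_left
          (le_sup_of_le_right le_rfl))) : T.X4 ≤ T.QA) (Subgroup.subset_closure ⟨p, u, rfl⟩)
      · intro _ t
        exact (le_sup_of_le_left (le_sup_of_le_left
          (le_sup_of_le_right le_rfl)) : T.X5 ≤ T.QA) (Subgroup.subset_closure ⟨t, rfl⟩)
      · intro _ p u
        exact (le_sup_of_le_left (le_sup_of_le_right le_rfl) : T.X6 ≤ T.QA) (Subgroup.subset_closure ⟨p, u, rfl⟩)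
      · intro _ t
        exact (le_sup_of_le_right le_rfl : T.X7 ≤ T.QA) (Subgroup.subset_closure ⟨t, rfl⟩)
      · intro h
        omega
    obtain ⟨y, hy, hyx⟩ := h hx
    rwa [← E.inj hyx]

theorem Emb.mem_QB (x : U) : x ∈ T.QB ↔ ι x ∈ J S.XZ 2 8 := by
  constructor
  · have h : T.QB ≤ (J S.XZ 2 8).comap ι := by
      unfold TF.QB TF.X8 TF.X2 TF.X3 TF.X4 TF.X5 TF.X6 TF.X7
      simp only [sup_le_iff, Subgroup.closure_le]
      refine ⟨⟨⟨⟨⟨⟨?_, ?_⟩, ?_⟩, ?_⟩, ?_⟩, ?_⟩, ?_⟩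
      · rintro _ ⟨p, u, rfl⟩; show ι _ ∈ J S.XZ 2 8; rw [E.e2]; exact mem_J (S.mX2 p u) (by norm_num) (by norm_num)
      · rintro _ ⟨t, rfl⟩; show ι _ ∈ J S.XZ 2 8; rw [E.e3]; exact mem_J (S.mX3 t) (by norm_num) (by norm_num)
      · rintro _ ⟨p, u, rfl⟩; show ι _ ∈ J S.XZ 2 8; rw [E.e4]; exact mem_J (S.mX4 p u) (by norm_num) (by norm_num)
      · rintro _ ⟨t, rfl⟩; show ι _ ∈ J S.XZ 2 8; rw [E.e5]; exact mem_J (S.mX5 t) (by norm_num) (by norm_num)
      · rintro _ ⟨p, u, rfl⟩; show ι _ ∈ J S.XZ 2 8; rw [E.e6]; exact mem_J (S.mX6 p u) (by norm_num) (by norm_num)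
      · rintro _ ⟨t, rfl⟩; show ι _ ∈ J S.XZ 2 8; rw [E.e7]; exact mem_J (S.mX7 t) (by norm_num) (by norm_num)
      · rintro _ ⟨p, u, rfl⟩; show ι _ ∈ J S.XZ 2 8; rw [E.e8]; exact mem_J (S.mX8 p u) (by norm_num) (by norm_num)
    exact fun hx => h hx
  · intro hx
    have h : J S.XZ 2 8 ≤ T.QB.map ι := by
      refine J_le fun k h1 h2 => E.X_le_map (by omega) h2 ?_ ?_ ?_ ?_ ?_ ?_ ?_ ?_
      · intro h
        omega
      · intro _ p u
        exact (le_sup_of_le_left (le_sup_of_le_left (le_sup_of_le_left (le_sup_of_le_left (le_sup_of_le_left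
          (le_sup_of_le_left le_rfl))))) : T.X2 ≤ T.QB) (Subgroup.subset_closure ⟨p, u, rfl⟩)
      · intro _ t
        exact (le_sup_of_le_left (le_sup_of_le_left (le_sup_of_le_left (le_sup_of_le_left (le_sup_of_le_left
          (le_sup_of_le_right le_rfl))))) : T.X3 ≤ T.QB) (Subgroup.subset_closure ⟨t, rfl⟩)
      · intro _ p u
        exact (le_sup_of_le_left (le_sup_of_le_left (le_sup_of_le_left (le_sup_of_le_left
          (le_sup_of_le_right le_rfl)))) : T.X4 ≤ T.QB) (Subgroup.subset_closure ⟨p, u, rfl⟩)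
      · intro _ t
        exact (le_sup_of_le_left (le_sup_of_le_left (le_sup_of_le_left
          (le_sup_of_le_right le_rfl))) : T.X5 ≤ T.QB) (Subgroup.subset_closure ⟨t, rfl⟩)
      · intro _ p u
        exact (le_sup_of_le_left (le_sup_of_le_left
          (le_sup_of_le_right le_rfl)) : T.X6 ≤ T.QB) (Subgroup.subset_closure ⟨p, u, rfl⟩)
      · intro _ t
        exact (le_sup_of_le_left (le_sup_of_le_right le_rfl) : T.X7 ≤ T.QB) (Subgroup.subset_closure ⟨t, rfl⟩)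
      · intro _ p u
        exact (le_sup_of_le_right le_rfl : T.X8 ≤ T.QB) (Subgroup.subset_closure ⟨p, u, rfl⟩)
    obtain ⟨y, hy, hyx⟩ := h hx
    rwa [← E.inj hyx]

omit E in
/-- lifting automorphisms along an injective homomorphism -/
theorem exists_lift {H : Type*} [Group H] (j : H →* G) (hj : Function.Injective j) (β : MulAut G)
    (h : ∀ x, ∃ y, j y = β (j x)) (h' : ∀ x, ∃ y, j y = β⁻¹ (j x)) : ∃ γ : MulAut H, ∀ x, j (γ x) = β (j x) := by
  choose f hf using h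
  choose f' hf' using h'
  refine ⟨{ toFun := f
            invFun := f'
            left_inv := fun x => hj (by rw [hf', hf, MulAut.inv_apply_self])
            right_inv := fun x => hj (by rw [hf, hf', MulAut.apply_inv_self])
            map_mul' := fun x y => hj (by rw [hf, map_mul, map_mul, map_mul, hf, hf]) }, fun x => hf x⟩

omit E

/-! ### field automorphisms -/

section fl

variable {ψ : (K ≃+* K) → MulAut G} (P : Fl S ψ)

include P

theorem Fl.X (τ : K ≃+* K) (k : ZMod (2 * 8)) (x : G) : ψ τ x ∈ S.R.X k ↔ x ∈ S.R.X k := by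
  rcases od_or_ev k with ⟨a, rfl⟩ | ⟨a, rfl⟩
  · rw [S.mem_odd, S.mem_odd]
    constructor
    · rintro ⟨t, ht⟩
      refine ⟨τ.symm t, (ψ τ).injective ?_⟩
      rw [P.o, RingEquiv.apply_symm_apply, ht]
    · rintro ⟨t, rfl⟩
      exact ⟨τ t, (P.o τ a t).symm⟩
  · rw [S.mem_even, S.mem_even]
    constructor
    · rintro ⟨t, u, ht⟩
      refine ⟨τ.symm t, τ.symm u, (ψ τ).injective ?_⟩
      rw [P.e, RingEquiv.apply_symm_apply, RingEquiv.apply_symm_apply, ht]
    · rintro ⟨t, u, rfl⟩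
      exact ⟨τ t, τ u, (P.e τ a t u).symm⟩

theorem Fl.mem_T (τ : K ≃+* K) {t : G} (ht : t ∈ S.T) : ψ τ t ∈ S.T := by
  intro k x
  have h1 : ψ τ t * x * (ψ τ t)⁻¹ = ψ τ (t * (ψ τ)⁻¹ x * t⁻¹) := by
    rw [map_mul, map_mul, map_inv, MulAut.apply_inv_self]
  have h2 : t * (ψ τ)⁻¹ x * t⁻¹ ∈ S.R.X k ↔ (ψ τ)⁻¹ x ∈ S.R.X k := ht k _
  show ψ τ t * x * (ψ τ t)⁻¹ ∈ S.R.X k ↔ _
  rw [h1, P.X, h2, ← P.X τ k ((ψ τ)⁻¹ x), MulAut.apply_inv_self]

theorem Fl.refl : ψ (RingEquiv.refl K) = 1 :=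
  S2128.aut_ext S (fun a t => P.o _ a t) (fun a p u => P.e _ a p u)

theorem Fl.trans (τ τ' : K ≃+* K) : ψ (τ'.trans τ) = ψ τ * ψ τ' := by
  refine S2128.aut_ext S (fun a t => ?_) (fun a p u => ?_)
  · rw [P.o, MulAut.mul_apply, P.o, P.o]; rfl
  · rw [P.e, MulAut.mul_apply, P.e, P.e]; rfl

theorem Fl.symm (τ : K ≃+* K) : ψ τ.symm = (ψ τ)⁻¹ := by
  have h := P.trans τ.symm τ
  rw [RingEquiv.self_trans_symm, P.refl] at h
  exact eq_inv_of_mul_eq_one_left h.symm

theorem Fl.J_le {a b : ℤ} (τ : K ≃+* K) {x : G} (hx : x ∈ J S.XZ a b) : ψ τ x ∈ J S.XZ a b := by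
  have h : J S.XZ a b ≤ (J S.XZ a b).comap (ψ τ).toMonoidHom := by
    refine ZS.J_le fun k h1 h2 y hy => ?_
    exact mem_J (k := k) ((P.X τ _ y).2 hy) h1 h2
  exact h hx

theorem Fl.J {a b : ℤ} (τ : K ≃+* K) (x : G) : ψ τ x ∈ J S.XZ a b ↔ x ∈ J S.XZ a b := by
  refine ⟨fun hx => ?_, P.J_le τ⟩
  have h := P.J_le τ.symm hx
  rwa [P.symm, MulAut.inv_apply_self] at h

end fl

/-! ### the automorphisms of the torus -/

section tor

variable {ψ : (K ≃+* K) → MulAut G} (P : Fl S ψ)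

include E P

theorem tor_iff {α : MulAut U} {f g : K} (hf : f ≠ 0) (hg : g ≠ 0) {τ : K ≃+* K} {c d : Kˣ} (hc : (c : K) = g⁻¹)
    (hd : (d : K) = f * g) :
    T.IsTor α f g τ ↔ ∀ x, ι (α x) = S.h c d * ψ τ (ι x) * (S.h c d)⁻¹ := by
  have hσg : σ g ≠ 0 := (map_ne_zero σ).2 hg
  have v0 : (chO σ 0 c d : K) = f := by
    have : chO σ 0 c d = chE σ 0 c d * chE σ 1 c d := rfl
    rw [this, chE_zero, chE_one, Units.val_mul, hc, hd]
    field_simp
  have v1 : (chE σ 1 c d : K) = f * g := by rw [chE_one, hd]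
  have v2 : (chE σ 2 c d : K) = σ (f * g) * g := by
    rw [chE_two, Units.val_div_eq_div_val, Units.coe_map, hc]
    show σ (d : K) / g⁻¹ = _
    rw [hd]
    field_simp
  have v3 : (chE σ 3 c d : K) = f * g * σ g := by
    rw [chE_three, Units.val_div_eq_div_val, Units.coe_map, hd]
    show f * g / σ (c : K) = _
    rw [hc, map_inv₀]
    field_simp
  have v4 : (chE σ 4 c d : K) = g := by
    rw [chE_four, Units.val_inv_eq_inv_val, hc, inv_inv]
  have w1 : (chO σ 1 c d : K) = f * g * σ (f * g) * g := by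
    have : chO σ 1 c d = chE σ 1 c d * chE σ 2 c d := rfl
    rw [this, Units.val_mul, v1, v2]
    ring
  have w2 : (chO σ 2 c d : K) = f * σ f * g ^ 2 * σ g ^ 2 := by
    have : chO σ 2 c d = chE σ 2 c d * chE σ 3 c d := rfl
    rw [this, Units.val_mul, v2, v3, map_mul]
    ring
  have w3 : (chO σ 3 c d : K) = f * g ^ 2 * σ g := by
    have : chO σ 3 c d = chE σ 3 c d * chE σ 4 c d := rfl
    rw [this, Units.val_mul, v3, v4]
    ring
  constructor
  · intro h x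
    have key : ι.comp α.toMonoidHom = (MulAut.conj (S.h c d)).toMonoidHom.comp ((ψ τ).toMonoidHom.comp ι) := by
      refine hom_ext T ?_ ?_ ?_ ?_ ?_ ?_ ?_ ?_
      · intro t
        show ι (α (T.x1 t)) = S.h c d * ψ τ (ι (T.x1 t)) * (S.h c d)⁻¹
        rw [h.e1, E.e1, E.e1, P.o, S.h_o, v0]
      · intro p u
        show ι (α (T.x2 p u)) = S.h c d * ψ τ (ι (T.x2 p u)) * (S.h c d)⁻¹
        rw [h.e2, E.e2, E.e2, P.e, S.h_e, v1]
      · intro t
        show ι (α (T.x3 t)) = S.h c d * ψ τ (ι (T.x3 t)) * (S.h c d)⁻¹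
        rw [h.e3, E.e3, E.e3, P.o, S.h_o, w1]
      · intro p u
        show ι (α (T.x4 p u)) = S.h c d * ψ τ (ι (T.x4 p u)) * (S.h c d)⁻¹
        rw [h.e4, E.e4, E.e4, P.e, S.h_e, v2]
      · intro t
        show ι (α (T.x5 t)) = S.h c d * ψ τ (ι (T.x5 t)) * (S.h c d)⁻¹
        rw [h.e5, E.e5, E.e5, P.o, S.h_o, w2]
      · intro p u
        show ι (α (T.x6 p u)) = S.h c d * ψ τ (ι (T.x6 p u)) * (S.h c d)⁻¹
        rw [h.e6, E.e6, E.e6, P.e, S.h_e, v3]
      · intro t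
        show ι (α (T.x7 t)) = S.h c d * ψ τ (ι (T.x7 t)) * (S.h c d)⁻¹
        rw [h.e7, E.e7, E.e7, P.o, S.h_o, w3]
      · intro p u
        show ι (α (T.x8 p u)) = S.h c d * ψ τ (ι (T.x8 p u)) * (S.h c d)⁻¹
        rw [h.e8, E.e8, E.e8, P.e, S.h_e, v4]
    exact DFunLike.congr_fun key x
  · intro h
    refine ⟨hf, hg, ?_, ?_, ?_, ?_, ?_, ?_, ?_, ?_⟩
    · intro t
      apply E.inj
      rw [h, E.e1, E.e1, P.o, S.h_o, v0]
    · intro p u
      apply E.inj
      rw [h, E.e2, E.e2, P.e, S.h_e, v1]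
    · intro t
      apply E.inj
      rw [h, E.e3, E.e3, P.o, S.h_o, w1]
    · intro p u
      apply E.inj
      rw [h, E.e4, E.e4, P.e, S.h_e, v2]
    · intro t
      apply E.inj
      rw [h, E.e5, E.e5, P.o, S.h_o, w2]
    · intro p u
      apply E.inj
      rw [h, E.e6, E.e6, P.e, S.h_e, v3]
    · intro t
      apply E.inj
      rw [h, E.e7, E.e7, P.o, S.h_o, w3]
    · intro p u
      apply E.inj
      rw [h, E.e8, E.e8, P.e, S.h_e, v4]

theorem rep_tor {α : MulAut U} {f g : K} {τ : K ≃+* K} (h : T.IsTor α f g τ) :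
    ∃ t ∈ S.T, ∀ x, ι (α x) = t * ψ τ (ι x) * t⁻¹ :=
  ⟨S.h (Units.mk0 g h.ng)⁻¹ (Units.mk0 (f * g) (mul_ne_zero h.nf h.ng)), S.mem_T.2 ⟨_, _, rfl⟩,
    (tor_iff E P h.nf h.ng (by rw [Units.val_inv_eq_inv_val]; rfl) rfl).1 h⟩

theorem tor_rep {α : MulAut U} {c d : Kˣ} {τ : K ≃+* K}
    (h : ∀ x, ι (α x) = S.h c d * ψ τ (ι x) * (S.h c d)⁻¹) : T.IsTor α (c * d) (c : K)⁻¹ τ := by
  refine (tor_iff E P (mul_ne_zero c.ne_zero d.ne_zero) (inv_ne_zero c.ne_zero) (inv_inv _).symm ?_).2 h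
  have := c.ne_zero
  field_simp

theorem exists_rep {t : G} (ht : t ∈ S.T) (τ : K ≃+* K) : ∃ α : MulAut U, ∀ x, ι (α x) = t * ψ τ (ι x) * t⁻¹ := by
  refine exists_lift ι E.inj (MulAut.conj t * ψ τ) (fun x => ?_) fun x => ?_
  · refine E.surj ?_
    show t * ψ τ (ι x) * t⁻¹ ∈ _
    exact S.T_conj_J ht ((P.J τ _).2 (E.mem x))
  · refine E.surj ?_
    rw [mul_inv_rev, ← map_inv, MulAut.mul_apply, MulAut.conj_apply, ← P.symm]
    exact (P.J _ _).2 (S.T_conj_J (inv_mem ht) (E.mem x))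

theorem mem_TT {α : MulAut U} (hα : α ∈ T.TT) :
    ∃ t ∈ S.T, ∃ τ : K ≃+* K, ∀ x, ι (α x) = t * ψ τ (ι x) * t⁻¹ := by
  unfold TF.TT at hα
  induction hα using Subgroup.closure_induction with
  | mem α h =>
    obtain ⟨f, g, τ, h⟩ := h
    obtain ⟨t, ht, h1⟩ := rep_tor E P h
    exact ⟨t, ht, τ, h1⟩
  | one => exact ⟨1, one_mem _, RingEquiv.refl K, fun x => by rw [P.refl]; simp⟩
  | mul α β _ _ hα hβ =>
    obtain ⟨t, ht, τ, h1⟩ := hα
    obtain ⟨t', ht', τ', h2⟩ := hβ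
    refine ⟨t * ψ τ t', mul_mem ht (P.mem_T τ ht'), τ'.trans τ, fun x => ?_⟩
    rw [MulAut.mul_apply, h1, h2, P.trans, MulAut.mul_apply, map_mul, map_mul, map_inv]
    group
  | inv α _ hα =>
    obtain ⟨t, ht, τ, h1⟩ := hα
    refine ⟨ψ τ.symm t⁻¹, P.mem_T _ (inv_mem ht), τ.symm, fun x => ?_⟩
    have h2 := h1 (α⁻¹ x)
    rw [MulAut.apply_inv_self] at h2
    have h3 : ψ τ (ι (α⁻¹ x)) = t⁻¹ * ι x * t := by rw [h2]; group
    apply (ψ τ).injective
    rw [h3]
    simp only [P.symm, map_mul, map_inv, MulAut.apply_inv_self, inv_inv]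

/-- the field automorphism is determined -/
theorem rep_unique {α : MulAut U} {t t' : G} (ht : t ∈ S.T) (ht' : t' ∈ S.T) {τ τ' : K ≃+* K}
    (h : ∀ x, ι (α x) = t * ψ τ (ι x) * t⁻¹) (h' : ∀ x, ι (α x) = t' * ψ τ' (ι x) * t'⁻¹) : τ = τ' := by
  obtain ⟨c, d, rfl⟩ := S.mem_T.1 ht
  obtain ⟨c', d', rfl⟩ := S.mem_T.1 ht'
  have key : ∀ a, (chO σ 0 c d : K) * τ a = chO σ 0 c' d' * τ' a := by
    intro a
    have h1 := (h (T.x1 a)).symm.trans (h' (T.x1 a))
    rw [E.e1, P.o, P.o, S.h_o, S.h_o] at h1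
    exact S.injO 0 h1
  have h1 := key 1
  rw [map_one, map_one, mul_one, mul_one] at h1
  ext a
  have h2 := key a
  rw [← h1] at h2
  exact mul_left_cancel₀ (Units.ne_zero _) h2

/-- `D` contains the whole torus -/
theorem full_torus [Finite K] {D : Subgroup (MulAut U)} (hA : T.HasA D) (hB : T.HasB D) {t : G} (ht : t ∈ S.T) :
    ∃ d ∈ D, ∀ x, ι (d x) = t * ι x * t⁻¹ := by
  obtain ⟨c, d, rfl⟩ := S.mem_T.1 ht
  -- `σ y / y` is everything
  let q : Kˣ →* Kˣ := Units.map (σ : K →* K) / MonoidHom.id Kˣ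
  have hq : ∀ y, q y = Units.map (σ : K →* K) y / y := fun y => rfl
  have hinj : Function.Injective q := by
    rw [injective_iff_map_eq_one]
    intro y hy
    rw [hq, div_eq_one] at hy
    have h1 : σ (y : K) = y := congrArg Units.val hy
    have h2 := S.sq (y : K)
    rw [h1, h1, pow_two] at h2
    exact Units.ext (mul_left_cancel₀ y.ne_zero (h2.symm.trans (mul_one _).symm))
  obtain ⟨y, hy⟩ := Finite.surjective_of_injective hinj (c / d)
  rw [hq] at hy
  have hone : ∀ x : G, x = ψ (RingEquiv.refl K) x := fun x => by rw [P.refl]; rfl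
  obtain ⟨α, hα⟩ := exists_rep E P (S.mem_T.2 ⟨Units.map (σ : K →* K) y, y, rfl⟩) (RingEquiv.refl K)
  obtain ⟨β, hβ⟩ := exists_rep E P (S.mem_T.2 ⟨d / y, d / y, rfl⟩) (RingEquiv.refl K)
  have hαD : α ∈ D := by
    refine hA (y : K) y.ne_zero α ?_
    have h1 := tor_rep E P hα
    rw [Units.coe_map, mul_comm] at h1
    exact h1
  have hβD : β ∈ D := by
    refine hB ((d / y : Kˣ) : K)⁻¹ (inv_ne_zero (Units.ne_zero _)) β ?_
    have h1 := tor_rep E P hβ
    have e : ((((d / y : Kˣ) : K)⁻¹) ^ 2)⁻¹ = ((d / y : Kˣ) : K) * ((d / y : Kˣ) : K) := by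
      rw [inv_pow, inv_inv, pow_two]
    rw [e]
    exact h1
  refine ⟨α * β, mul_mem hαD hβD, fun x => ?_⟩
  have h1 : S.h c d = S.h (Units.map (σ : K →* K) y) y * S.h (d / y) (d / y) := by
    rw [S.h_mul]
    congr 1
    · rw [div_eq_div_iff_mul_eq_mul] at hy
      rw [mul_div_assoc', hy, mul_comm c, mul_div_assoc, mul_comm, div_mul_cancel]
    · rw [mul_div_cancel]
  rw [MulAut.mul_apply, hα, hβ, ← hone, ← hone, h1]
  group

end tor

end Cfsg.Agent.H491.TF
end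

-- part: H491/TF/Real
section
/-!
# The fusion systems of `²F₄(q) ⋊ (field automorphisms)` (S5262, REAL)
-/

set_option autoImplicit false
set_option linter.unusedSectionVars false

namespace Cfsg.Agent.H491.TF

open Cfsg Cfsg.FusionSystem Cfsg.Agent.H745.TF Cfsg.Agent.H752 Cfsg.Agent.H802 Cfsg.Agent.H756.PU
open Cfsg.Agent.KFacts.TwF4 Cfsg.Agent.KFacts.TwF4.SylU Cfsg.Agent.KFacts.TwF4.Inv Cfsg.Agent.KFacts.TwF4.Arc
open Cfsg.Agent.SplitTwo Cfsg.Agent.SplitTwo.ZS Cfsg.Agent.TitsThree.RankTwoZ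

universe u v w

/-- the elements of `AF F` -/
theorem mem_AF {S : Type u} [Group S] (F : FusionSystem (⊤ : Subgroup S)) (θ : MulAut S) :
    θ ∈ AF F ↔ Mp F ⊤ θ := by
  constructor
  · rintro ⟨α, hα, rfl⟩
    have h1 := (mem_autGroup_iff F le_rfl α).1 hα
    refine ⟨_, h1, fun x hx => ?_⟩
    rfl
  · rintro ⟨φ, hφ, h1⟩
    refine ⟨(MulAut.congr Subgroup.topEquiv).symm θ, ?_, ?_⟩
    · refine (mem_autGroup_iff F le_rfl _).2 ?_
      refine mem_of_apply_eq hφ fun x => ?_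
      exact (h1 x x.2).symm
    · show (MulAut.congr Subgroup.topEquiv) ((MulAut.congr Subgroup.topEquiv).symm θ) = θ
      exact MulEquiv.apply_symm_apply _ _

section

variable {K : Type u} [Field K] {σ : K →+* K} {G : Type w} [Group G] {S : Full σ G} {U : Type v} [Group U]
  {T : Cfsg.Agent.H745.TF.TF σ U} {ι : U →* G} (E : Emb S T ι) {ψ : (K ≃+* K) → MulAut G} (P : Fl S ψ)

/-- the data of a parabolic subgroup -/
structure PD (E : Emb S T ι) (ψ : (K ≃+* K) → MulAut G) (Q : Subgroup U) (n : G) (W : MulAut Q → Prop) : Prop where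
  /-- the form of the normalising elements -/
  norm : ∀ g : G, (∀ x ∈ Q, ∃ y ∈ Q, ι y = g * ι x * g⁻¹) → (∀ x ∈ Q, ∃ y ∈ Q, ι y = g⁻¹ * ι x * g) →
    ∃ b ∈ J S.XZ 1 8, ∃ t ∈ S.T, g = b * t ∨ ∃ b' ∈ J S.XZ 1 8, g = b' * n * (b * t)
  tor : ∀ t ∈ S.T, ∀ x ∈ Q, ∃ y ∈ Q, ι y = t * ι x * t⁻¹
  fld : ∀ τ : K ≃+* K, ∀ x ∈ Q, ∃ y ∈ Q, ι y = ψ τ (ι x)
  nor : ∀ u : U, ∀ x ∈ Q, u * x * u⁻¹ ∈ Q
  refl : ∀ x ∈ Q, ∃ y ∈ Q, ι y = n * ι x * n⁻¹
  refl' : ∀ x ∈ Q, ∃ y ∈ Q, ι y = n⁻¹ * ι x * n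
  wey : ∀ γ : MulAut Q, W γ ↔ ∀ x : Q, ι (γ x : Q) = n * ι x * n⁻¹

variable {Q : Subgroup U} {n : G} {W : MulAut Q → Prop} (R : PD E ψ Q n W)

include R in
/-- conjugation by an element of `U` -/
theorem PD.exists_u (b : U) : ∃ γ ∈ autInducedBy (⊤ : Subgroup U) Q, ∀ x : Q, ι (γ x : Q) = ι b * ι x * (ι b)⁻¹ := by
  have hb : b ∈ Subgroup.normalizer (Q : Set U) := by
    rw [Subgroup.mem_normalizer_iff]
    intro x
    refine ⟨fun hx => R.nor b x hx, fun hx => ?_⟩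
    have h := R.nor b⁻¹ _ hx
    have e : b⁻¹ * (b * x * b⁻¹) * b⁻¹⁻¹ = x := by group
    rwa [e] at h
  obtain ⟨γ, hγ⟩ := exists_conjAut hb
  refine ⟨γ, (mem_autInducedBy_iff _ _ _).2 ⟨b, Subgroup.mem_top _, hγ⟩, fun x => ?_⟩
  rw [hγ, map_mul, map_mul, map_inv]

include R in
theorem PD.exists_n : ∃ γ, W γ ∧ ∀ x : Q, ι (γ x : Q) = n * ι x * n⁻¹ := by
  obtain ⟨γ, hγ⟩ := exists_lift (ι.comp Q.subtype) (E.inj.comp Subtype.coe_injective) (MulAut.conj n) (fun x => by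
    obtain ⟨y, hy, h⟩ := R.refl x x.2
    exact ⟨⟨y, hy⟩, h⟩) (fun x => by
    obtain ⟨y, hy, h⟩ := R.refl' x x.2
    refine ⟨⟨y, hy⟩, h.trans ?_⟩
    rw [← map_inv, MulAut.conj_apply, inv_inv]
    rfl)
  exact ⟨γ, (R.wey γ).2 hγ, hγ⟩

include P R in
/-- the restriction of a torus automorphism -/
theorem PD.exists_res {d : MulAut U} {t : G} (ht : t ∈ S.T) {τ : K ≃+* K} (h : ∀ x, ι (d x) = t * ψ τ (ι x) * t⁻¹) :
    ∃ δ : MulAut Q, TF.IsR d δ := by
  have h1 : ∀ x ∈ Q, d x ∈ Q := by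
    intro x hx
    obtain ⟨y, hy, h2⟩ := R.fld τ x hx
    obtain ⟨z, hz, h3⟩ := R.tor t ht y hy
    have : d x = z := E.inj (by rw [h, h3, h2])
    rw [this]; exact hz
  have h1' : ∀ x ∈ Q, d⁻¹ x ∈ Q := by
    intro x hx
    obtain ⟨z, hz, h3⟩ := R.tor t⁻¹ (inv_mem ht) x hx
    obtain ⟨y, hy, h2⟩ := R.fld τ.symm z hz
    have : x = d y := E.inj (by
      rw [h, h2, h3, P.symm, MulAut.apply_inv_self]
      group)
    rw [this, MulAut.inv_apply_self]; exact hy
  refine ⟨{ toFun := fun x => ⟨d x, h1 x x.2⟩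
            invFun := fun x => ⟨d⁻¹ x, h1' x x.2⟩
            left_inv := fun x => Subtype.ext (MulAut.inv_apply_self _ d _)
            right_inv := fun x => Subtype.ext (MulAut.apply_inv_self _ d _)
            map_mul' := fun x y => Subtype.ext (map_mul d _ _) }, fun e => rfl⟩

variable {D : Subgroup (MulAut U)} {F : FusionSystem (⊤ : Subgroup U)}

include E P R in
/-- **The automorphism group of a parabolic subgroup.** -/
theorem PD.std [Finite K] (hA : T.HasA D) (hB : T.HasB D) (hD : D ≤ T.TT)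
    (hF : ∀ (Q : Subgroup U) (f : U → U), Mp F Q f ↔ ∃ d ∈ D, ∃ t ∈ S.T, ∃ τ : K ≃+* K,
      (∀ x, ι (d x) = t * ψ τ (ι x) * t⁻¹) ∧ ∃ g : G, ∀ x ∈ Q, ι (f x) = g * ψ τ (ι x) * g⁻¹) :
    TF.Std (autInducedBy ⊤ Q ⊔ Subgroup.closure {γ | W γ}) (F.autGroup Q) D := by
  classical
  -- the elements of the automorphism group
  have hmem : ∀ γ : MulAut Q, γ ∈ F.autGroup Q ↔ ∃ d ∈ D, ∃ t ∈ S.T, ∃ τ : K ≃+* K,
      (∀ x, ι (d x) = t * ψ τ (ι x) * t⁻¹) ∧ ∃ g : G, ∀ x : Q, ι (γ x : Q) = g * ψ τ (ι x) * g⁻¹ := by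
    intro γ
    rw [mem_autGroup_iff F le_top]
    let φ : Q →* U := Q.subtype.comp γ.toMonoidHom
    have h1 : φ ∈ F.Hom Q ↔ Mp F Q (ex φ) := by
      constructor
      · exact fun h => mp_ex h
      · intro h
        exact h.mem_hom fun x hx => (ex_apply (φ : Q → U) hx).symm
    show φ ∈ F.Hom Q ↔ _
    rw [h1, hF]
    constructor
    · rintro ⟨d, hd, t, ht, τ, h2, g, h3⟩
      refine ⟨d, hd, t, ht, τ, h2, g, fun x => ?_⟩
      rw [← h3 x x.2, ex_coe]
      rfl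
    · rintro ⟨d, hd, t, ht, τ, h2, g, h3⟩
      refine ⟨d, hd, t, ht, τ, h2, g, fun x hx => ?_⟩
      rw [ex_apply (φ : Q → U) hx]
      exact h3 ⟨x, hx⟩
  have hone : ∀ x : G, ψ (RingEquiv.refl K) x = x := fun x => by rw [P.refl]; rfl
  -- `Λ ≤ Γ`
  have hle : autInducedBy ⊤ Q ⊔ Subgroup.closure {γ | W γ} ≤ F.autGroup Q := by
    refine sup_le (autInducedBy_le_autGroup F le_top) ?_
    rw [Subgroup.closure_le]
    intro γ hγ
    refine (hmem γ).2 ⟨1, one_mem _, 1, one_mem _, RingEquiv.refl K, fun x => by rw [hone]; simp, n, fun x => ?_⟩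
    rw [(R.wey γ).1 hγ, hone]
  have hu : ∀ b ∈ J S.XZ 1 8, ∃ γ ∈ autInducedBy (⊤ : Subgroup U) Q, ∀ x : Q, ι (γ x : Q) = b * ι x * b⁻¹ := by
    intro b hb
    obtain ⟨b, rfl⟩ := E.surj hb
    exact R.exists_u E b
  intro γ
  constructor
  · intro hγ
    obtain ⟨d, hd, t, ht, τ, h1, g, h2⟩ := (hmem γ).1 hγ
    -- `g` normalises `Q`
    obtain ⟨b, hb, s, hs, hg⟩ := R.norm g (fun x hx => by
      obtain ⟨y, hy, h3⟩ := R.fld τ.symm x hx
      refine ⟨γ ⟨y, hy⟩, (γ _).2, ?_⟩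
      rw [h2]
      show g * ψ τ (ι y) * g⁻¹ = _
      rw [h3, P.symm, MulAut.apply_inv_self]) (fun x hx => by
      have h3 := h2 (γ⁻¹ ⟨x, hx⟩)
      rw [MulAut.apply_inv_self] at h3
      obtain ⟨y, hy, h4⟩ := R.fld τ (γ⁻¹ ⟨x, hx⟩ : Q) (γ⁻¹ ⟨x, hx⟩ : Q).2
      refine ⟨y, hy, ?_⟩
      rw [h4]
      show _ = g⁻¹ * ι ((⟨x, hx⟩ : Q) : U) * g
      rw [h3]
      group)
    -- the torus part
    obtain ⟨d', hd', h3⟩ := full_torus E P hA hB (mul_mem hs (inv_mem ht))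
    have h4 : ∀ x, ι ((d' * d) x) = s * ψ τ (ι x) * s⁻¹ := by
      intro x
      rw [MulAut.mul_apply, h3, h1]
      group
    obtain ⟨δ, hδ⟩ := R.exists_res E P hs h4
    obtain ⟨lb, hlb, hlb'⟩ := hu b hb
    rcases hg with hg | ⟨b', hb', hg⟩
    · refine ⟨lb, (le_sup_left : autInducedBy ⊤ Q ≤ _) hlb, d' * d, mul_mem hd' hd, δ, hδ, ?_⟩
      apply MulEquiv.ext
      intro x
      apply Subtype.ext
      apply E.inj
      rw [h2, MulAut.mul_apply, hlb', hδ, h4, hg]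
      group
    · obtain ⟨lb2, hlb2, hlb2'⟩ := hu b' hb'
      obtain ⟨ν, hν, hν'⟩ := R.exists_n E
      refine ⟨lb2 * ν * lb, mul_mem (mul_mem ((le_sup_left : autInducedBy ⊤ Q ≤ _) hlb2)
        ((le_sup_right : Subgroup.closure {γ | W γ} ≤ _) (Subgroup.subset_closure hν)))
        ((le_sup_left : autInducedBy ⊤ Q ≤ _) hlb), d' * d, mul_mem hd' hd, δ, hδ, ?_⟩
      apply MulEquiv.ext
      intro x
      apply Subtype.ext
      apply E.inj
      rw [h2, MulAut.mul_apply, MulAut.mul_apply, MulAut.mul_apply, hlb2', hν', hlb', hδ, h4, hg]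
      group
  · rintro ⟨l, hl, d, hd, δ, hδ, rfl⟩
    refine mul_mem (hle hl) ?_
    obtain ⟨t, ht, τ, h1⟩ := mem_TT E P (hD hd)
    refine (hmem δ).2 ⟨d, hd, t, ht, τ, h1, t, fun x => ?_⟩
    rw [hδ, h1]

include E P in
/-- **The fusion systems**, abstract form. -/
theorem real_full [Finite K] [Finite G] (hR : S.R.p = 2) (hD : D ≤ T.TT) (hDc : (Nat.card D).Coprime 2)
    (hA : T.HasA D) (hB : T.HasB D) :
    ∃ F : FusionSystem (⊤ : Subgroup U), F.IsSaturated 2 ∧ F.IsRealizable 2 ∧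
      AF F = (MulAut.conj : U →* MulAut U).range ⊔ D ∧
      (∀ (Q : Subgroup U) (f : U → U), Mp F Q f ↔ ∃ d ∈ D, ∃ t ∈ S.T, ∃ τ : K ≃+* K,
      (∀ x, ι (d x) = t * ψ τ (ι x) * t⁻¹) ∧ ∃ g : G, ∀ x ∈ Q, ι (f x) = g * ψ τ (ι x) * g⁻¹) := by
  classical
  have hfact : Fact (Nat.Prime 2) := ⟨Nat.prime_two⟩
  have hfin : Finite U := Finite.of_injective ι E.inj
  have hone : ∀ x : G, ψ (RingEquiv.refl K) x = x := fun x => by rw [P.refl]; rfl
  obtain ⟨Py, hPy⟩ := exists_sylow S hR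
  let e : U ≃* ↥(Py : Subgroup G) := (MonoidHom.ofInjective E.inj).trans
    (MulEquiv.subgroupCongr (E.range_eq.trans hPy.symm))
  have he : ∀ x, ((e x : ↥(Py : Subgroup G)) : G) = ι x := fun x => rfl
  -- the homomorphism `D → Aut G`
  choose t ht τ h1 using fun d : D => mem_TT E P (hD d.2)
  have huniq : ∀ (d : D) {t' : G} (_ : t' ∈ S.T) {τ' : K ≃+* K}
      (_ : ∀ x, ι ((d : MulAut U) x) = t' * ψ τ' (ι x) * t'⁻¹), ψ (τ d) = ψ τ' := by
    intro d t' ht' τ' h'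
    rw [rep_unique E P (ht d) ht' (h1 d) h']
  let Θ : D →* MulAut G := MonoidHom.mk' (fun d => ψ (τ d)) fun d d' => by
    rw [← P.trans]
    refine huniq (d * d') (mul_mem (ht d) (P.mem_T (τ d) (ht d'))) (τ' := (τ d').trans (τ d)) fun x => ?_
    rw [Subgroup.coe_mul, MulAut.mul_apply, h1, h1, P.trans, MulAut.mul_apply, map_mul, map_mul, map_inv]
    group
  have hΘ : ∀ d, Θ d = ψ (τ d) := fun d => rfl
  have hAc : (Nat.card Θ.range).Coprime 2 :=
    Nat.Coprime.coprime_dvd_left (Subgroup.card_dvd_of_surjective Θ.rangeRestrict Θ.rangeRestrict_surjective) hDc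
  obtain ⟨F, hF1, hF2, hF3⟩ := Cfsg.Agent.H491.FS.exists_real_aut Py e Θ.range hAc
  have hF4 : ∀ (Q : Subgroup U) (f : U → U), Mp F Q f ↔ ∃ d ∈ D, ∃ t ∈ S.T, ∃ τ : K ≃+* K,
      (∀ x, ι (d x) = t * ψ τ (ι x) * t⁻¹) ∧ ∃ g : G, ∀ x ∈ Q, ι (f x) = g * ψ τ (ι x) * g⁻¹ := by
    intro Q f
    rw [hF3]
    constructor
    · rintro ⟨_, ⟨d, rfl⟩, g, hg⟩
      exact ⟨d, d.2, t d, ht d, τ d, h1 d, g, hg⟩
    · rintro ⟨d, hd, t', ht', τ', h', g, hg⟩
      refine ⟨Θ ⟨d, hd⟩, ⟨_, rfl⟩, g, fun x hx => ?_⟩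
      rw [hΘ, huniq ⟨d, hd⟩ ht' h']
      exact hg x hx
  refine ⟨F, hF1, hF2, ?_, hF4⟩
  apply le_antisymm
  · intro θ hθ
    obtain ⟨d, hd, t', ht', τ', h', g, hg⟩ := (hF4 _ _).1 ((mem_AF F θ).1 hθ)
    obtain ⟨b, hb, s, hs, rfl⟩ := norm_U S (g := g) (fun y hy => by
      obtain ⟨x, hx⟩ := E.surj ((P.J τ'.symm y).2 hy)
      have h2 := hg x (Subgroup.mem_top _)
      rw [hx, P.symm, MulAut.apply_inv_self] at h2
      rw [← h2]
      exact E.mem _) (fun y hy => by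
      obtain ⟨x, rfl⟩ := E.surj hy
      have h2 := hg (θ⁻¹ x) (Subgroup.mem_top _)
      rw [MulAut.apply_inv_self] at h2
      rw [h2]
      have e1 : g⁻¹ * (g * ψ τ' (ι (θ⁻¹ x)) * g⁻¹) * g = ψ τ' (ι (θ⁻¹ x)) := by group
      rw [e1]
      exact (P.J _ _).2 (E.mem _))
    obtain ⟨b, rfl⟩ := E.surj hb
    obtain ⟨d', hd', h3⟩ := full_torus E P hA hB (mul_mem hs (inv_mem ht'))
    have h4 : θ = MulAut.conj b * (d' * d) := by
      apply MulEquiv.ext
      intro x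
      apply E.inj
      rw [hg x (Subgroup.mem_top _), MulAut.mul_apply, MulAut.mul_apply, MulAut.conj_apply, map_mul, map_mul,
        map_inv, h3, h']
      group
    rw [h4]
    exact mul_mem ((le_sup_left : (MulAut.conj : U →* MulAut U).range ≤ _) ⟨_, rfl⟩)
      ((le_sup_right : D ≤ _) (mul_mem hd' hd))
  · refine sup_le ?_ ?_
    · rintro _ ⟨u, rfl⟩
      refine (mem_AF F _).2 ((hF4 _ _).2 ⟨1, one_mem _, 1, one_mem _, RingEquiv.refl K, fun x => ?_, ι u,
        fun x _ => ?_⟩)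
      · rw [hone]; simp
      · rw [MulAut.conj_apply, map_mul, map_mul, map_inv, hone]
    · intro d hd
      obtain ⟨t', ht', τ', h'⟩ := mem_TT E P (hD hd)
      exact (mem_AF F _).2 ((hF4 _ _).2 ⟨d, hd, t', ht', τ', h', t', fun x _ => h' x⟩)

/-! ### the two parabolic subgroups -/

include E P in
theorem pdA : PD E ψ T.QA S.n2 T.IsWa where
  norm := by
    intro g h1 h2
    obtain ⟨b, hb, t, ht, h | ⟨b', hb', h⟩⟩ := norm_Q S (g := g) (fun y hy => by
      obtain ⟨x, rfl⟩ := E.surj (J_mono le_rfl (by norm_num) hy)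
      obtain ⟨y, hy', h3⟩ := h2 x ((E.mem_QA x).2 hy)
      rw [← h3]
      exact (E.mem_QA y).1 hy')
    · exact ⟨b, hb, t, ht, Or.inl h⟩
    · -- `b t n2 b' = b n2 (t' b' t'⁻¹) t'`
      have ht' : S.n2⁻¹ * t * S.n2 ∈ S.T := by
        obtain ⟨c, d, rfl⟩ := S.mem_T.1 ht
        refine S.mem_T.2 ⟨c⁻¹, d / Units.map (σ : K →* K) c, ?_⟩
        rw [← S.n2_h, n2_inv]
      refine ⟨(S.n2⁻¹ * t * S.n2) * b' * (S.n2⁻¹ * t * S.n2)⁻¹, S.T_conj_J ht' hb', S.n2⁻¹ * t * S.n2, ht',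
        Or.inr ⟨b, hb, ?_⟩⟩
      rw [h]
      group
  tor := by
    intro t ht x hx
    have h1 := S.T_conj_J ht ((E.mem_QA x).1 hx)
    obtain ⟨y, hy⟩ := E.surj (J_mono le_rfl (by norm_num) h1)
    exact ⟨y, (E.mem_QA y).2 (by rw [hy]; exact h1), hy⟩
  fld := by
    intro τ x hx
    have h1 := P.J_le τ ((E.mem_QA x).1 hx)
    obtain ⟨y, hy⟩ := E.surj (J_mono le_rfl (by norm_num) h1)
    exact ⟨y, (E.mem_QA y).2 (by rw [hy]; exact h1), hy⟩
  nor := by
    intro u x hx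
    rw [E.mem_QA] at hx ⊢
    rw [map_mul, map_mul, map_inv]
    exact U_J17 S _ (E.mem u) _ hx
  refl := by
    intro x hx
    have h1 := S.n2_refl.mem_J (a' := 1) (b' := 7) ((E.mem_QA x).1 hx) (by norm_num) (by norm_num)
    obtain ⟨y, hy⟩ := E.surj (J_mono le_rfl (by norm_num) h1)
    exact ⟨y, (E.mem_QA y).2 (by rw [hy]; exact h1), hy⟩
  refl' := by
    intro x hx
    have h1 := S.n2_refl.mem_J_inv (a' := 1) (b' := 7) ((E.mem_QA x).1 hx) (by norm_num) (by norm_num)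
    obtain ⟨y, hy⟩ := E.surj (J_mono le_rfl (by norm_num) h1)
    exact ⟨y, (E.mem_QA y).2 (by rw [hy]; exact h1), hy⟩
  wey := by
    intro γ
    constructor
    · intro h
      -- the elements where the two homomorphisms agree
      let L : Subgroup T.QA := MonoidHom.eqLocus ((ι.comp T.QA.subtype).comp γ.toMonoidHom)
        ((MulAut.conj S.n2).toMonoidHom.comp (ι.comp T.QA.subtype))
      have hL : ∀ x : T.QA, x ∈ L ↔ ι (γ x : T.QA) = S.n2 * ι x * S.n2⁻¹ := fun x => Iff.rfl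
      have h1 : J S.XZ 1 7 ≤ (L.map T.QA.subtype).map ι := by
        have hq : ∀ x : U, ι x ∈ J S.XZ 1 7 → x ∈ T.QA := fun x hx => (E.mem_QA x).2 hx
        have key : ∀ (x : U) (hx : x ∈ T.QA), ι (γ ⟨x, hx⟩ : T.QA) = S.n2 * ι x * S.n2⁻¹ →
            x ∈ L.map T.QA.subtype := fun x hx h => ⟨⟨x, hx⟩, h, rfl⟩
        refine J_le fun k h1 h2 => E.X_le_map h1 (by omega) ?_ ?_ ?_ ?_ ?_ ?_ ?_ ?_
        · intro _ t
          refine key _ (hq _ (by rw [E.e1]; exact mem_J (S.mX1 t) (by norm_num) (by norm_num))) ?_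
          rw [h.e1 _ t rfl, E.e1, E.e7, S.n2_o]; rfl
        · intro _ p u
          refine key _ (hq _ (by rw [E.e2]; exact mem_J (S.mX2 p u) (by norm_num) (by norm_num))) ?_
          rw [h.e2 _ p u rfl, E.e2, E.e6, S.n2_e]; rfl
        · intro _ t
          refine key _ (hq _ (by rw [E.e3]; exact mem_J (S.mX3 t) (by norm_num) (by norm_num))) ?_
          rw [h.e3 _ t rfl, E.e3, E.e5, S.n2_o]; rfl
        · intro _ p u
          refine key _ (hq _ (by rw [E.e4]; exact mem_J (S.mX4 p u) (by norm_num) (by norm_num))) ?_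
          rw [h.e4 _ p u rfl, E.e4, S.n2_e]; rfl
        · intro _ t
          refine key _ (hq _ (by rw [E.e5]; exact mem_J (S.mX5 t) (by norm_num) (by norm_num))) ?_
          rw [h.e5 _ t rfl, E.e5, E.e3, S.n2_o]; rfl
        · intro _ p u
          refine key _ (hq _ (by rw [E.e6]; exact mem_J (S.mX6 p u) (by norm_num) (by norm_num))) ?_
          rw [h.e6 _ p u rfl, E.e6, E.e2, S.n2_e]; rfl
        · intro _ t
          refine key _ (hq _ (by rw [E.e7]; exact mem_J (S.mX7 t) (by norm_num) (by norm_num))) ?_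
          rw [h.e7 _ t rfl, E.e7, E.e1, S.n2_o]; rfl
        · intro h
          omega
      intro x
      obtain ⟨_, ⟨y, hy, rfl⟩, h2⟩ := h1 ((E.mem_QA x).1 x.2)
      have h3 : y = x := Subtype.ext (E.inj h2)
      rw [h3] at hy
      exact hy
    · intro h
      refine ⟨?_, ?_, ?_, ?_, ?_, ?_, ?_⟩
      · intro e t he
        apply E.inj
        rw [h, he, E.e1, E.e7, S.n2_o]; rfl
      · intro e p u he
        apply E.inj
        rw [h, he, E.e2, E.e6, S.n2_e]; rfl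
      · intro e t he
        apply E.inj
        rw [h, he, E.e3, E.e5, S.n2_o]; rfl
      · intro e p u he
        apply E.inj
        rw [h, he, E.e4, S.n2_e]; rfl
      · intro e t he
        apply E.inj
        rw [h, he, E.e5, E.e3, S.n2_o]; rfl
      · intro e p u he
        apply E.inj
        rw [h, he, E.e6, E.e2, S.n2_e]; rfl
      · intro e t he
        apply E.inj
        rw [h, he, E.e7, E.e1, S.n2_o]; rfl

include E P in
theorem pdB : PD E ψ T.QB S.n1 T.IsWb where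
  norm := by
    intro g h1 h2
    exact norm_J28 S (g := g) (fun y hy => by
      obtain ⟨x, rfl⟩ := E.surj (J_mono (by norm_num) le_rfl hy)
      obtain ⟨y, hy', h3⟩ := h1 x ((E.mem_QB x).2 hy)
      rw [← h3]
      exact (E.mem_QB y).1 hy') (fun y hy => by
      obtain ⟨x, rfl⟩ := E.surj (J_mono (by norm_num) le_rfl hy)
      obtain ⟨y, hy', h3⟩ := h2 x ((E.mem_QB x).2 hy)
      rw [← h3]
      exact (E.mem_QB y).1 hy')
  tor := by
    intro t ht x hx
    have h1 := S.T_conj_J ht ((E.mem_QB x).1 hx)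
    obtain ⟨y, hy⟩ := E.surj (J_mono (by norm_num) le_rfl h1)
    exact ⟨y, (E.mem_QB y).2 (by rw [hy]; exact h1), hy⟩
  fld := by
    intro τ x hx
    have h1 := P.J_le τ ((E.mem_QB x).1 hx)
    obtain ⟨y, hy⟩ := E.surj (J_mono (by norm_num) le_rfl h1)
    exact ⟨y, (E.mem_QB y).2 (by rw [hy]; exact h1), hy⟩
  nor := by
    intro u x hx
    rw [E.mem_QB] at hx ⊢
    rw [map_mul, map_mul, map_inv]
    exact U_J28 S _ (E.mem u) _ hx
  refl := by
    intro x hx
    have h1 := S.n1_refl.mem_J (a' := 2) (b' := 8) ((E.mem_QB x).1 hx) (by norm_num) (by norm_num)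
    obtain ⟨y, hy⟩ := E.surj (J_mono (by norm_num) le_rfl h1)
    exact ⟨y, (E.mem_QB y).2 (by rw [hy]; exact h1), hy⟩
  refl' := by
    intro x hx
    have h1 := S.n1_refl.mem_J_inv (a' := 2) (b' := 8) ((E.mem_QB x).1 hx) (by norm_num) (by norm_num)
    obtain ⟨y, hy⟩ := E.surj (J_mono (by norm_num) le_rfl h1)
    exact ⟨y, (E.mem_QB y).2 (by rw [hy]; exact h1), hy⟩
  wey := by
    intro γ
    constructor
    · intro h
      let L : Subgroup T.QB := MonoidHom.eqLocus ((ι.comp T.QB.subtype).comp γ.toMonoidHom)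
        ((MulAut.conj S.n1).toMonoidHom.comp (ι.comp T.QB.subtype))
      have h1 : J S.XZ 2 8 ≤ (L.map T.QB.subtype).map ι := by
        have hq : ∀ x : U, ι x ∈ J S.XZ 2 8 → x ∈ T.QB := fun x hx => (E.mem_QB x).2 hx
        have key : ∀ (x : U) (hx : x ∈ T.QB), ι (γ ⟨x, hx⟩ : T.QB) = S.n1 * ι x * S.n1⁻¹ →
            x ∈ L.map T.QB.subtype := fun x hx h => ⟨⟨x, hx⟩, h, rfl⟩
        refine J_le fun k h1 h2 => E.X_le_map (by omega) h2 ?_ ?_ ?_ ?_ ?_ ?_ ?_ ?_
        · intro h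
          omega
        · intro _ p u
          refine key _ (hq _ (by rw [E.e2]; exact mem_J (S.mX2 p u) (by norm_num) (by norm_num))) ?_
          rw [h.e2 _ p u rfl, E.e2, E.e8, S.n1_e]; rfl
        · intro _ t
          refine key _ (hq _ (by rw [E.e3]; exact mem_J (S.mX3 t) (by norm_num) (by norm_num))) ?_
          rw [h.e3 _ t rfl, E.e3, E.e7, S.n1_o]; rfl
        · intro _ p u
          refine key _ (hq _ (by rw [E.e4]; exact mem_J (S.mX4 p u) (by norm_num) (by norm_num))) ?_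
          rw [h.e4 _ p u rfl, E.e4, E.e6, S.n1_e]; rfl
        · intro _ t
          refine key _ (hq _ (by rw [E.e5]; exact mem_J (S.mX5 t) (by norm_num) (by norm_num))) ?_
          rw [h.e5 _ t rfl, E.e5, S.n1_o]; rfl
        · intro _ p u
          refine key _ (hq _ (by rw [E.e6]; exact mem_J (S.mX6 p u) (by norm_num) (by norm_num))) ?_
          rw [h.e6 _ p u rfl, E.e6, E.e4, S.n1_e]; rfl
        · intro _ t
          refine key _ (hq _ (by rw [E.e7]; exact mem_J (S.mX7 t) (by norm_num) (by norm_num))) ?_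
          rw [h.e7 _ t rfl, E.e7, E.e3, S.n1_o]; rfl
        · intro _ p u
          refine key _ (hq _ (by rw [E.e8]; exact mem_J (S.mX8 p u) (by norm_num) (by norm_num))) ?_
          rw [h.e8 _ p u rfl, E.e8, E.e2, S.n1_e]; rfl
      intro x
      obtain ⟨_, ⟨y, hy, rfl⟩, h2⟩ := h1 ((E.mem_QB x).1 x.2)
      have h3 : y = x := Subtype.ext (E.inj h2)
      rw [h3] at hy
      exact hy
    · intro h
      refine ⟨?_, ?_, ?_, ?_, ?_, ?_, ?_⟩
      · intro e p u he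
        apply E.inj
        rw [h, he, E.e2, E.e8, S.n1_e]; rfl
      · intro e t he
        apply E.inj
        rw [h, he, E.e3, E.e7, S.n1_o]; rfl
      · intro e p u he
        apply E.inj
        rw [h, he, E.e4, E.e6, S.n1_e]; rfl
      · intro e t he
        apply E.inj
        rw [h, he, E.e5, S.n1_o]; rfl
      · intro e p u he
        apply E.inj
        rw [h, he, E.e6, E.e4, S.n1_e]; rfl
      · intro e t he
        apply E.inj
        rw [h, he, E.e7, E.e3, S.n1_o]; rfl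
      · intro e p u he
        apply E.inj
        rw [h, he, E.e8, E.e2, S.n1_e]; rfl

end

end Cfsg.Agent.H491.TF
end

-- part: H491/TF/Main
section
/-!
# (REAL) of S5262: the fusion systems of `²F₄(q) ⋊ (field automorphisms)`, all `q`
-/

set_option autoImplicit false
set_option linter.unusedSectionVars false

namespace Cfsg.Agent.H491.TF

open Cfsg Cfsg.FusionSystem Cfsg.Agent.H745.TF Cfsg.Lie
open Cfsg.Agent.KFacts.TwF4 Cfsg.Agent.KFacts.TwF4.Inst
open Cfsg.Agent.SplitTwo Cfsg.Agent.SplitTwo.ZS Cfsg.Agent.TitsThree.RankTwoZ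
open Cfsg.Agent.ChevalleyStructure.TwF4.TwistedFix

universe u v w

section

variable {K : Type u} [Field K] {σ : K →+* K} {G : Type w} [Group G] (S : Full σ G) {U : Type v} [Group U]
  (T : Cfsg.Agent.H745.TF.TF σ U)

theorem peel {k : ℤ} (hk : 1 ≤ k) {x r : G} (hx : x ∈ S.XZ k) (hr : r ∈ J S.XZ (k + 1) 8) (h : x * r = 1) :
    x = 1 ∧ r = 1 := by
  have h1 : x = r⁻¹ := eq_inv_of_mul_eq_one_left h
  have h2 : x ∈ J S.XZ (k + 1) (k + 8 - 1) := by
    rw [h1]
    exact J_mono le_rfl (by omega) (inv_mem hr)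
  have h3 := S.zsys8.inter k x hx h2
  rw [h3, one_mul] at h
  exact ⟨h3, h⟩

/-- **`U` embeds into `²F₄(q)`** -/
theorem exists_emb : ∃ ι : U →* G, Emb S T ι := by
  obtain ⟨ι, e1, e2, e3, e4, e5, e6, e7, e8⟩ := Cfsg.Agent.H659.TF.ump T S.rel
  refine ⟨ι, ?_, e1, e2, e3, e4, e5, e6, e7, e8⟩
  rw [injective_iff_map_eq_one]
  intro x hx
  obtain ⟨c, rfl⟩ := T.bij.2 x
  have R := T.rel
  simp only [map_mul, e1, e2, e3, e4, e5, e6, e7, e8] at hx
  have m8 : S.e 4 c.a8 c.b8 ∈ J S.XZ (7 + 1) 8 := mem_J (S.mX8 _ _) (by norm_num) (by norm_num)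
  have m7 : S.o 3 c.a7 * S.e 4 c.a8 c.b8 ∈ J S.XZ (6 + 1) 8 :=
    mul_mem (mem_J (S.mX7 _) (by norm_num) (by norm_num)) (J_mono (by norm_num) le_rfl m8)
  have m6 : S.e 3 c.a6 c.b6 * (S.o 3 c.a7 * S.e 4 c.a8 c.b8) ∈ J S.XZ (5 + 1) 8 :=
    mul_mem (mem_J (S.mX6 _ _) (by norm_num) (by norm_num)) (J_mono (by norm_num) le_rfl m7)
  have m5 : S.o 2 c.a5 * (S.e 3 c.a6 c.b6 * (S.o 3 c.a7 * S.e 4 c.a8 c.b8)) ∈ J S.XZ (4 + 1) 8 :=
    mul_mem (mem_J (S.mX5 _) (by norm_num) (by norm_num)) (J_mono (by norm_num) le_rfl m6)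
  have m4 : S.e 2 c.a4 c.b4 * (S.o 2 c.a5 * (S.e 3 c.a6 c.b6 * (S.o 3 c.a7 * S.e 4 c.a8 c.b8))) ∈ J S.XZ (3 + 1) 8 :=
    mul_mem (mem_J (S.mX4 _ _) (by norm_num) (by norm_num)) (J_mono (by norm_num) le_rfl m5)
  have m3 : S.o 1 c.a3 * (S.e 2 c.a4 c.b4 * (S.o 2 c.a5 * (S.e 3 c.a6 c.b6 * (S.o 3 c.a7 * S.e 4 c.a8 c.b8)))) ∈
      J S.XZ (2 + 1) 8 :=
    mul_mem (mem_J (S.mX3 _) (by norm_num) (by norm_num)) (J_mono (by norm_num) le_rfl m4)
  have m2 : S.e 1 c.a2 c.b2 * (S.o 1 c.a3 * (S.e 2 c.a4 c.b4 * (S.o 2 c.a5 * (S.e 3 c.a6 c.b6 * (S.o 3 c.a7 *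
      S.e 4 c.a8 c.b8))))) ∈ J S.XZ (1 + 1) 8 :=
    mul_mem (mem_J (S.mX2 _ _) (by norm_num) (by norm_num)) (J_mono (by norm_num) le_rfl m3)
  simp only [mul_assoc] at hx
  obtain ⟨h1, hx⟩ := peel S (by norm_num) (S.mX1 _) m2 hx
  obtain ⟨h2, hx⟩ := peel S (by norm_num) (S.mX2 _ _) m3 hx
  obtain ⟨h3, hx⟩ := peel S (by norm_num) (S.mX3 _) m4 hx
  obtain ⟨h4, hx⟩ := peel S (by norm_num) (S.mX4 _ _) m5 hx
  obtain ⟨h5, hx⟩ := peel S (by norm_num) (S.mX5 _) m6 hx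
  obtain ⟨h6, hx⟩ := peel S (by norm_num) (S.mX6 _ _) m7 hx
  obtain ⟨h7, h8⟩ := peel S (by norm_num) (S.mX7 _) m8 hx
  have k1 := S.o_eq_one h1
  have k3 := S.o_eq_one h3
  have k5 := S.o_eq_one h5
  have k7 := S.o_eq_one h7
  obtain ⟨k2, k2'⟩ := S.e_eq_one h2
  obtain ⟨k4, k4'⟩ := S.e_eq_one h4
  obtain ⟨k6, k6'⟩ := S.e_eq_one h6
  obtain ⟨k8, k8'⟩ := S.e_eq_one h8
  simp only [k1, k2, k2', k3, k4, k4', k5, k6, k6', k7, k8, k8', Cfsg.Agent.H659.TF.x1_zero R,
    Cfsg.Agent.H659.TF.x2_zero R, Cfsg.Agent.H659.TF.x3_zero R, Cfsg.Agent.H659.TF.x4_zero R,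
    Cfsg.Agent.H659.TF.x5_zero R, Cfsg.Agent.H659.TF.x6_zero R, Cfsg.Agent.H659.TF.x7_zero R,
    Cfsg.Agent.H659.TF.x8_zero R, mul_one]

end

/-- the Steinberg endomorphism of the model -/
theorem rln_of_hyp {K : Type u} [Field K] {σ : K →+* K} {m : ℕ} (h : HypK σ m) : Rln σ (2 ^ m) := by
  have := h.fin
  have := Fintype.ofFinite K
  refine ⟨fun x => ?_, fun x => ?_, by positivity⟩
  · rw [h.sig, ← pow_mul, pow_succ]
  · rw [h.sig, ← pow_mul, ← pow_add]
    have e : m + (m + 1) = 2 * m + 1 := by ring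
    rw [e, ← h.card, Nat.card_eq_fintype_card, FiniteField.pow_card]

/-- **(REAL) of S5262** -/
theorem stReal : StReal.{u, v} := by
  intro K _ σ m hyp U _ T D hD hDc hA hB
  have hfin := hyp.fin
  let _ := Fintype.ofFinite K
  have hc : CharP K 2 := CharTwo.of_one_ne_zero_of_two_eq_zero one_ne_zero hyp.two
  have hK : Fintype.card K = 2 ^ (2 * m + 1) := by
    rw [← Nat.card_eq_fintype_card]; exact hyp.card
  have hφ := rln_of_hyp hyp
  have P : Fl (full hK hφ) (fun τ => S2128.fld τ (2 ^ m)) :=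
    ⟨fun τ a t => S2128.fld_ro τ hφ a t, fun τ a p u => S2128.fld_re τ hφ a p u⟩
  obtain ⟨ι, E⟩ := exists_emb (full hK hφ) T
  obtain ⟨F, h1, h2, h3, h4⟩ := real_full E P (rfl : (full hK hφ).R.p = 2) hD hDc hA hB
  exact ⟨F, h1, h2, h3, (pdA E P).std E P hA hB hD h4, (pdB E P).std E P hA hB hD h4⟩

end Cfsg.Agent.H491.TF
end

-- part: H240/TF/LAtwo
section
/-!
# S5262, LA2 (helper240)
-/

set_option autoImplicit false

namespace Cfsg.Agent.H240.TF

open Cfsg Cfsg.FusionSystem Cfsg.Agent.Octagon.Pkg Cfsg.Agent.H745.TF Cfsg.Agent.H659.TF Cfsg.Agent.H756.PU Cfsg.Agent.H666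
open Cfsg.Agent.ThreePrime
open scoped Pointwise

universe u v

/-- the rigidity lemma -/
def StRig : Prop :=
  ∀ {K : Type u} [Field K] {σ : K →+* K} {m : ℕ}, HypK σ m → 1 ≤ m → ∀ {U : Type v} [Group U] (T : TF σ U)
    (β : MulAut T.QA), (∀ (f g : K) (α : MulAut U), T.IsTor α f g (RingEquiv.refl K) →
      ∀ t : MulAut T.QA, TF.IsR α t → β * t = t * β) →
    ∃ f g : K, f ≠ 0 ∧ g ≠ 0 ∧ ∀ α : MulAut U, T.IsTor α f g (RingEquiv.refl K) → TF.IsR α β

section

variable {K : Type u} [Field K] {σ : K →+* K} {m : ℕ} {U : Type v} [Group U] {T : TF σ U} {Γ : Subgroup (MulAut T.QA)}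

theorem Ctx.mk_cG' (C : Ctx T Γ) {e : U} (he : e ∈ T.QA) (p u : K) :
    (QuotientGroup.mk (C.cG (e * T.x8 p u)) : Γ ⧸ IG T Γ) = C.yy p u := by
  rw [map_mul, QuotientGroup.mk_mul]
  have h1 : (QuotientGroup.mk (C.cG e) : Γ ⧸ IG T Γ) = 1 := by
    rw [QuotientGroup.eq_one_iff]
    exact (C.cj_inn e).2 he
  rw [h1, one_mul]
  rfl

/-- restrictions normalise `Aut_U(QA)` -/
theorem rs_cj (hch : ∀ α : MulAut U, ∀ x ∈ T.QA, α x ∈ T.QA) (α : MulAut U) (z : U) :
    rsH hch α * cj T z * (rsH hch α)⁻¹ = cj T (α z) := by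
  have h := conj_cj (γ := rsH hch α) (x := 1) (d := α) (fun e => by
    rw [one_mul, inv_one, mul_one]
    rfl) z
  rw [h, one_mul, inv_one, mul_one]

theorem rs_norm (hch : ∀ α : MulAut U, ∀ x ∈ T.QA, α x ∈ T.QA) (α : MulAut U) : NormAut ⊤ (rsH hch α) := by
  intro x hx
  obtain ⟨z, rfl⟩ := (mem_aut T x).1 hx
  rw [rs_cj, mem_aut]
  exact ⟨_, rfl⟩

/-- the Weyl element on the torus with `g = 1` and on the torus of `L_A` -/
theorem wa_one (hK : HypK σ m) (hch : ∀ α : MulAut U, ∀ x ∈ T.QA, α x ∈ T.QA) {w : MulAut T.QA} (hw : T.IsWa w)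
    {α : MulAut U} {f : K} (h : T.IsTor α f 1 (RingEquiv.refl K)) : w * rsH hch α * w⁻¹ = rsH hch α := by
  rw [mul_inv_eq_iff_eq_mul]
  refine wa_tor hch hK hw h ?_
  rw [one_pow, mul_one, map_one, mul_one, inv_one]
  exact h

theorem wa_hs (hK : HypK σ m) (hch : ∀ α : MulAut U, ∀ x ∈ T.QA, α x ∈ T.QA) {w : MulAut T.QA} (hw : T.IsWa w)
    {α : MulAut U} {y : K} (hy : y ≠ 0) (h : T.IsTor α (y * σ y) (σ y)⁻¹ (RingEquiv.refl K)) :
    w * rsH hch α * w⁻¹ = (rsH hch α)⁻¹ := by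
  have hsy : σ y ≠ 0 := (map_ne_zero σ).2 hy
  obtain ⟨α', h'⟩ := Cfsg.Agent.H805.TF.exists_tor T hK (y * σ y)⁻¹ (σ y) (RingEquiv.refl K) (inv_ne_zero h.nf) hsy
  have h1 := tor_mul T h h'
  rw [mul_inv_cancel₀ h.nf, inv_mul_cancel₀ hsy] at h1
  have h2 : α⁻¹ = α' := inv_eq_of_mul_eq_one_right (tor_one T h1)
  rw [mul_inv_eq_iff_eq_mul, ← map_inv, h2]
  refine wa_tor hch hK hw h ?_
  have e1 : y * σ y * (σ y)⁻¹ ^ 2 * σ (σ y)⁻¹ = (y * σ y)⁻¹ := by
    rw [map_inv₀, hK.sq]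
    field_simp
  rw [e1, inv_inv]
  exact h'

/-- **LA2** -/
theorem la_two (hT : StTI.{u, v}) (hZ : ∀ {K : Type u} [Field K] {σ : K →+* K} {m : ℕ}, HypK σ m → 1 ≤ m →
    ∀ {U : Type v} [Group U] (T : TF σ U), Cen T) (hRig : StRig.{u, v}) : StLA2.{u, v} := by
  intro K _ σ m hK hm U _ T Γ D hPar hA hB
  classical
  have hZ := hZ hK hm T
  have := hK.fin
  have := Cfsg.Agent.H805.TF.finite_U T hK
  have hf : Finite (MulAut T.QA) := inferInstance
  have C := ctx_of hT hK hPar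
  have hch : ∀ α : MulAut U, ∀ x ∈ T.QA, α x ∈ T.QA := by
    intro α x hx
    have h1 := (hT hK T T.QA (Or.inl rfl)).2.2.2 α
    rw [← h1]
    exact ⟨x, hx, rfl⟩
  obtain ⟨P, hP, hN, hTI, hne⟩ := C.exists_T
  have hS := C.szT hK P hP
  -- the Weyl element
  obtain ⟨w, hw⟩ := Cfsg.Agent.H805.TF.exists_wa T hK
  -- the torus
  have hTSD : TS T hK ≤ D := by
    rintro α ⟨f, g, h⟩
    exact tor_mem hK hA hB h
  have hHSTS : HS T hK ≤ TS T hK := by
    rintro α ⟨y, hy, h⟩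
    exact ⟨_, _, h⟩
  have hrsΓ : ∀ α ∈ TS T hK, rsH hch α ∈ Γ := fun α hα => hPar.D_res α (hTSD hα) _ (rsH_isR hch α)
  -- the two groups
  set S : Subgroup Γ := ((TS T hK).map (rsH hch)).subgroupOf Γ with hSdef
  have hSle : (TS T hK).map (rsH hch) ≤ Γ := by
    rintro _ ⟨α, hα, rfl⟩
    exact hrsΓ α hα
  have hSc : (Nat.card S).Coprime 2 := by
    rw [Nat.card_congr (Subgroup.subgroupOfEquivOfLe hSle).toEquiv]
    exact Nat.Coprime.coprime_dvd_left ((Subgroup.card_map_dvd _ _).trans (Subgroup.card_dvd_of_le hTSD)) hPar.D_cop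
  set H : Subgroup (Γ ⧸ IG T Γ) := (((HS T hK).map (rsH hch)).subgroupOf Γ).map (QuotientGroup.mk' (IG T Γ)) with hHdef
  have hHmem : ∀ x, x ∈ H → ∃ α, ∃ hα : α ∈ HS T hK, x = QuotientGroup.mk (⟨rsH hch α, hrsΓ α (hHSTS hα)⟩ : Γ) := by
    rintro _ ⟨γ, ⟨α, hα, e⟩, rfl⟩
    refine ⟨α, hα, ?_⟩
    show (QuotientGroup.mk γ : Γ ⧸ IG T Γ) = _
    congr 1
    exact Subtype.ext e.symm
  have hHmem' : ∀ α, ∀ hα : α ∈ HS T hK, (QuotientGroup.mk (⟨rsH hch α, hrsΓ α (hHSTS hα)⟩ : Γ) : Γ ⧸ IG T Γ) ∈ H :=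
    fun α hα => ⟨_, ⟨α, hα, rfl⟩, rfl⟩
  have hHo : (Nat.card H).Coprime 2 := by
    refine Nat.Coprime.coprime_dvd_left ((Subgroup.card_map_dvd _ _).trans ?_) hPar.D_cop
    rw [Nat.card_congr (Subgroup.subgroupOfEquivOfLe ((Subgroup.map_mono hHSTS).trans hSle)).toEquiv]
    exact (Subgroup.card_map_dvd _ _).trans (Subgroup.card_dvd_of_le (hHSTS.trans hTSD))
  have hHN : H ≤ Subgroup.normalizer ((P : Subgroup (Γ ⧸ IG T Γ)) : Set (Γ ⧸ IG T Γ)) := by
    intro x hx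
    obtain ⟨α, hα, rfl⟩ := hHmem x hx
    rw [hN]
    exact rs_norm hch α
  have hPL := sylow_le_closure P
  have hHL : H ≤ pElementClosure 2 (⊤ : Subgroup (Γ ⧸ IG T Γ)) := by
    intro x hx
    obtain ⟨α, ⟨y, hy, hα⟩, rfl⟩ := hHmem x hx
    obtain ⟨q, hq, γ, rfl, z, d, hd, ht, hz⟩ := count_all C hK hm hZ hPar hy
    have hdd : d = α := tor_unique T ht hα
    subst hdd
    have h1 : (QuotientGroup.mk (C.cG z) : Γ ⧸ IG T Γ) ∈ pElementClosure 2 (⊤ : Subgroup (Γ ⧸ IG T Γ)) := by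
      refine hPL ((hP _).2 ((mem_aut T _).2 ⟨z, rfl⟩))
    have h2 : γ = C.cG z * (⟨rsH hch d, hrsΓ d ⟨_, _, hα⟩⟩ : Γ) := by
      apply Subtype.ext
      show (γ : MulAut T.QA) = cj T z * rsH hch d
      ext e
      rw [hz, MulAut.mul_apply, cj_apply]
      rfl
    rw [h2, QuotientGroup.mk_mul] at hq
    have h3 := mul_mem (inv_mem h1) hq
    rwa [inv_mul_cancel_left] at h3
  have hHA' : ∀ g ∈ pElementClosure 2 (⊤ : Subgroup (Γ ⧸ IG T Γ)),
      g ∈ Subgroup.normalizer ((P : Subgroup (Γ ⧸ IG T Γ)) : Set (Γ ⧸ IG T Γ)) → g ∈ (P : Subgroup (Γ ⧸ IG T Γ)) ⊔ H := by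
    intro g hg hgN
    obtain ⟨γ, rfl⟩ := QuotientGroup.mk_surjective g
    obtain ⟨z, d, hd, y, hy, ht, hz⟩ := norm_one hK hPar γ (C.mem_fix hZ γ hg) ((hN γ).1 hgN)
    have h2 : γ = C.cG z * (⟨rsH hch d, hrsΓ d ⟨_, _, ht⟩⟩ : Γ) := by
      apply Subtype.ext
      show (γ : MulAut T.QA) = cj T z * rsH hch d
      ext e
      rw [hz, MulAut.mul_apply, cj_apply]
      rfl
    rw [h2, QuotientGroup.mk_mul]
    exact mul_mem (le_sup_left (a := (P : Subgroup (Γ ⧸ IG T Γ))) ((hP _).2 ((mem_aut T _).2 ⟨z, rfl⟩)))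
      (le_sup_right (a := (P : Subgroup (Γ ⧸ IG T Γ))) (hHmem' d ⟨y, hy, ht⟩))
  obtain ⟨n, hnL, hnN, hninv, hncent, hgen⟩ := exists_n P hTI hne hS (card_K hK hm) (hcen hK C hZ hPar P hP hN) H hHL hHo hHN hHA'
  -- the torus `g = 1`
  have hcent1 : ∀ (f : K) (α : MulAut U) (hα : T.IsTor α f 1 (RingEquiv.refl K)),
      n * (QuotientGroup.mk (⟨rsH hch α, hrsΓ α ⟨_, _, hα⟩⟩ : Γ) : Γ ⧸ IG T Γ) * n⁻¹ =
        QuotientGroup.mk (⟨rsH hch α, hrsΓ α ⟨_, _, hα⟩⟩ : Γ) := by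
    intro f α hα
    refine hncent _ ?_ ?_
    · have h1 : orderOf (QuotientGroup.mk (⟨rsH hch α, hrsΓ α ⟨_, _, hα⟩⟩ : Γ) : Γ ⧸ IG T Γ) ∣ Nat.card S := by
        refine (orderOf_map_dvd (QuotientGroup.mk' (IG T Γ)) _).trans ?_
        exact S.orderOf_dvd_natCard ⟨α, ⟨_, _, hα⟩, rfl⟩
      exact Nat.Coprime.odd_of_right (Nat.Coprime.coprime_dvd_left h1 hSc)
    · intro t ht
      obtain ⟨γ, rfl⟩ := QuotientGroup.mk_surjective t
      obtain ⟨z, hz⟩ := (mem_aut T _).1 ((hP γ).1 ht)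
      have hγ : γ = C.cG z := Subtype.ext hz
      subst hγ
      rw [← mul_inv_eq_iff_eq_mul, ← QuotientGroup.mk_mul, ← QuotientGroup.mk_inv, ← QuotientGroup.mk_mul]
      have h1 : (⟨rsH hch α, hrsΓ α ⟨_, _, hα⟩⟩ : Γ) * C.cG z * (⟨rsH hch α, hrsΓ α ⟨_, _, hα⟩⟩ : Γ)⁻¹ = C.cG (α z) := by
        apply Subtype.ext
        exact rs_cj hch α z
      rw [h1]
      obtain ⟨e, he, p, u, rfl⟩ := exists_x8 T z
      rw [map_mul, hα.e8]
      simp only [RingEquiv.refl_apply, map_one, one_mul, mul_one]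
      rw [C.mk_cG' he, C.mk_cG' (hch α e he)]
  -- the map induced on the torus
  have hν1 : ∀ s ∈ S, ∃ hs : w * (s : MulAut T.QA) * w⁻¹ ∈ Γ, (⟨w * (s : MulAut T.QA) * w⁻¹, hs⟩ : Γ) ∈ S ∧
      n * (QuotientGroup.mk s : Γ ⧸ IG T Γ) * n⁻¹ = QuotientGroup.mk (⟨w * (s : MulAut T.QA) * w⁻¹, hs⟩ : Γ) := by
    rintro s ⟨α, ⟨f, g, hα⟩, e⟩
    -- split
    have hsg : ∃ y : K, σ y = g⁻¹ := by
      have hsur : Function.Surjective σ := Finite.surjective_of_injective σ.injective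
      exact hsur g⁻¹
    obtain ⟨y, hyg⟩ := hsg
    have hy : y ≠ 0 := by
      rintro rfl
      rw [map_zero] at hyg
      exact inv_ne_zero hα.ng hyg.symm
    have hsy : σ y ≠ 0 := (map_ne_zero σ).2 hy
    obtain ⟨α1, h1⟩ := Cfsg.Agent.H805.TF.exists_tor T hK (y * σ y) (σ y)⁻¹ (RingEquiv.refl K) (mul_ne_zero hy hsy)
      (inv_ne_zero hsy)
    obtain ⟨α2, h2⟩ := Cfsg.Agent.H805.TF.exists_tor T hK ((y * σ y)⁻¹ * f) 1 (RingEquiv.refl K)
      (mul_ne_zero (inv_ne_zero h1.nf) hα.nf) one_ne_zero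
    have h12 := tor_mul T h1 h2
    have e1 : y * σ y * ((y * σ y)⁻¹ * f) = f := mul_inv_cancel_left₀ h1.nf f
    have e2 : (σ y)⁻¹ * 1 = g := by rw [mul_one, hyg, inv_inv]
    rw [e1, e2] at h12
    have hα12 : α = α1 * α2 := tor_unique T hα h12
    have hα1 : α1 ∈ HS T hK := ⟨y, hy, h1⟩
    have hs : w * (s : MulAut T.QA) * w⁻¹ = (rsH hch α1)⁻¹ * rsH hch α2 := by
      have e3 : (s : MulAut T.QA) = rsH hch α1 * rsH hch α2 := by
        rw [← map_mul, ← hα12]
        exact e.symm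
      rw [e3, ← wa_hs hK hch hw hy h1, ← wa_one hK hch hw h2]
      simp only [wa_one hK hch hw h2]
      rw [show w * (rsH hch α1 * rsH hch α2) * w⁻¹ = (w * rsH hch α1 * w⁻¹) * (w * rsH hch α2 * w⁻¹) by group,
        wa_one hK hch hw h2]
    have hs' : w * (s : MulAut T.QA) * w⁻¹ ∈ (TS T hK).map (rsH hch) := by
      rw [hs, ← map_inv, ← map_mul]
      exact ⟨_, mul_mem (inv_mem (hHSTS hα1)) ⟨_, _, h2⟩, rfl⟩
    refine ⟨hSle hs', hs', ?_⟩
    have e3 : s = (⟨rsH hch α1, hrsΓ α1 (hHSTS hα1)⟩ : Γ) * ⟨rsH hch α2, hrsΓ α2 ⟨_, _, h2⟩⟩ := by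
      apply Subtype.ext
      show (s : MulAut T.QA) = rsH hch α1 * rsH hch α2
      rw [← map_mul, ← hα12]
      exact e.symm
    have e4 : (⟨w * (s : MulAut T.QA) * w⁻¹, hSle hs'⟩ : Γ) =
        (⟨rsH hch α1, hrsΓ α1 (hHSTS hα1)⟩ : Γ)⁻¹ * ⟨rsH hch α2, hrsΓ α2 ⟨_, _, h2⟩⟩ := Subtype.ext hs
    rw [e4, e3, QuotientGroup.mk_mul, QuotientGroup.mk_mul, QuotientGroup.mk_inv]
    rw [show n * ((QuotientGroup.mk (⟨rsH hch α1, hrsΓ α1 (hHSTS hα1)⟩ : Γ) : Γ ⧸ IG T Γ) *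
      QuotientGroup.mk (⟨rsH hch α2, hrsΓ α2 ⟨_, _, h2⟩⟩ : Γ)) * n⁻¹ =
      (n * (QuotientGroup.mk (⟨rsH hch α1, hrsΓ α1 (hHSTS hα1)⟩ : Γ) : Γ ⧸ IG T Γ) * n⁻¹) *
      (n * QuotientGroup.mk (⟨rsH hch α2, hrsΓ α2 ⟨_, _, h2⟩⟩ : Γ) * n⁻¹) by group]
    rw [hninv _ (hHmem' α1 hα1), hcent1 _ α2 h2]
  let ν : Γ → Γ := fun s => if h : w * (s : MulAut T.QA) * w⁻¹ ∈ Γ then ⟨_, h⟩ else 1
  have hνs : ∀ s : Γ, ∀ h : w * (s : MulAut T.QA) * w⁻¹ ∈ Γ, ν s = ⟨_, h⟩ := fun s h => dif_pos h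
  obtain ⟨μ, hμ, hμs⟩ := exists_lift (IG T Γ) (IG_pgroup C.pU) S hSc n ν (by
    intro s hs
    obtain ⟨h1, h2, -⟩ := hν1 s hs
    rw [hνs s h1]
    exact h2) (by
    intro s hs
    obtain ⟨h1, -, h3⟩ := hν1 s hs
    rw [hνs s h1]
    exact h3)
  -- rigidity
  obtain ⟨f, g, hf0, hg0, hfg⟩ := hRig hK hm T (w⁻¹ * (μ : MulAut T.QA)) (by
    intro f g α hα t ht
    rw [(isR_iff hch α t).1 ht]
    have hs : (⟨rsH hch α, hrsΓ α ⟨_, _, hα⟩⟩ : Γ) ∈ S := ⟨α, ⟨_, _, hα⟩, rfl⟩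
    obtain ⟨h1, -, -⟩ := hν1 _ hs
    have h2 := hμs _ hs
    rw [hνs _ h1] at h2
    have h3 : (μ : MulAut T.QA) * rsH hch α * (μ : MulAut T.QA)⁻¹ = w * rsH hch α * w⁻¹ := congrArg Subtype.val h2
    have h4 : (μ : MulAut T.QA) * rsH hch α = w * rsH hch α * w⁻¹ * μ := by
      rw [← h3, inv_mul_cancel_right]
    rw [mul_assoc, h4]
    group)
  obtain ⟨α0, hα0⟩ := Cfsg.Agent.H805.TF.exists_tor T hK f g (RingEquiv.refl K) hf0 hg0
  have hβ := (isR_iff hch α0 _).1 (hfg α0 hα0)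
  have hwμ : w = (μ : MulAut T.QA) * (rsH hch α0)⁻¹ := by
    rw [← hβ]
    group
  have hwΓ : w ∈ Γ := by
    rw [hwμ]
    exact mul_mem μ.2 (inv_mem (hrsΓ α0 ⟨_, _, hα0⟩))
  -- `β` lies in the torus of `L_A`
  have hμfix := C.mem_fix hZ μ (by rw [hμ]; exact hnL)
  have hα0H : α0 ∈ HS T hK := by
    refine hs_of_fix hK hα0 ?_
    intro u
    have e1 : rsH hch α0 ⟨T.x4 0 u, x4_A 0 u⟩ = ⟨T.x4 0 u, x4_A 0 u⟩ := by
      rw [← hβ, MulAut.mul_apply, hμfix _ u rfl]
      have e2 : w ⟨T.x4 0 u, x4_A 0 u⟩ = ⟨T.x4 0 u, x4_A 0 u⟩ := Subtype.ext (hw.e4 _ 0 u rfl)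
      conv_lhs => rw [← e2]
      exact MulAut.inv_apply_self _ _ _
    exact congrArg Subtype.val e1
  have hα0m := hHmem' α0 hα0H
  have hwn : (QuotientGroup.mk (⟨w, hwΓ⟩ : Γ) : Γ ⧸ IG T Γ) =
      n * (QuotientGroup.mk (⟨rsH hch α0, hrsΓ α0 (hHSTS hα0H)⟩ : Γ))⁻¹ := by
    have e1 : (⟨w, hwΓ⟩ : Γ) = μ * (⟨rsH hch α0, hrsΓ α0 (hHSTS hα0H)⟩ : Γ)⁻¹ := Subtype.ext hwμ
    rw [e1, QuotientGroup.mk_mul, QuotientGroup.mk_inv, hμ]
  have hwL : (QuotientGroup.mk (⟨w, hwΓ⟩ : Γ) : Γ ⧸ IG T Γ) ∈ pElementClosure 2 (⊤ : Subgroup (Γ ⧸ IG T Γ)) := by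
    rw [hwn]
    exact mul_mem hnL (inv_mem (hHL hα0m))
  have hwN : (QuotientGroup.mk (⟨w, hwΓ⟩ : Γ) : Γ ⧸ IG T Γ) ∉
      Subgroup.normalizer ((P : Subgroup (Γ ⧸ IG T Γ)) : Set (Γ ⧸ IG T Γ)) := by
    intro h
    apply hnN
    rw [hwn] at h
    have h1 := mul_mem h (hHN hα0m)
    rwa [inv_mul_cancel_right] at h1
  -- `LamA ≤ Γ`
  have hLam : T.LamA ≤ Γ := by
    refine sup_le hPar.indu ?_
    rw [Subgroup.closure_le]
    intro γ hγ
    rw [wa_unique hγ hw]
    exact hwΓ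
  have hAL : autInducedBy ⊤ T.QA ≤ T.LamA := le_sup_left
  have hwLam : w ∈ T.LamA := le_sup_right (a := autInducedBy ⊤ T.QA) (Subgroup.subset_closure hw)
  have hLM := hgen ((T.LamA.subgroupOf Γ).map (QuotientGroup.mk' (IG T Γ))) (by
    intro x hx
    obtain ⟨γ, rfl⟩ := QuotientGroup.mk_surjective x
    exact ⟨γ, hAL ((hP γ).1 hx), rfl⟩) _ ⟨⟨w, hwΓ⟩, hwLam, rfl⟩ hwL hwN
  intro γ
  constructor
  · intro hγ
    obtain ⟨l', hl', ν', hν', e⟩ := frattini P (QuotientGroup.mk (⟨γ, hγ⟩ : Γ) : Γ ⧸ IG T Γ)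
    obtain ⟨l, hl, rfl⟩ := hLM hl'
    have h1 : (QuotientGroup.mk (l⁻¹ * ⟨γ, hγ⟩) : Γ ⧸ IG T Γ) = ν' := by
      rw [QuotientGroup.mk_mul, QuotientGroup.mk_inv, e]
      show (QuotientGroup.mk l : Γ ⧸ IG T Γ)⁻¹ * (QuotientGroup.mk l * ν') = ν'
      rw [inv_mul_cancel_left]
    rw [← h1, hN] at hν'
    obtain ⟨x, d, hd, hx⟩ := hPar.norm _ (l⁻¹ * (⟨γ, hγ⟩ : Γ) :).2 hν'
    refine ⟨(l : MulAut T.QA) * cj T x, mul_mem hl (hAL ((mem_aut T _).2 ⟨x, rfl⟩)), d, hd, rsH hch d, rsH_isR hch d, ?_⟩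
    have h2 : (l : MulAut T.QA)⁻¹ * γ = cj T x * rsH hch d := by
      ext e
      have h3 := hx e
      change (((l : MulAut T.QA)⁻¹ * γ) e : U) = x * d e * x⁻¹ at h3
      rw [h3, MulAut.mul_apply, cj_apply]
      rfl
    rw [mul_assoc, ← h2, mul_inv_cancel_left]
  · rintro ⟨l, hl, d, hd, δ, hδ, rfl⟩
    exact mul_mem (hLam hl) (hPar.D_res d hd δ hδ)

end

end Cfsg.Agent.H240.TF
end

-- part: H240/TF/CenA
section
/-!
# S5262: `Z(QA) = Z4` (helper240)
-/

set_option autoImplicit false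
set_option linter.unusedSimpArgs false

namespace Cfsg.Agent.H240.TF

open Cfsg.Agent.Octagon.Pkg Cfsg.Agent.H745.TF Cfsg.Agent.H659.TF

universe u v

variable {K : Type u} [Field K] {σ : K →+* K} {m : ℕ} {U : Type v} [Group U]

theorem cen (hK : HypK σ m) (T : TF σ U) : Cen T := by
  intro z hz hc
  obtain ⟨ρ, R⟩ := exists_rho T
  obtain ⟨c, rfl⟩ := T.bij.2 z
  change T.el c ∈ T.QA at hz
  have h8 : ρ (T.el c) = 1 := (R.mem_QA _).1 hz
  rw [R.el] at h8
  have ha8 : c.a8 = 0 := congrArg SU.p h8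
  have hb8 : c.b8 = 0 := congrArg SU.u h8
  have key : ∀ d : Cd K, d.a8 = 0 → d.b8 = 0 → H181.TF.mul σ d c = H181.TF.mul σ c d := by
    intro d hd1 hd2
    have h1 : T.el d ∈ T.QA := by
      rw [R.mem_QA, R.el, hd1, hd2]
      rfl
    have h2 := hc _ h1
    change T.el d * T.el c = T.el c * T.el d at h2
    rw [H181.TF.el_mul T hK.two hK.sq, H181.TF.el_mul T hK.two hK.sq] at h2
    exact T.bij.1 h2
  have k7 := key ⟨0, 0, 0, 0, 0, 0, 0, 0, 0, 1, 0, 0⟩ rfl rfl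
  have hs0 : ∀ {x : K}, σ x = 0 → x = 0 := fun {x} h => (map_eq_zero σ).1 h
  have ha1 : c.a1 = 0 := by
    have h := congrArg Cd.a3 k7
    (dsimp only [H181.TF.mul] at h; simp only [ha8, hb8, map_zero, map_one, zero_mul, mul_zero, add_zero, zero_add, one_mul, mul_one] at h)
    apply hs0
    simpa using h
  have ha2 : c.a2 = 0 := by
    have h := congrArg Cd.a5 k7
    (dsimp only [H181.TF.mul] at h; simp only [ha8, hb8, ha1, map_zero, map_one, zero_mul, mul_zero, add_zero, zero_add, one_mul, mul_one] at h)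
    apply hs0
    simpa using h
  have hb2 : c.b2 = 0 := by
    have h := congrArg Cd.b4 k7
    (dsimp only [H181.TF.mul] at h; simp only [ha8, hb8, ha1, ha2, map_zero, map_one, zero_mul, mul_zero, add_zero, zero_add, one_mul, mul_one] at h)
    simpa using h
  have ha4 : c.a4 = 0 := by
    have h := congrArg Cd.b6 k7
    (dsimp only [H181.TF.mul] at h; simp only [ha8, hb8, ha1, ha2, map_zero, map_one, zero_mul, mul_zero, add_zero, zero_add, one_mul, mul_one] at h)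
    simpa using h
  have k1 := key ⟨1, 0, 0, 0, 0, 0, 0, 0, 0, 0, 0, 0⟩ rfl rfl
  have ha6 : c.a6 = 0 := by
    have h := congrArg Cd.b2 k1
    (dsimp only [H181.TF.mul] at h; simp only [ha8, hb8, ha1, ha2, hb2, ha4, map_zero, map_one, zero_mul, mul_zero, add_zero, zero_add, one_mul, mul_one] at h)
    simpa using h.symm
  have ha7 : c.a7 = 0 := by
    have h := congrArg Cd.a3 k1
    (dsimp only [H181.TF.mul] at h; simp only [ha8, hb8, ha1, ha2, hb2, ha4, ha6, map_zero, map_one, zero_mul, mul_zero, add_zero, zero_add, one_mul, mul_one] at h)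
    simpa using h
  have hb6 : c.b6 = 0 := by
    have h := congrArg Cd.b4 k1
    (dsimp only [H181.TF.mul] at h; simp only [ha8, hb8, ha1, ha2, hb2, ha4, ha6, ha7, map_zero, map_one, zero_mul, mul_zero, add_zero, zero_add, one_mul, mul_one] at h)
    simpa using h
  have k6 := key ⟨0, 0, 0, 0, 0, 0, 0, 1, 0, 0, 0, 0⟩ rfl rfl
  have ha3 : c.a3 = 0 := by
    have h := congrArg Cd.b4 k6
    (dsimp only [H181.TF.mul] at h; simp only [ha8, hb8, ha1, ha2, hb2, ha4, ha6, ha7, hb6, map_zero, map_one, zero_mul, mul_zero, add_zero, zero_add, one_mul, mul_one] at h)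
    simpa using h
  have k2 := key ⟨0, 1, 0, 0, 0, 0, 0, 0, 0, 0, 0, 0⟩ rfl rfl
  have ha5 : c.a5 = 0 := by
    have h := congrArg Cd.b4 k2
    (dsimp only [H181.TF.mul] at h; simp only [ha8, hb8, ha1, ha2, hb2, ha4, ha6, ha7, hb6, ha3, map_zero, map_one, zero_mul, mul_zero, add_zero, zero_add, one_mul, mul_one] at h)
    simpa using h
  refine ⟨c.b4, ?_⟩
  show T.x1 c.a1 * T.x2 c.a2 c.b2 * T.x3 c.a3 * T.x4 c.a4 c.b4 * T.x5 c.a5 * T.x6 c.a6 c.b6 * T.x7 c.a7 * T.x8 c.a8 c.b8 = _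
  rw [ha1, ha2, hb2, ha3, ha4, ha5, ha6, hb6, ha7, ha8, hb8, x1_zero T.rel, x2_zero T.rel, x3_zero T.rel, x5_zero T.rel,
    x6_zero T.rel, x7_zero T.rel, x8_zero T.rel]
  simp

end Cfsg.Agent.H240.TF
end

-- part: H659/TF/Rig
section
/-!
# S5262: automorphisms of `QA` and of `QB` commuting with the torus come from the torus (`q ≥ 8`) (helper659)

* `fix1` … `fix8` : `X_i` is the set of the fixed points in `U` of an element of the torus;
* `ch1` … `ch8` : the torus acts on `X_i` by all scalars;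
* `odd_abs`, `even_abs` : scalar form of a map commuting with the torus;
* `rigidA`, `rigidB`.
-/

set_option autoImplicit false

namespace Cfsg.Agent.H659.TF

open Cfsg.Agent.Octagon.Pkg Cfsg.Agent.H745.TF Cfsg.Agent.H805.TF

universe u v w

/-! ### the field -/

section field

variable {K : Type u} [Field K] {σ : K →+* K}

theorem sq_one (h2 : (2 : K) = 0) {x : K} (h : x ^ 2 = 1) : x = 1 := by
  have h1 : (x - 1) ^ 2 = 0 := by linear_combination h - (x - 1) * h2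
  have h3 : x - 1 = 0 := by
    rcases pow_eq_zero_iff (two_ne_zero) |>.1 h1 with h4
    exact h4
  linear_combination h3

theorem nsig (hs : ∀ x, σ (σ x) = x ^ 2) {x : K} (h : x * σ x = 1) : x = 1 := by
  have h3 : σ x * x ^ 2 = 1 := by
    have := congrArg σ h
    rwa [map_mul, map_one, hs] at this
  have h5 : x * (x * σ x) = 1 := by
    rw [← h3]; ring
  rwa [h, mul_one] at h5

theorem nsig2 (h2 : (2 : K) = 0) (hs : ∀ x, σ (σ x) = x ^ 2) {x : K} (h : x ^ 2 * σ x = 1) : x = 1 := by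
  have h3 := congrArg σ h
  rw [map_mul, map_pow, map_one, hs] at h3
  apply nsig hs
  apply sq_one h2
  linear_combination h3

/-- the conditions on a parameter -/
structure Nt (σ : K →+* K) (y : K) : Prop where
  n0 : y ≠ 0
  n1 : y ≠ 1
  n2 : σ y ≠ 1
  n3 : y * σ y ≠ 1
  n4 : y ^ 2 * σ y ≠ 1
  n5 : (y * σ y) ^ 2 ≠ 1
  n6 : y ^ 2 ≠ 1
  n7 : σ y ≠ y

theorem exists_nt {m : ℕ} (hK : HypK σ m) (hm : 1 ≤ m) : ∃ y : K, Nt σ y := by
  haveI := hK.fin
  classical
  haveI := Fintype.ofFinite K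
  have hs := hK.sq
  have h2 := hK.two
  obtain ⟨y, hy0, hy1⟩ : ∃ y : K, y ≠ 0 ∧ y ≠ 1 := by
    by_contra hcon
    push Not at hcon
    have h3 : (Finset.univ : Finset K) ⊆ {0, 1} := by
      intro x _
      by_cases hx : x = 0
      · simp [hx]
      · simp [hcon x hx]
    have h4 := Finset.card_le_card h3
    have h5 : ({0, 1} : Finset K).card ≤ 2 := Finset.card_le_two
    rw [Finset.card_univ, ← Nat.card_eq_fintype_card, hK.card] at h4
    have h6 : 2 ^ 3 ≤ 2 ^ (2 * m + 1) := Nat.pow_le_pow_right (by norm_num) (by omega)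
    omega
  refine ⟨y, hy0, hy1, ?_, ?_, ?_, ?_, ?_, ?_⟩
  · intro h
    exact hy1 (σ.injective (h.trans (map_one σ).symm))
  · exact fun h => hy1 (nsig hs h)
  · exact fun h => hy1 (nsig2 h2 hs h)
  · exact fun h => hy1 (nsig hs (sq_one h2 h))
  · exact fun h => hy1 (sq_one h2 h)
  · intro h
    have h3 := hs y
    rw [h, h] at h3
    apply hy1
    have h4 : y * (y - 1) = 0 := by linear_combination -h3
    rcases mul_eq_zero.1 h4 with h5 | h5
    · exact absurd h5 hy0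
    · linear_combination h5

end field

section

variable {K : Type u} [Field K] {σ : K →+* K} {U : Type v} [Group U] {T : TF σ U}

/-! ### the root elements are injective -/

theorem el_inj {c d : Cd K} (h : T.el c = T.el d) : c = d := T.bij.1 h

theorem el1 (T : TF σ U) (t : K) : T.x1 t = T.el ⟨t, 0, 0, 0, 0, 0, 0, 0, 0, 0, 0, 0⟩ := by
  simp [TF.el, x1_zero T.rel, x2_zero T.rel, x3_zero T.rel, x4_zero T.rel, x5_zero T.rel, x6_zero T.rel, x7_zero T.rel,
    x8_zero T.rel]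
theorem el2 (T : TF σ U) (p u : K) : T.x2 p u = T.el ⟨0, p, u, 0, 0, 0, 0, 0, 0, 0, 0, 0⟩ := by
  simp [TF.el, x1_zero T.rel, x2_zero T.rel, x3_zero T.rel, x4_zero T.rel, x5_zero T.rel, x6_zero T.rel, x7_zero T.rel,
    x8_zero T.rel]
theorem el3 (T : TF σ U) (t : K) : T.x3 t = T.el ⟨0, 0, 0, t, 0, 0, 0, 0, 0, 0, 0, 0⟩ := by
  simp [TF.el, x1_zero T.rel, x2_zero T.rel, x3_zero T.rel, x4_zero T.rel, x5_zero T.rel, x6_zero T.rel, x7_zero T.rel,
    x8_zero T.rel]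
theorem el4 (T : TF σ U) (p u : K) : T.x4 p u = T.el ⟨0, 0, 0, 0, p, u, 0, 0, 0, 0, 0, 0⟩ := by
  simp [TF.el, x1_zero T.rel, x2_zero T.rel, x3_zero T.rel, x4_zero T.rel, x5_zero T.rel, x6_zero T.rel, x7_zero T.rel,
    x8_zero T.rel]
theorem el5 (T : TF σ U) (t : K) : T.x5 t = T.el ⟨0, 0, 0, 0, 0, 0, t, 0, 0, 0, 0, 0⟩ := by
  simp [TF.el, x1_zero T.rel, x2_zero T.rel, x3_zero T.rel, x4_zero T.rel, x5_zero T.rel, x6_zero T.rel, x7_zero T.rel,
    x8_zero T.rel]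
theorem el6 (T : TF σ U) (p u : K) : T.x6 p u = T.el ⟨0, 0, 0, 0, 0, 0, 0, p, u, 0, 0, 0⟩ := by
  simp [TF.el, x1_zero T.rel, x2_zero T.rel, x3_zero T.rel, x4_zero T.rel, x5_zero T.rel, x6_zero T.rel, x7_zero T.rel,
    x8_zero T.rel]
theorem el7 (T : TF σ U) (t : K) : T.x7 t = T.el ⟨0, 0, 0, 0, 0, 0, 0, 0, 0, t, 0, 0⟩ := by
  simp [TF.el, x1_zero T.rel, x2_zero T.rel, x3_zero T.rel, x4_zero T.rel, x5_zero T.rel, x6_zero T.rel, x7_zero T.rel,
    x8_zero T.rel]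
theorem inj1 {s t : K} (h : T.x1 s = T.x1 t) : s = t := by
  rw [el1, el1] at h; exact congrArg Cd.a1 (el_inj h)
theorem inj3 {s t : K} (h : T.x3 s = T.x3 t) : s = t := by
  rw [el3, el3] at h; exact congrArg Cd.a3 (el_inj h)
theorem inj5 {s t : K} (h : T.x5 s = T.x5 t) : s = t := by
  rw [el5, el5] at h; exact congrArg Cd.a5 (el_inj h)
theorem inj7 {s t : K} (h : T.x7 s = T.x7 t) : s = t := by
  rw [el7, el7] at h; exact congrArg Cd.a7 (el_inj h)
theorem inj2 {p u q v : K} (h : T.x2 p u = T.x2 q v) : p = q ∧ u = v := by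
  rw [el2, el2] at h; exact ⟨congrArg Cd.a2 (el_inj h), congrArg Cd.b2 (el_inj h)⟩
theorem inj4 {p u q v : K} (h : T.x4 p u = T.x4 q v) : p = q ∧ u = v := by
  rw [el4, el4] at h; exact ⟨congrArg Cd.a4 (el_inj h), congrArg Cd.b4 (el_inj h)⟩
theorem inj6 {p u q v : K} (h : T.x6 p u = T.x6 q v) : p = q ∧ u = v := by
  rw [el6, el6] at h; exact ⟨congrArg Cd.a6 (el_inj h), congrArg Cd.b6 (el_inj h)⟩
/-! ### fixed points -/

/-- a fixed element has fixed coordinates -/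
theorem fix_eqs {α : MulAut U} {f g : K} (hα : T.IsTor α f g (RingEquiv.refl K)) {c : Cd K} (h : α (T.el c) = T.el c) :
    f * c.a1 = c.a1 ∧ f * g * c.a2 = c.a2 ∧ f * g * σ (f * g) * c.b2 = c.b2 ∧ f * g * σ (f * g) * g * c.a3 = c.a3 ∧
    σ (f * g) * g * c.a4 = c.a4 ∧ σ (f * g) * g * σ (σ (f * g) * g) * c.b4 = c.b4 ∧
    f * σ f * g ^ 2 * σ g ^ 2 * c.a5 = c.a5 ∧ f * g * σ g * c.a6 = c.a6 ∧
    f * g * σ g * σ (f * g * σ g) * c.b6 = c.b6 ∧ f * g ^ 2 * σ g * c.a7 = c.a7 ∧ g * c.a8 = c.a8 ∧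
    g * σ g * c.b8 = c.b8 := by
  have h1 : α (T.el c) = T.el ⟨f * c.a1, f * g * c.a2, f * g * σ (f * g) * c.b2, f * g * σ (f * g) * g * c.a3,
      σ (f * g) * g * c.a4, σ (f * g) * g * σ (σ (f * g) * g) * c.b4, f * σ f * g ^ 2 * σ g ^ 2 * c.a5,
      f * g * σ g * c.a6, f * g * σ g * σ (f * g * σ g) * c.b6, f * g ^ 2 * σ g * c.a7, g * c.a8, g * σ g * c.b8⟩ := by
    unfold TF.el
    simp only [map_mul α, hα.e1, hα.e2, hα.e3, hα.e4, hα.e5, hα.e6, hα.e7, hα.e8, RingEquiv.refl_apply]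
  rw [h] at h1
  have h2 := el_inj h1
  exact ⟨(congrArg Cd.a1 h2).symm, (congrArg Cd.a2 h2).symm, (congrArg Cd.b2 h2).symm, (congrArg Cd.a3 h2).symm,
    (congrArg Cd.a4 h2).symm, (congrArg Cd.b4 h2).symm, (congrArg Cd.a5 h2).symm, (congrArg Cd.a6 h2).symm,
    (congrArg Cd.b6 h2).symm, (congrArg Cd.a7 h2).symm, (congrArg Cd.a8 h2).symm, (congrArg Cd.b8 h2).symm⟩

theorem zero_of {c a : K} (h : c * a = a) (hc : c ≠ 1) : a = 0 := by
  by_contra ha
  exact hc (mul_right_cancel₀ ha (h.trans (one_mul a).symm))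

/-- `X` consists of the fixed points of an element of the torus -/
def Fx1 (T : TF σ U) (X : K → U) : Prop :=
  ∃ (α : MulAut U) (f g : K), T.IsTor α f g (RingEquiv.refl K) ∧ (∀ t, α (X t) = X t) ∧ ∀ x, α x = x → ∃ t, x = X t

def Fx2 (T : TF σ U) (X : K → K → U) : Prop :=
  ∃ (α : MulAut U) (f g : K), T.IsTor α f g (RingEquiv.refl K) ∧ (∀ p u, α (X p u) = X p u) ∧
    ∀ x, α x = x → ∃ p u, x = X p u

theorem fix_aux (hs : ∀ x, σ (σ x) = x ^ 2) {α : MulAut U} {f g : K} (hα : T.IsTor α f g (RingEquiv.refl K)) {c : Cd K}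
    (h : α (T.el c) = T.el c) {z1 z2 z3 z4 z5 z6 z7 z8 : K} (h1 : f = z1) (h2 : f * g = z2)
    (h3 : f * g * σ (f * g) * g = z3) (h4 : σ (f * g) * g = z4) (h5 : f * σ f * g ^ 2 * σ g ^ 2 = z5)
    (h6 : f * g * σ g = z6) (h7 : f * g ^ 2 * σ g = z7) (h8 : g = z8) :
    (z1 ≠ 1 → c.a1 = 0) ∧ (z2 ≠ 1 → c.a2 = 0 ∧ c.b2 = 0) ∧ (z3 ≠ 1 → c.a3 = 0) ∧ (z4 ≠ 1 → c.a4 = 0 ∧ c.b4 = 0) ∧
    (z5 ≠ 1 → c.a5 = 0) ∧ (z6 ≠ 1 → c.a6 = 0 ∧ c.b6 = 0) ∧ (z7 ≠ 1 → c.a7 = 0) ∧ (z8 ≠ 1 → c.a8 = 0 ∧ c.b8 = 0) := by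
  obtain ⟨k1, k2, l2, k3, k4, l4, k5, k6, l6, k7, k8, l8⟩ := fix_eqs hα h
  rw [h1] at k1
  rw [h2] at k2 l2
  rw [h3] at k3
  rw [h4] at k4 l4
  rw [h5] at k5
  rw [h6] at k6 l6
  rw [h7] at k7
  rw [h8] at k8 l8
  have key : ∀ {z : K}, z ≠ 1 → z * σ z ≠ 1 := fun hz hz' => hz (nsig hs hz')
  exact ⟨zero_of k1, fun h => ⟨zero_of k2 h, zero_of l2 (key h)⟩, zero_of k3, fun h => ⟨zero_of k4 h, zero_of l4 (key h)⟩,
    zero_of k5, fun h => ⟨zero_of k6 h, zero_of l6 (key h)⟩, zero_of k7, fun h => ⟨zero_of k8 h, zero_of l8 (key h)⟩⟩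

section fix

variable {m : ℕ} (hK : HypK σ m) (hm : 1 ≤ m) (T)
include hK hm

theorem fix1 : Fx1 T T.x1 := by
  obtain ⟨y, h⟩ := exists_nt hK hm
  have hs := hK.sq
  have s0 : σ y ≠ 0 := (map_ne_zero σ).2 h.n0
  obtain ⟨α, hα⟩ := exists_tor T hK 1 y (RingEquiv.refl K) one_ne_zero h.n0
  refine ⟨α, 1, y, hα, fun t => ?_, fun x hx => ?_⟩
  · rw [hα.e1, one_mul, RingEquiv.refl_apply]
  · obtain ⟨c, rfl⟩ := T.bij.2 x
    obtain ⟨k1, k2, k3, k4, k5, k6, k7, k8⟩ := fix_aux hs hα hx (z1 := 1) (z2 := y) (z3 := y ^ 2 * σ y) (z4 := y * σ y)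
      (z5 := (y * σ y) ^ 2) (z6 := y * σ y) (z7 := y ^ 2 * σ y) (z8 := y) rfl (by ring) (by rw [one_mul]; ring)
      (by rw [one_mul]; ring) (by rw [map_one]; ring) (by ring) (by ring) rfl
    obtain ⟨c2, d2⟩ := k2 h.n1
    have c3 := k3 h.n4
    obtain ⟨c4, d4⟩ := k4 h.n3
    have c5 := k5 h.n5
    obtain ⟨c6, d6⟩ := k6 h.n3
    have c7 := k7 h.n4
    obtain ⟨c8, d8⟩ := k8 h.n1
    refine ⟨c.a1, ?_⟩
    rw [el1]
    exact congrArg T.el (Cd.ext rfl c2 d2 c3 c4 d4 c5 c6 d6 c7 c8 d8)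

theorem fix2 : Fx2 T T.x2 := by
  obtain ⟨y, h⟩ := exists_nt hK hm
  have hs := hK.sq
  have y0 := h.n0
  have s0 : σ y ≠ 0 := (map_ne_zero σ).2 h.n0
  obtain ⟨α, hα⟩ := exists_tor T hK y⁻¹ y (RingEquiv.refl K) (inv_ne_zero h.n0) h.n0
  have e2 : y⁻¹ * y = 1 := inv_mul_cancel₀ h.n0
  refine ⟨α, y⁻¹, y, hα, fun p u => ?_, fun x hx => ?_⟩
  · rw [hα.e2, e2, map_one, one_mul, one_mul, one_mul, RingEquiv.refl_apply, RingEquiv.refl_apply]
  · obtain ⟨c, rfl⟩ := T.bij.2 x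
    obtain ⟨k1, k2, k3, k4, k5, k6, k7, k8⟩ := fix_aux hs hα hx (z1 := y⁻¹) (z2 := 1) (z3 := y) (z4 := y)
      (z5 := y * σ y) (z6 := σ y) (z7 := y * σ y) (z8 := y) rfl e2 (by rw [e2, map_one]; ring)
      (by rw [e2, map_one]; ring) (by rw [map_inv₀]; field_simp) (by rw [e2, one_mul])
      (by rw [pow_two, ← mul_assoc, e2, one_mul]) rfl
    have c1 := k1 (inv_ne_one.2 h.n1)
    have c3 := k3 h.n1
    obtain ⟨c4, d4⟩ := k4 h.n1
    have c5 := k5 h.n3
    obtain ⟨c6, d6⟩ := k6 h.n2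
    have c7 := k7 h.n3
    obtain ⟨c8, d8⟩ := k8 h.n1
    refine ⟨c.a2, c.b2, ?_⟩
    rw [el2]
    exact congrArg T.el (Cd.ext c1 rfl rfl c3 c4 d4 c5 c6 d6 c7 c8 d8)

theorem fix3 : Fx1 T T.x3 := by
  obtain ⟨y, h⟩ := exists_nt hK hm
  have hs := hK.sq
  have y0 := h.n0
  have s0 : σ y ≠ 0 := (map_ne_zero σ).2 h.n0
  obtain ⟨α, hα⟩ := exists_tor T hK (y ^ 2 * σ y) (y * σ y)⁻¹ (RingEquiv.refl K) (mul_ne_zero (pow_ne_zero 2 y0) s0)
    (inv_ne_zero (mul_ne_zero y0 s0))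
  have e2 : y ^ 2 * σ y * (y * σ y)⁻¹ = y := by field_simp
  have sg : σ (y * σ y)⁻¹ = (σ y * y ^ 2)⁻¹ := by rw [map_inv₀, map_mul, hs]
  have e3 : y ^ 2 * σ y * (y * σ y)⁻¹ * σ (y ^ 2 * σ y * (y * σ y)⁻¹) * (y * σ y)⁻¹ = 1 := by
    rw [e2]; field_simp
  refine ⟨α, y ^ 2 * σ y, (y * σ y)⁻¹, hα, fun t => ?_, fun x hx => ?_⟩
  · rw [hα.e3, e3, one_mul, RingEquiv.refl_apply]
  · obtain ⟨c, rfl⟩ := T.bij.2 x
    obtain ⟨k1, k2, k3, k4, k5, k6, k7, k8⟩ := fix_aux hs hα hx (z1 := y ^ 2 * σ y) (z2 := y) (z3 := 1) (z4 := y⁻¹)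
      (z5 := (y ^ 2 * σ y)⁻¹) (z6 := (y * σ y)⁻¹) (z7 := ((y * σ y) ^ 2)⁻¹) (z8 := (y * σ y)⁻¹) rfl e2 e3
      (by rw [e2]; field_simp) (by rw [sg, map_mul, map_pow, hs]; field_simp) (by rw [e2, sg]; field_simp)
      (by rw [sg]; field_simp) rfl
    have c1 := k1 h.n4
    obtain ⟨c2, d2⟩ := k2 h.n1
    obtain ⟨c4, d4⟩ := k4 (inv_ne_one.2 h.n1)
    have c5 := k5 (inv_ne_one.2 h.n4)
    obtain ⟨c6, d6⟩ := k6 (inv_ne_one.2 h.n3)
    have c7 := k7 (inv_ne_one.2 h.n5)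
    obtain ⟨c8, d8⟩ := k8 (inv_ne_one.2 h.n3)
    refine ⟨c.a3, ?_⟩
    rw [el3]
    exact congrArg T.el (Cd.ext c1 c2 d2 rfl c4 d4 c5 c6 d6 c7 c8 d8)

theorem fix4 : Fx2 T T.x4 := by
  obtain ⟨y, h⟩ := exists_nt hK hm
  have hs := hK.sq
  have y0 := h.n0
  have s0 : σ y ≠ 0 := (map_ne_zero σ).2 h.n0
  obtain ⟨α, hα⟩ := exists_tor T hK (y * σ y) (σ y)⁻¹ (RingEquiv.refl K) (mul_ne_zero y0 s0) (inv_ne_zero s0)
  have e2 : y * σ y * (σ y)⁻¹ = y := by field_simp
  have sg : σ (σ y)⁻¹ = (y ^ 2)⁻¹ := by rw [map_inv₀, hs]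
  have e4 : σ (y * σ y * (σ y)⁻¹) * (σ y)⁻¹ = 1 := by
    rw [e2]; field_simp
  refine ⟨α, y * σ y, (σ y)⁻¹, hα, fun p u => ?_, fun x hx => ?_⟩
  · rw [hα.e4, e4, map_one, one_mul, one_mul, one_mul, RingEquiv.refl_apply, RingEquiv.refl_apply]
  · obtain ⟨c, rfl⟩ := T.bij.2 x
    obtain ⟨k1, k2, k3, k4, k5, k6, k7, k8⟩ := fix_aux hs hα hx (z1 := y * σ y) (z2 := y) (z3 := y) (z4 := 1)
      (z5 := y⁻¹) (z6 := y⁻¹) (z7 := (y * σ y)⁻¹) (z8 := (σ y)⁻¹) rfl e2 (by rw [e2]; field_simp) e4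
      (by rw [sg, map_mul, hs]; field_simp) (by rw [e2, sg]; field_simp)
      (by rw [sg]; field_simp) rfl
    have c1 := k1 h.n3
    obtain ⟨c2, d2⟩ := k2 h.n1
    have c3 := k3 h.n1
    have c5 := k5 (inv_ne_one.2 h.n1)
    obtain ⟨c6, d6⟩ := k6 (inv_ne_one.2 h.n1)
    have c7 := k7 (inv_ne_one.2 h.n3)
    obtain ⟨c8, d8⟩ := k8 (inv_ne_one.2 h.n2)
    refine ⟨c.a4, c.b4, ?_⟩
    rw [el4]
    exact congrArg T.el (Cd.ext c1 c2 d2 c3 rfl rfl c5 c6 d6 c7 c8 d8)

theorem fix5 : Fx1 T T.x5 := by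
  obtain ⟨y, h⟩ := exists_nt hK hm
  have hs := hK.sq
  have y0 := h.n0
  have s0 : σ y ≠ 0 := (map_ne_zero σ).2 h.n0
  obtain ⟨α, hα⟩ := exists_tor T hK (y ^ 2)⁻¹ y (RingEquiv.refl K) (inv_ne_zero (pow_ne_zero 2 y0)) y0
  have e2 : (y ^ 2)⁻¹ * y = y⁻¹ := by field_simp
  have sf : σ (y ^ 2)⁻¹ = (σ y ^ 2)⁻¹ := by rw [map_inv₀, map_pow]
  have e5 : (y ^ 2)⁻¹ * σ (y ^ 2)⁻¹ * y ^ 2 * σ y ^ 2 = 1 := by
    rw [sf]; field_simp
  refine ⟨α, (y ^ 2)⁻¹, y, hα, fun t => ?_, fun x hx => ?_⟩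
  · rw [hα.e5, e5, one_mul, RingEquiv.refl_apply]
  · obtain ⟨c, rfl⟩ := T.bij.2 x
    obtain ⟨k1, k2, k3, k4, k5, k6, k7, k8⟩ := fix_aux hs hα hx (z1 := (y ^ 2)⁻¹) (z2 := y⁻¹) (z3 := (σ y)⁻¹)
      (z4 := y * (σ y)⁻¹) (z5 := 1) (z6 := y⁻¹ * σ y) (z7 := σ y) (z8 := y) rfl e2
      (by rw [e2, map_inv₀]; field_simp) (by rw [e2, map_inv₀]; ring) e5 (by rw [e2])
      (by field_simp) rfl
    have c1 := k1 (inv_ne_one.2 h.n6)
    obtain ⟨c2, d2⟩ := k2 (inv_ne_one.2 h.n1)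
    have c3 := k3 (inv_ne_one.2 h.n2)
    obtain ⟨c4, d4⟩ := k4 (by
      intro h'
      apply h.n7
      field_simp at h'
      exact h'.symm)
    obtain ⟨c6, d6⟩ := k6 (by
      intro h'
      apply h.n7
      field_simp at h'
      exact h')
    have c7 := k7 h.n2
    obtain ⟨c8, d8⟩ := k8 h.n1
    refine ⟨c.a5, ?_⟩
    rw [el5]
    exact congrArg T.el (Cd.ext c1 c2 d2 c3 c4 d4 rfl c6 d6 c7 c8 d8)

theorem fix6 : Fx2 T T.x6 := by
  obtain ⟨y, h⟩ := exists_nt hK hm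
  have hs := hK.sq
  have y0 := h.n0
  have s0 : σ y ≠ 0 := (map_ne_zero σ).2 h.n0
  obtain ⟨α, hα⟩ := exists_tor T hK (y * σ y)⁻¹ y (RingEquiv.refl K) (inv_ne_zero (mul_ne_zero y0 s0)) y0
  have e2 : (y * σ y)⁻¹ * y = (σ y)⁻¹ := by field_simp
  have sf : σ (y * σ y)⁻¹ = (σ y * y ^ 2)⁻¹ := by rw [map_inv₀, map_mul, hs]
  have sp : σ (σ y)⁻¹ = (y ^ 2)⁻¹ := by rw [map_inv₀, hs]
  have e6 : (y * σ y)⁻¹ * y * σ y = 1 := by
    rw [e2, inv_mul_cancel₀ s0]
  refine ⟨α, (y * σ y)⁻¹, y, hα, fun p u => ?_, fun x hx => ?_⟩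
  · rw [hα.e6, e6, map_one, one_mul, one_mul, one_mul, RingEquiv.refl_apply, RingEquiv.refl_apply]
  · obtain ⟨c, rfl⟩ := T.bij.2 x
    obtain ⟨k1, k2, k3, k4, k5, k6, k7, k8⟩ := fix_aux hs hα hx (z1 := (y * σ y)⁻¹) (z2 := (σ y)⁻¹)
      (z3 := (y * σ y)⁻¹) (z4 := y⁻¹) (z5 := y⁻¹) (z6 := 1) (z7 := y) (z8 := y) rfl e2
      (by rw [e2, sp]; field_simp) (by rw [e2, sp]; field_simp) (by rw [sf]; field_simp) e6
      (by field_simp) rfl
    have c1 := k1 (inv_ne_one.2 h.n3)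
    obtain ⟨c2, d2⟩ := k2 (inv_ne_one.2 h.n2)
    have c3 := k3 (inv_ne_one.2 h.n3)
    obtain ⟨c4, d4⟩ := k4 (inv_ne_one.2 h.n1)
    have c5 := k5 (inv_ne_one.2 h.n1)
    have c7 := k7 h.n1
    obtain ⟨c8, d8⟩ := k8 h.n1
    refine ⟨c.a6, c.b6, ?_⟩
    rw [el6]
    exact congrArg T.el (Cd.ext c1 c2 d2 c3 c4 d4 c5 rfl rfl c7 c8 d8)

theorem fix7 : Fx1 T T.x7 := by
  obtain ⟨y, h⟩ := exists_nt hK hm
  have hs := hK.sq
  have y0 := h.n0
  have s0 : σ y ≠ 0 := (map_ne_zero σ).2 h.n0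
  obtain ⟨α, hα⟩ := exists_tor T hK (y ^ 2 * σ y)⁻¹ y (RingEquiv.refl K)
    (inv_ne_zero (mul_ne_zero (pow_ne_zero 2 y0) s0)) y0
  have e2 : (y ^ 2 * σ y)⁻¹ * y = (y * σ y)⁻¹ := by field_simp
  have sf : σ (y ^ 2 * σ y)⁻¹ = (σ y ^ 2 * y ^ 2)⁻¹ := by rw [map_inv₀, map_mul, map_pow, hs]
  have sp : σ (y * σ y)⁻¹ = (σ y * y ^ 2)⁻¹ := by rw [map_inv₀, map_mul, hs]
  have e7 : (y ^ 2 * σ y)⁻¹ * y ^ 2 * σ y = 1 := by field_simp
  refine ⟨α, (y ^ 2 * σ y)⁻¹, y, hα, fun t => ?_, fun x hx => ?_⟩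
  · rw [hα.e7, e7, one_mul, RingEquiv.refl_apply]
  · obtain ⟨c, rfl⟩ := T.bij.2 x
    obtain ⟨k1, k2, k3, k4, k5, k6, k7, k8⟩ := fix_aux hs hα hx (z1 := (y ^ 2 * σ y)⁻¹) (z2 := (y * σ y)⁻¹)
      (z3 := ((y * σ y) ^ 2)⁻¹) (z4 := (y * σ y)⁻¹) (z5 := (y ^ 2 * σ y)⁻¹) (z6 := y⁻¹) (z7 := 1) (z8 := y) rfl e2
      (by rw [e2, sp]; field_simp) (by rw [e2, sp]; field_simp) (by rw [sf]; field_simp) (by rw [e2]; field_simp)
      e7 rfl
    have c1 := k1 (inv_ne_one.2 h.n4)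
    obtain ⟨c2, d2⟩ := k2 (inv_ne_one.2 h.n3)
    have c3 := k3 (inv_ne_one.2 h.n5)
    obtain ⟨c4, d4⟩ := k4 (inv_ne_one.2 h.n3)
    have c5 := k5 (inv_ne_one.2 h.n4)
    obtain ⟨c6, d6⟩ := k6 (inv_ne_one.2 h.n1)
    obtain ⟨c8, d8⟩ := k8 h.n1
    refine ⟨c.a7, ?_⟩
    rw [el7]
    exact congrArg T.el (Cd.ext c1 c2 d2 c3 c4 d4 c5 c6 d6 rfl c8 d8)

end fix

/-! ### all scalars occur -/

/-- the torus acts on `X` by all scalars -/
def Ch1 (T : TF σ U) (X : K → U) : Prop :=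
  ∀ c : K, c ≠ 0 → ∃ (α : MulAut U) (f g : K), T.IsTor α f g (RingEquiv.refl K) ∧ ∀ t, α (X t) = X (c * t)

def Ch2 (T : TF σ U) (X : K → K → U) : Prop :=
  ∀ c : K, c ≠ 0 → ∃ (α : MulAut U) (f g : K), T.IsTor α f g (RingEquiv.refl K) ∧
    ∀ p u, α (X p u) = X (c * p) (c * σ c * u)

section ch

variable {m : ℕ} (hK : HypK σ m) (T)
include hK

theorem ch1 : Ch1 T T.x1 := by
  intro c hc
  obtain ⟨α, hα⟩ := exists_tor T hK c 1 (RingEquiv.refl K) hc one_ne_zero
  exact ⟨α, c, 1, hα, fun t => by rw [hα.e1, RingEquiv.refl_apply]⟩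

theorem ch2 : Ch2 T T.x2 := by
  intro c hc
  obtain ⟨α, hα⟩ := exists_tor T hK c 1 (RingEquiv.refl K) hc one_ne_zero
  exact ⟨α, c, 1, hα, fun p u => by rw [hα.e2, RingEquiv.refl_apply, RingEquiv.refl_apply, mul_one]⟩

theorem exists_nsig {c : K} (hc : c ≠ 0) : ∃ r : K, r ≠ 0 ∧ r * σ r = c := by
  haveI := hK.fin
  obtain ⟨r, hr⟩ := exists_sq hK.two hK.sq c
  refine ⟨r, ?_, hr⟩
  rintro rfl
  rw [zero_mul] at hr
  exact hc hr.symm

theorem exists_sig {c : K} (hc : c ≠ 0) : ∃ r : K, r ≠ 0 ∧ σ r = c := by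
  haveI := hK.fin
  obtain ⟨r, hr⟩ := Finite.surjective_of_injective σ.injective c
  refine ⟨r, ?_, hr⟩
  rintro rfl
  rw [map_zero] at hr
  exact hc hr.symm

theorem ch3 : Ch1 T T.x3 := by
  intro c hc
  obtain ⟨r, hr, h⟩ := exists_nsig hK hc
  obtain ⟨α, hα⟩ := exists_tor T hK r 1 (RingEquiv.refl K) hr one_ne_zero
  exact ⟨α, r, 1, hα, fun t => by rw [hα.e3, RingEquiv.refl_apply, mul_one, mul_one, h]⟩

theorem ch4 : Ch2 T T.x4 := by
  intro c hc
  obtain ⟨r, hr, h⟩ := exists_sig hK hc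
  obtain ⟨α, hα⟩ := exists_tor T hK r 1 (RingEquiv.refl K) hr one_ne_zero
  exact ⟨α, r, 1, hα, fun p u => by rw [hα.e4, RingEquiv.refl_apply, RingEquiv.refl_apply, mul_one, mul_one, h]⟩

theorem ch5 : Ch1 T T.x5 := by
  intro c hc
  obtain ⟨r, hr, h⟩ := exists_nsig hK hc
  obtain ⟨α, hα⟩ := exists_tor T hK r 1 (RingEquiv.refl K) hr one_ne_zero
  exact ⟨α, r, 1, hα, fun t => by rw [hα.e5, RingEquiv.refl_apply, map_one, one_pow, mul_one, mul_one, h]⟩

theorem ch6 : Ch2 T T.x6 := by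
  intro c hc
  obtain ⟨α, hα⟩ := exists_tor T hK c 1 (RingEquiv.refl K) hc one_ne_zero
  exact ⟨α, c, 1, hα, fun p u => by rw [hα.e6, RingEquiv.refl_apply, RingEquiv.refl_apply, map_one, mul_one, mul_one]⟩

theorem ch7 : Ch1 T T.x7 := by
  intro c hc
  obtain ⟨α, hα⟩ := exists_tor T hK c 1 (RingEquiv.refl K) hc one_ne_zero
  exact ⟨α, c, 1, hα, fun t => by rw [hα.e7, RingEquiv.refl_apply, map_one, one_pow, mul_one, mul_one]⟩

end ch

/-! ### the abstract scalar lemmas -/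

/-- an injective homomorphism `Q → U` commuting with the torus -/
structure Bt (T : TF σ U) (Q : Subgroup U) (b : U → U) : Prop where
  mul : ∀ x ∈ Q, ∀ y ∈ Q, b (x * y) = b x * b y
  inj : ∀ x ∈ Q, ∀ y ∈ Q, b x = b y → x = y
  com : ∀ (α : MulAut U) (f g : K), T.IsTor α f g (RingEquiv.refl K) → ∀ x ∈ Q, b (α x) = α (b x)

theorem Bt.one {Q : Subgroup U} {b : U → U} (B : Bt T Q b) : b 1 = 1 := by
  have h := B.mul 1 Q.one_mem 1 Q.one_mem
  rw [one_mul] at h
  exact (mul_eq_left.1 h.symm)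

theorem odd_abs {Q : Subgroup U} {b : U → U} (B : Bt T Q b) {X : K → U} (h0 : X 0 = 1)
    (hinj : ∀ s t, X s = X t → s = t) (hX : ∀ t, X t ∈ Q) (hfix : Fx1 T X) (hch : Ch1 T X) :
    ∃ a : K, a ≠ 0 ∧ ∀ t, b (X t) = X (a * t) := by
  obtain ⟨α, f, g, hα, h1, h2⟩ := hfix
  obtain ⟨a, ha⟩ := h2 (b (X 1)) (by rw [← B.com α f g hα _ (hX 1), h1])
  refine ⟨a, ?_, fun t => ?_⟩
  · rintro rfl
    rw [h0, ← B.one, ← h0] at ha
    exact one_ne_zero (hinj _ _ (B.inj _ (hX _) _ (hX _) ha))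
  · by_cases ht : t = 0
    · rw [ht, mul_zero, h0, B.one]
    · obtain ⟨γ, f', g', hγ, h3⟩ := hch t ht
      have h4 := h3 1
      rw [mul_one] at h4
      rw [← h4, B.com γ f' g' hγ _ (hX 1), ha, h3, mul_comm]

theorem even_abs {m : ℕ} (hK : HypK σ m) (hm : 1 ≤ m) {Q : Subgroup U} {b : U → U} (B : Bt T Q b) {X : K → K → U}
    (hmul : ∀ p u q v, X p u * X q v = X (p + q) (u + v + p * σ q)) (h0 : X 0 0 = 1)
    (hinj : ∀ p u q v, X p u = X q v → p = q ∧ u = v) (hX : ∀ p u, X p u ∈ Q) (hfix : Fx2 T X) (hch : Ch2 T X) :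
    ∃ a : K, a ≠ 0 ∧ ∀ p u, b (X p u) = X (a * p) (a * σ a * u) := by
  have h2K := hK.two
  have hdb : ∀ x : K, x + x = 0 := fun x => by linear_combination x * h2K
  obtain ⟨α, f, g, hα, h1, h2⟩ := hfix
  have hex : ∀ p u, ∃ h k, b (X p u) = X h k := fun p u => h2 (b (X p u)) (by rw [← B.com α f g hα _ (hX p u), h1])
  -- the centre
  obtain ⟨bb, hbb⟩ : ∃ k, b (X 0 1) = X 0 k := by
    obtain ⟨h, k, hk⟩ := hex 0 1
    have h3 : b (X 0 1 * X 0 1) = X h k * X h k := by rw [B.mul _ (hX _ _) _ (hX _ _), hk]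
    rw [hmul, hmul, hdb, hdb, hdb, hdb, zero_mul, zero_add, h0, B.one, ← h0] at h3
    have h4 := (hinj _ _ _ _ h3).2
    rw [zero_add] at h4
    have h5 : h = 0 := by
      rcases mul_eq_zero.1 h4.symm with h6 | h6
      · exact h6
      · exact (map_eq_zero σ).1 h6
    exact ⟨k, by rw [hk, h5]⟩
  have hz : ∀ w, b (X 0 w) = X 0 (w * bb) := by
    intro w
    by_cases hw : w = 0
    · rw [hw, zero_mul, h0, B.one]
    · obtain ⟨c, hc, hcw⟩ := exists_nsig hK hw
      obtain ⟨γ, f', g', hγ, h3⟩ := hch c hc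
      have h4 := h3 0 1
      rw [mul_zero, mul_one, hcw] at h4
      rw [← h4, B.com γ f' g' hγ _ (hX _ _), hbb, h3, mul_zero, hcw]
  obtain ⟨a, l, hal⟩ := hex 1 0
  have hp : ∀ p, b (X p 0) = X (p * a) (p * σ p * l) := by
    intro p
    by_cases hp : p = 0
    · rw [hp, zero_mul, zero_mul, zero_mul, h0, B.one]
    · obtain ⟨γ, f', g', hγ, h3⟩ := hch p hp
      have h4 := h3 1 0
      rw [mul_zero, mul_one] at h4
      rw [← h4, B.com γ f' g' hγ _ (hX _ _), hal, h3]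
  have hba : bb = a * σ a := by
    have h3 : b (X 1 0 * X 1 0) = X a l * X a l := by rw [B.mul _ (hX _ _) _ (hX _ _), hal]
    rw [hmul, hmul, hdb, hdb, hdb, map_one, mul_one, zero_add, hbb, hdb, zero_add] at h3
    exact (hinj _ _ _ _ h3).2
  obtain ⟨y, hy⟩ := exists_nt hK hm
  have hl : l = 0 := by
    have h3 : b (X y 0 * X 1 0) = b (X (y + 1) 0 * X 0 y) := by
      rw [hmul, hmul, map_one, map_zero, mul_one, mul_zero, add_zero, add_zero, zero_add, add_zero]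
    rw [B.mul _ (hX _ _) _ (hX _ _), B.mul _ (hX _ _) _ (hX _ _), hp, hp, hp, hz, hmul, hmul, hba] at h3
    have h4 := (hinj _ _ _ _ h3).2
    rw [map_add, map_one, one_mul, map_zero, mul_zero, add_zero, one_mul, one_mul] at h4
    have h5 : l * (σ y - y) = 0 := by linear_combination -h4 - y * l * h2K
    rcases mul_eq_zero.1 h5 with h6 | h6
    · exact h6
    · exact absurd (sub_eq_zero.1 h6) hy.n7
  refine ⟨a, ?_, fun p u => ?_⟩
  · rintro rfl
    rw [hl, h0, ← B.one, ← h0] at hal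
    exact one_ne_zero (hinj _ _ _ _ (B.inj _ (hX _ _) _ (hX _ _) hal)).1
  · have h3 : X p u = X p 0 * X 0 u := by rw [hmul, map_zero, mul_zero, add_zero, add_zero, zero_add]
    rw [h3, B.mul _ (hX _ _) _ (hX _ _), hp, hz, hmul, hl, hba, map_zero, mul_zero, mul_zero, add_zero, add_zero,
      zero_add, mul_comm p, mul_comm u]

/-! ### restriction -/

/-- the root elements are mapped into the root groups by the torus -/
theorem tor_QA {α : MulAut U} {f g : K} {τ : K ≃+* K} (hα : T.IsTor α f g τ) : ∀ x ∈ T.QA, α x ∈ T.QA := by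
  have h : T.QA ≤ T.QA.comap α.toMonoidHom := by
    nth_rw 1 [TF.QA]
    unfold TF.X1 TF.X2 TF.X3 TF.X4 TF.X5 TF.X6 TF.X7
    refine sup_le (sup_le (sup_le (sup_le (sup_le (sup_le ?_ ?_) ?_) ?_) ?_) ?_) ?_ <;>
      refine (Subgroup.closure_le _).2 ?_
    · rintro _ ⟨t, rfl⟩; change α _ ∈ T.QA; rw [hα.e1]; exact x1_A _
    · rintro _ ⟨p, u, rfl⟩; change α _ ∈ T.QA; rw [hα.e2]; exact x2_A _ _
    · rintro _ ⟨t, rfl⟩; change α _ ∈ T.QA; rw [hα.e3]; exact x3_A _
    · rintro _ ⟨p, u, rfl⟩; change α _ ∈ T.QA; rw [hα.e4]; exact x4_A _ _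
    · rintro _ ⟨t, rfl⟩; change α _ ∈ T.QA; rw [hα.e5]; exact x5_A _
    · rintro _ ⟨p, u, rfl⟩; change α _ ∈ T.QA; rw [hα.e6]; exact x6_A _ _
    · rintro _ ⟨t, rfl⟩; change α _ ∈ T.QA; rw [hα.e7]; exact x7_A _
  exact fun x hx => h hx

/-- the restriction of an automorphism -/
theorem exists_restr' [Finite U] {Q : Subgroup U} {α : MulAut U} (h : ∀ x ∈ Q, α x ∈ Q) : ∃ t : MulAut Q, TF.IsR α t := by
  let φ : Q →* Q := (α.toMonoidHom.comp Q.subtype).codRestrict Q (fun x => h _ x.2)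
  have hinj : Function.Injective φ := by
    intro x y hxy
    have h1 : α (x : U) = α (y : U) := congrArg Subtype.val hxy
    exact Subtype.ext (α.injective h1)
  exact ⟨MulEquiv.ofBijective φ (Finite.injective_iff_bijective.1 hinj), fun e => rfl⟩

/-- the extension of `β` by `1` outside `Q` -/
noncomputable def ext1 {Q : Subgroup U} (β : MulAut Q) (x : U) : U := by
  classical exact if h : x ∈ Q then ((β ⟨x, h⟩ : Q) : U) else 1

theorem ext1_eq {Q : Subgroup U} (β : MulAut Q) {x : U} (h : x ∈ Q) : ext1 β x = ((β ⟨x, h⟩ : Q) : U) := by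
  unfold ext1
  exact dif_pos h

theorem ext1_Bt [Finite U] {Q : Subgroup U}
    (hQ : ∀ (α : MulAut U) (f g : K), T.IsTor α f g (RingEquiv.refl K) → ∀ x ∈ Q, α x ∈ Q) (β : MulAut Q)
    (hβ : ∀ f g α, T.IsTor α f g (RingEquiv.refl K) → ∀ t, TF.IsR α t → β * t = t * β) : Bt T Q (ext1 β) where
  mul x hx y hy := by
    rw [ext1_eq β hx, ext1_eq β hy, ext1_eq β (Q.mul_mem hx hy), ← Subgroup.coe_mul, ← map_mul]
    rfl
  inj x hx y hy h := by
    rw [ext1_eq β hx, ext1_eq β hy] at h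
    have h1 := β.injective (Subtype.ext h)
    exact congrArg Subtype.val h1
  com α f g hα x hx := by
    obtain ⟨t, ht⟩ := exists_restr' (hQ α f g hα)
    have h1 := DFunLike.congr_fun (hβ f g α hα t ht) ⟨x, hx⟩
    rw [MulAut.mul_apply, MulAut.mul_apply] at h1
    have h2 : t ⟨x, hx⟩ = ⟨α x, hQ α f g hα x hx⟩ := Subtype.ext (ht _)
    rw [h2] at h1
    rw [ext1_eq β hx, ext1_eq β (hQ α f g hα x hx), h1, ht]

/-- a homomorphism agreeing with `α` on the root elements -/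
theorem isR_A {β : MulAut T.QA} {α : MulAut U} (h1 : ∀ t, ext1 β (T.x1 t) = α (T.x1 t))
    (h2 : ∀ p u, ext1 β (T.x2 p u) = α (T.x2 p u)) (h3 : ∀ t, ext1 β (T.x3 t) = α (T.x3 t))
    (h4 : ∀ p u, ext1 β (T.x4 p u) = α (T.x4 p u)) (h5 : ∀ t, ext1 β (T.x5 t) = α (T.x5 t))
    (h6 : ∀ p u, ext1 β (T.x6 p u) = α (T.x6 p u)) (h7 : ∀ t, ext1 β (T.x7 t) = α (T.x7 t)) : TF.IsR α β := by
  let M : Subgroup U := ((T.QA.subtype.comp β.toMonoidHom).eqLocus (α.toMonoidHom.comp T.QA.subtype)).map T.QA.subtype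
  have key : ∀ x (hx : x ∈ T.QA), ext1 β x = α x → x ∈ M := by
    intro x hx h
    rw [ext1_eq β hx] at h
    exact ⟨⟨x, hx⟩, h, rfl⟩
  have hM : T.QA ≤ M := by
    nth_rw 1 [TF.QA]
    unfold TF.X1 TF.X2 TF.X3 TF.X4 TF.X5 TF.X6 TF.X7
    refine sup_le (sup_le (sup_le (sup_le (sup_le (sup_le ?_ ?_) ?_) ?_) ?_) ?_) ?_ <;>
      refine (Subgroup.closure_le _).2 ?_
    · rintro _ ⟨t, rfl⟩; exact key _ (x1_A _) (h1 _)
    · rintro _ ⟨p, u, rfl⟩; exact key _ (x2_A _ _) (h2 _ _)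
    · rintro _ ⟨t, rfl⟩; exact key _ (x3_A _) (h3 _)
    · rintro _ ⟨p, u, rfl⟩; exact key _ (x4_A _ _) (h4 _ _)
    · rintro _ ⟨t, rfl⟩; exact key _ (x5_A _) (h5 _)
    · rintro _ ⟨p, u, rfl⟩; exact key _ (x6_A _ _) (h6 _ _)
    · rintro _ ⟨t, rfl⟩; exact key _ (x7_A _) (h7 _)
  intro e
  obtain ⟨e', he', h⟩ := hM e.2
  have h8 : e' = e := Subtype.ext h
  rw [h8] at he'
  exact he'

/-- from a relation `x y = y x z` -/
theorem Bt.rel {Q : Subgroup U} {b : U → U} (B : Bt T Q b) {x y z : U} (hx : x ∈ Q) (hy : y ∈ Q) (hz : z ∈ Q)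
    (h : x * y = y * x * z) {z' : U} (h' : b x * b y = b y * b x * z') : b z = z' := by
  have h1 := congrArg b h
  rw [B.mul _ hx _ hy, B.mul _ (Q.mul_mem hy hx) _ hz, B.mul _ hy _ hx, h'] at h1
  exact (mul_left_cancel h1).symm

/-- **Scalars on `QA`.** -/
theorem scalA {m : ℕ} (hK : HypK σ m) (hm : 1 ≤ m) {b : U → U} (B : Bt T T.QA b) :
    ∃ f g : K, f ≠ 0 ∧ g ≠ 0 ∧ (∀ t, b (T.x1 t) = T.x1 (f * t)) ∧
    (∀ p u, b (T.x2 p u) = T.x2 (f * g * p) (f * g * σ (f * g) * u)) ∧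
    (∀ t, b (T.x3 t) = T.x3 (f * g * σ (f * g) * g * t)) ∧
    (∀ p u, b (T.x4 p u) = T.x4 (σ (f * g) * g * p) (σ (f * g) * g * σ (σ (f * g) * g) * u)) ∧
    (∀ t, b (T.x5 t) = T.x5 (f * σ f * g ^ 2 * σ g ^ 2 * t)) ∧
    (∀ p u, b (T.x6 p u) = T.x6 (f * g * σ g * p) (f * g * σ g * σ (f * g * σ g) * u)) ∧
    (∀ t, b (T.x7 t) = T.x7 (f * g ^ 2 * σ g * t)) := by
  have hs := hK.sq
  obtain ⟨a1, n1, h1⟩ := odd_abs B (x1_zero T.rel) (fun _ _ => inj1) x1_A (fix1 T hK hm) (ch1 T hK)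
  obtain ⟨a2, n2, h2⟩ := even_abs hK hm B T.rel.m2 (x2_zero T.rel) (fun _ _ _ _ => inj2) x2_A (fix2 T hK hm) (ch2 T hK)
  obtain ⟨a3, n3, h3⟩ := odd_abs B (x3_zero T.rel) (fun _ _ => inj3) x3_A (fix3 T hK hm) (ch3 T hK)
  obtain ⟨a4, n4, h4⟩ := even_abs hK hm B T.rel.m4 (x4_zero T.rel) (fun _ _ _ _ => inj4) x4_A (fix4 T hK hm) (ch4 T hK)
  obtain ⟨a5, n5, h5⟩ := odd_abs B (x5_zero T.rel) (fun _ _ => inj5) x5_A (fix5 T hK hm) (ch5 T hK)
  obtain ⟨a6, n6, h6⟩ := even_abs hK hm B T.rel.m6 (x6_zero T.rel) (fun _ _ _ _ => inj6) x6_A (fix6 T hK hm) (ch6 T hK)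
  obtain ⟨a7, n7, h7⟩ := odd_abs B (x7_zero T.rel) (fun _ _ => inj7) x7_A (fix7 T hK hm) (ch7 T hK)
  have s2 : σ a2 ≠ 0 := (map_ne_zero σ).2 n2
  have s1 : σ a1 ≠ 0 := (map_ne_zero σ).2 n1
  -- relations
  have r14 : a2 * σ a2 = a1 * a4 := by
    have h := B.rel (x1_A _) (x4_A _ _) (x2_A _ _) (T.rel.r14 1 1 0) (by rw [h1, h4, T.rel.r14])
    rw [h2] at h
    have := (inj2 h).2
    linear_combination this
  have r24 : a3 = a2 * a4 := by
    have h := B.rel (x2_A _ _) (x4_A _ _) (x3_A _) (T.rel.r24 1 0 1 0) (by rw [h2, h4, T.rel.r24])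
    rw [h3] at h
    have := inj3 h
    linear_combination this
  have r46 : a5 = a4 * a6 := by
    have h := B.rel (x4_A _ _) (x6_A _ _) (x5_A _) (T.rel.r46 1 0 1 0) (by rw [h4, h6, T.rel.r46])
    rw [h5] at h
    have := inj5 h
    linear_combination this
  have r25 : a4 * σ a4 = a2 * a5 := by
    have h := B.rel (x2_A _ _) (x5_A _) (x4_A _ _) (T.rel.r25 1 0 1) (by rw [h2, h5, T.rel.r25])
    rw [h4] at h
    have := (inj4 h).2
    linear_combination this
  have r47 : a6 * σ a6 = a4 * a7 := by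
    have h := B.rel (x4_A _ _) (x7_A _) (x6_A _ _) (T.rel.r47 1 0 1) (by rw [h4, h7, T.rel.r47])
    rw [h6] at h
    have := (inj6 h).2
    linear_combination this
  obtain ⟨g, hg0, hg⟩ : ∃ g : K, g ≠ 0 ∧ a2 = a1 * g := ⟨a1⁻¹ * a2, mul_ne_zero (inv_ne_zero n1) n2, by
    rw [mul_inv_cancel_left₀ n1]⟩
  have hsg : σ g ≠ 0 := (map_ne_zero σ).2 hg0
  subst hg
  have e4 : a4 = σ (a1 * g) * g := by
    apply mul_left_cancel₀ n1
    rw [← r14]; ring
  subst e4
  have e6 : a6 = a1 * g * σ g := by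
    rw [r46] at r25
    have h9 : (a1 * g) * a6 = σ (σ (a1 * g) * g) := by
      apply mul_left_cancel₀ n4
      rw [r25]; ring
    apply mul_left_cancel₀ n2
    rw [h9, map_mul, hs]; ring
  subst e6
  have e5 : a5 = a1 * σ a1 * g ^ 2 * σ g ^ 2 := by
    rw [r46, map_mul]; ring
  subst e5
  have e7 : a7 = a1 * g ^ 2 * σ g := by
    apply mul_left_cancel₀ n4
    rw [← r47, map_mul, map_mul, hs]; ring
  subst e7
  have e3 : a3 = a1 * g * σ (a1 * g) * g := by
    rw [r24]; ring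
  subst e3
  exact ⟨a1, g, n1, hg0, h1, h2, h3, h4, h5, h6, h7⟩

/-- **Rigidity on `QA`.** -/
theorem rigidA {m : ℕ} (hK : HypK σ m) (hm : 1 ≤ m) (T : TF σ U) (β : MulAut T.QA)
    (hβ : ∀ f g α, T.IsTor α f g (RingEquiv.refl K) → ∀ t, TF.IsR α t → β * t = t * β) :
    ∃ f g, f ≠ 0 ∧ g ≠ 0 ∧ ∀ α, T.IsTor α f g (RingEquiv.refl K) → TF.IsR α β := by
  haveI := finite_U T hK
  obtain ⟨f, g, hf, hg, h1, h2, h3, h4, h5, h6, h7⟩ := scalA hK hm
    (ext1_Bt (fun α f g hα x hx => tor_QA hα x hx) β hβ)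
  refine ⟨f, g, hf, hg, fun α hα => isR_A ?_ ?_ ?_ ?_ ?_ ?_ ?_⟩
  · intro t; rw [h1, hα.e1, RingEquiv.refl_apply]
  · intro p u; rw [h2, hα.e2, RingEquiv.refl_apply, RingEquiv.refl_apply]
  · intro t; rw [h3, hα.e3, RingEquiv.refl_apply]
  · intro p u; rw [h4, hα.e4, RingEquiv.refl_apply, RingEquiv.refl_apply]
  · intro t; rw [h5, hα.e5, RingEquiv.refl_apply]
  · intro p u; rw [h6, hα.e6, RingEquiv.refl_apply, RingEquiv.refl_apply]
  · intro t; rw [h7, hα.e7, RingEquiv.refl_apply]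

end

end Cfsg.Agent.H659.TF
end

-- part: H240/TF/Fin
section
/-!
# S5262: LA1 and LA2 (helper240)
-/

set_option autoImplicit false

namespace Cfsg.Agent.H240.TF

open Cfsg.Agent.H745.TF

universe u v

theorem stRig : StRig.{u, v} := by
  intro K _ σ m hK hm U _ T β hβ
  exact Cfsg.Agent.H659.TF.rigidA hK hm T β hβ

/-- **LA1**, from TI -/
theorem stLA1_of (hT : StTI.{u, v}) : StLA1.{u, v} := la_one hT fun hK _ _ _ T => cen hK T

/-- **LA2**, from TI -/
theorem stLA2_of (hT : StTI.{u, v}) : StLA2.{u, v} := la_two hT (fun hK _ _ _ T => cen hK T) stRig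

end Cfsg.Agent.H240.TF
end

private theorem dce_ce15a53c4a44 : _root_.True := by
  try have : _root_.True := by simp only [_root_.Cfsg.Agent.H745.TF.TF.QB.eq_1]
  try have : _root_.True := by simp only [_root_.Cfsg.Agent.H181.TF.mul.eq_1]
  try have : _root_.True := by simp only [_root_.Cfsg.Agent.H240.TF.Ctx.cG.congr_simp]
  try have : _root_.True := by simp only [_root_.Cfsg.Agent.H240.TF.rsH.congr_simp]
  try have : _root_.True := by simp only [_root_.Cfsg.Agent.H745.TF.TF.QA.eq_1]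
  exact _root_.True.intro
end

-- part: H587/TF/EssB
section
prune_inst 0x10106504150002000000000020003c62a20000020048000130e0050204c35c600d020020b8000c1208008804003c0060030000004000000020000000011d01a0802212029048a10c06008f802000000000000000000000000000000000041000000000000
set_option linter.all false
open scoped Cfsg.Agent.FastGrp

/-!
# S5262, ESS3 part (B): no essential subgroup `R` with `Y ≤ R ≤ N3`, `A37 ≰ R` (helper587)
-/

set_option autoImplicit false
set_option linter.unusedVariables false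
set_option linter.unusedSimpArgs false
set_option linter.style.haveILetI false
set_option linter.unusedSectionVars false

namespace Cfsg.Agent.H587.TF

open Cfsg Cfsg.FusionSystem Cfsg.Agent.H756.PU
open Cfsg.Agent.Octagon.Pkg Cfsg.Agent.H745.TF Cfsg.Agent.H752.TF Cfsg.Agent.H802.TE

universe u v

section

variable {K : Type u} [Field K] {σ : K →+* K} {m : ℕ} (hK : HypK σ m)
variable {U : Type v} [Group U] (T : TF σ U)

/-- the commutator in `N3`, in coordinates -/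
def cmm (σ : K →+* K) (c d : Cd K) : Cd K :=
  ⟨0, 0, 0, 0, 0,
    c.a4 * σ d.a4 + d.a4 * σ c.a4 + c.a6 * d.a3 + d.a6 * c.a3 + c.a7 * d.b2 + d.a7 * c.b2 + c.b8 * σ d.b2 + d.b8 * σ c.b2,
    c.a6 * d.a4 + d.a6 * c.a4 + c.b8 * d.b2 + d.b8 * c.b2, 0,
    c.a6 * σ d.a6 + d.a6 * σ c.a6 + c.a7 * d.a4 + d.a7 * c.a4 + σ c.b8 * d.b2 + σ d.b8 * c.b2 + c.b8 * d.a3 + d.b8 * c.a3,
    0, 0, 0⟩

include hK

theorem comm_N3 {g h : U} (hg : g ∈ T.N3) (hh : h ∈ T.N3) :
    co T (g * h * g⁻¹ * h⁻¹) = cmm σ (co T g) (co T h) := by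
  have key : g * h = T.el (cmm σ (co T g) (co T h)) * (h * g) := by
    refine co_injective T ?_
    rw [co_mul hK, co_mul hK, co_mul hK, co_el]
    rw [mem_N3 hK] at hg hh
    generalize co T g = c at hg ⊢
    generalize co T h = d at hh ⊢
    obtain ⟨c1, c2, c3⟩ := hg
    obtain ⟨d1, d2, d3⟩ := hh
    have h2 : (2 : K) = 0 := hK.two
    ext
    · rw [mul_a1, mul_a1, mul_a1]
      simp only [cmm, c1, c2, c3, d1, d2, d3, zero_mul, mul_zero, add_zero, zero_add, map_zero]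
    · rw [mul_a2, mul_a2, mul_a2]
      simp only [mul_a1, mul_a2, mul_a8, cmm, c1, c2, c3, d1, d2, d3, zero_mul, mul_zero, add_zero, zero_add, map_zero]
    · rw [mul_b2, mul_b2, mul_b2]
      simp only [mul_a1, mul_a2, mul_a8, cmm, c1, c2, c3, d1, d2, d3, zero_mul, mul_zero, add_zero, zero_add, map_zero]
      ring
    · rw [mul_a3, mul_a3, mul_a3]
      simp only [mul_a1, mul_a2, mul_a8, cmm, c1, c2, c3, d1, d2, d3, zero_mul, mul_zero, add_zero, zero_add, map_zero,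
        ne_eq, OfNat.ofNat_ne_zero, not_false_eq_true, zero_pow]
      ring
    · rw [mul_a4, mul_a4, mul_a4]
      simp only [mul_a1, mul_a2, mul_a8, cmm, c1, c2, c3, d1, d2, d3, zero_mul, mul_zero, add_zero, zero_add, map_zero]
      ring
    · rw [mul_b4, mul_b4, mul_b4]
      simp only [mul_a1, mul_a2, mul_a8, cmm, c1, c2, c3, d1, d2, d3, zero_mul, mul_zero, add_zero, zero_add, map_zero,
        ne_eq, OfNat.ofNat_ne_zero, not_false_eq_true, zero_pow]
      linear_combination (-(d.a4 * σ c.a4 + d.a6 * c.a3 + d.a7 * c.b2 + d.b8 * σ c.b2)) * h2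
    · rw [mul_a5, mul_a5, mul_a5]
      simp only [mul_a1, mul_a2, mul_a8, cmm, c1, c2, c3, d1, d2, d3, zero_mul, mul_zero, add_zero, zero_add, map_zero,
        ne_eq, OfNat.ofNat_ne_zero, not_false_eq_true, zero_pow]
      linear_combination (-(d.a6 * c.a4 + d.b8 * c.b2)) * h2
    · rw [mul_a6, mul_a6, mul_a6]
      simp only [mul_a1, mul_a2, mul_a8, cmm, c1, c2, c3, d1, d2, d3, zero_mul, mul_zero, add_zero, zero_add, map_zero]
      ring
    · rw [mul_b6, mul_b6, mul_b6]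
      simp only [mul_a1, mul_a2, mul_a8, cmm, c1, c2, c3, d1, d2, d3, zero_mul, mul_zero, add_zero, zero_add, map_zero,
        ne_eq, OfNat.ofNat_ne_zero, not_false_eq_true, zero_pow]
      linear_combination (-(d.a6 * σ c.a6 + d.a7 * c.a4 + σ d.b8 * c.b2 + d.b8 * c.a3)) * h2
    · rw [mul_a7, mul_a7, mul_a7]
      simp only [mul_a1, mul_a2, mul_a8, cmm, c1, c2, c3, d1, d2, d3, zero_mul, mul_zero, add_zero, zero_add, map_zero,
        ne_eq, OfNat.ofNat_ne_zero, not_false_eq_true, zero_pow]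
      ring
    · rw [mul_a8, mul_a8, mul_a8]
      simp only [cmm, c1, c2, c3, d1, d2, d3, zero_mul, mul_zero, add_zero, zero_add, map_zero]
    · rw [mul_b8, mul_b8, mul_b8]
      simp only [mul_a1, mul_a2, mul_a8, cmm, c1, c2, c3, d1, d2, d3, zero_mul, mul_zero, add_zero, zero_add, map_zero]
      ring
  rw [key, mul_assoc, mul_assoc]
  have : h * g * (g⁻¹ * h⁻¹) = 1 := by group
  rw [this, mul_one, co_el]

theorem comm_N3_Y {g h : U} (hg : g ∈ T.N3) (hh : h ∈ T.N3) : g * h * g⁻¹ * h⁻¹ ∈ T.Y := by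
  rw [mem_Y hK, comm_N3 hK T hg hh]
  exact ⟨rfl, rfl, rfl, rfl, rfl, rfl, rfl, rfl, rfl⟩

theorem comm_A37_V {g h : U} (hg : g ∈ T.A37) (hh : h ∈ T.N3) : g * h * g⁻¹ * h⁻¹ ∈ T.V := by
  rw [mem_V hK, comm_N3 hK T (A37_le_N3 hK T hg) hh]
  rw [mem_A37 hK] at hg
  obtain ⟨c1, c2, c3, c4, c5, c6, c7⟩ := hg
  refine ⟨rfl, rfl, rfl, rfl, rfl, ?_, rfl, rfl, rfl, rfl⟩
  simp only [cmm, c1, c2, c3, c4, c5, c6, c7, zero_mul, mul_zero, add_zero]

theorem comm_V_A37 {g h : U} (hg : g ∈ T.N3) (hh : h ∈ T.A37) : g * h * g⁻¹ * h⁻¹ ∈ T.V := by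
  rw [mem_V hK, comm_N3 hK T hg (A37_le_N3 hK T hh)]
  rw [mem_A37 hK] at hh
  obtain ⟨c1, c2, c3, c4, c5, c6, c7⟩ := hh
  refine ⟨rfl, rfl, rfl, rfl, rfl, ?_, rfl, rfl, rfl, rfl⟩
  simp only [cmm, c1, c2, c3, c4, c5, c6, c7, zero_mul, mul_zero, add_zero]

theorem Y_central {g h : U} (hg : g ∈ T.Y) (hh : h ∈ T.N3) : g * h = h * g := by
  have h1 : g * h * g⁻¹ * h⁻¹ = 1 := by
    refine co_injective T ?_
    rw [comm_N3 hK T (Y_le_N3 hK T hg) hh, co_one]
    rw [mem_Y hK] at hg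
    obtain ⟨c1, c2, c3, c4, c5, c6, c7, c8, c9⟩ := hg
    ext <;> simp only [cmm, c1, c2, c3, c4, c5, c6, c7, c8, c9, zero_mul, mul_zero, add_zero, map_zero]
  have h2 : g * h = g * h * g⁻¹ * h⁻¹ * (h * g) := by group
  rw [h2, h1, one_mul]

theorem A37_comm {g h : U} (hg : g ∈ T.A37) (hh : h ∈ T.A37) : g * h = h * g := by
  have h1 : g * h * g⁻¹ * h⁻¹ = 1 := by
    refine co_injective T ?_
    rw [comm_N3 hK T (A37_le_N3 hK T hg) (A37_le_N3 hK T hh), co_one]
    rw [mem_A37 hK] at hg hh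
    obtain ⟨c1, c2, c3, c4, c5, c6, c7⟩ := hg
    obtain ⟨d1, d2, d3, d4, d5, d6, d7⟩ := hh
    ext <;> simp only [cmm, c1, c2, c3, c4, c5, c6, c7, d1, d2, d3, d4, d5, d6, d7, zero_mul, mul_zero, add_zero, map_zero]
  have h2 : g * h = g * h * g⁻¹ * h⁻¹ * (h * g) := by group
  rw [h2, h1, one_mul]

theorem mul_N3 {g h : U} (hg : g ∈ T.N3) (hh : h ∈ T.N3) :
    (co T (g * h)).b2 = (co T g).b2 + (co T h).b2 ∧ (co T (g * h)).a3 = (co T g).a3 + (co T h).a3 ∧
    (co T (g * h)).a4 = (co T g).a4 + (co T h).a4 ∧ (co T (g * h)).a6 = (co T g).a6 + (co T h).a6 ∧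
    (co T (g * h)).a7 = (co T g).a7 + (co T h).a7 ∧ (co T (g * h)).b8 = (co T g).b8 + (co T h).b8 := by
  rw [mem_N3 hK] at hg hh
  rw [co_mul hK]
  generalize co T g = c at hg ⊢
  generalize co T h = d at hh ⊢
  obtain ⟨c1, c2, c3⟩ := hg
  obtain ⟨d1, d2, d3⟩ := hh
  refine ⟨?_, ?_, ?_, ?_, ?_, ?_⟩
  · rw [mul_b2]; simp only [c1, c2, c3, d1, d2, d3, zero_mul, mul_zero, add_zero, zero_add, map_zero]
  · rw [mul_a3]; simp only [c1, c2, c3, d1, d2, d3, zero_mul, mul_zero, add_zero, zero_add, map_zero, ne_eq, OfNat.ofNat_ne_zero, not_false_eq_true, zero_pow]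
  · rw [mul_a4]; simp only [c1, c2, c3, d1, d2, d3, zero_mul, mul_zero, add_zero, zero_add, map_zero]
  · rw [mul_a6]; simp only [c1, c2, c3, d1, d2, d3, zero_mul, mul_zero, add_zero, zero_add, map_zero]
  · rw [mul_a7]; simp only [c1, c2, c3, d1, d2, d3, zero_mul, mul_zero, add_zero, zero_add, map_zero, ne_eq, OfNat.ofNat_ne_zero, not_false_eq_true, zero_pow]
  · rw [mul_b8]; simp only [c1, c2, c3, d1, d2, d3, zero_mul, mul_zero, add_zero, zero_add, map_zero]

/-- `r ↦ (z2, x4, x6, z8)` on a subgroup of `N3` -/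
noncomputable def psi {R : Subgroup U} (hR : R ≤ T.N3) : R →* Multiplicative (K × K × K × K) where
  toFun r := Multiplicative.ofAdd ((co T (r : U)).b2, (co T (r : U)).a4, (co T (r : U)).a6, (co T (r : U)).b8)
  map_one' := by
    rw [Subgroup.coe_one, co_one]
    rfl
  map_mul' r s := by
    obtain ⟨h1, h2, h3, h4, h5, h6⟩ := mul_N3 hK T (hR r.2) (hR s.2)
    rw [Subgroup.coe_mul, h1, h3, h4, h6]
    rfl

theorem card_hom {A B : Type*} [Group A] [Group B] (f : A →* B) : Nat.card A = Nat.card f.range * Nat.card f.ker := by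
  rw [Subgroup.card_eq_card_quotient_mul_card_subgroup f.ker]
  rw [Nat.card_congr (QuotientGroup.quotientKerEquivRange f).toEquiv]

theorem mem_ker_psi {R : Subgroup U} (hR : R ≤ T.N3) {r : R} : r ∈ (psi hK T hR).ker ↔ (r : U) ∈ T.A37 := by
  have h0 := (mem_N3 hK T).1 (hR r.2)
  rw [MonoidHom.mem_ker, mem_A37 hK]
  constructor
  · intro h
    have h1 : ((co T (r : U)).b2, (co T (r : U)).a4, (co T (r : U)).a6, (co T (r : U)).b8) = (0 : K × K × K × K) := h
    simp only [Prod.mk_eq_zero] at h1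
    exact ⟨h0.1, h0.2.1, h1.1, h1.2.1, h1.2.2.1, h0.2.2, h1.2.2.2⟩
  · rintro ⟨c1, c2, c3, c4, c5, c6, c7⟩
    change Multiplicative.ofAdd ((co T (r : U)).b2, (co T (r : U)).a4, (co T (r : U)).a6, (co T (r : U)).b8) = 1
    rw [c3, c4, c5, c7]
    rfl


/-- elements of `R ∩ A37` commuting with an element outside `A37`: at most `q⁴` -/
theorem card_le_four {R : Subgroup U} (hR : R ≤ T.N3) {y : U} (hy : y ∈ T.N3) (hyA : y ∉ T.A37)
    (hc : ∀ r ∈ R, r ∈ T.A37 → r * y = y * r) : Nat.card (psi hK T hR).ker ≤ (Nat.card K) ^ 4 := by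
  haveI := hK.fin
  have hcm : ∀ r ∈ R, r ∈ T.A37 → (co T r).a3 * (co T y).a6 + (co T r).a7 * (co T y).b2 = 0 ∧
      (co T r).a7 * (co T y).a4 + (co T r).a3 * (co T y).b8 = 0 := by
    intro r hr hrA
    have h1 : r * y * r⁻¹ * y⁻¹ = 1 := by rw [hc r hr hrA]; group
    have h2 := comm_N3 hK T (hR hr) hy
    rw [h1, co_one] at h2
    rw [mem_A37 hK] at hrA
    obtain ⟨c1, c2, c3, c4, c5, c6, c7⟩ := hrA
    have h4 := congrArg Cd.b4 h2
    have h6 := congrArg Cd.b6 h2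
    simp only [cmm, c1, c2, c3, c4, c5, c6, c7, zero_mul, mul_zero, add_zero, zero_add, map_zero] at h4 h6
    constructor
    · linear_combination -h4
    · linear_combination -h6
  have hy0 := (mem_N3 hK T).1 hy
  have hyn : (co T y).b2 ≠ 0 ∨ (co T y).a4 ≠ 0 ∨ (co T y).a6 ≠ 0 ∨ (co T y).b8 ≠ 0 := by
    by_contra hcon
    push Not at hcon
    exact hyA ((mem_A37 hK T).2 ⟨hy0.1, hy0.2.1, hcon.1, hcon.2.1, hcon.2.2.1, hy0.2.2, hcon.2.2.2⟩)
  have hext : ∀ r s : R, (r : U) ∈ T.A37 → (s : U) ∈ T.A37 → (co T (r : U)).a3 = (co T (s : U)).a3 →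
      (co T (r : U)).a7 = (co T (s : U)).a7 → (co T (r : U)).b4 = (co T (s : U)).b4 →
      (co T (r : U)).a5 = (co T (s : U)).a5 → (co T (r : U)).b6 = (co T (s : U)).b6 → r = s := by
    intro r s hr hs e3 e7 e4 e5 e6
    rw [mem_A37 hK] at hr hs
    obtain ⟨c1, c2, c3, c4, c5, c6, c7⟩ := hr
    obtain ⟨d1, d2, d3, d4, d5, d6, d7⟩ := hs
    refine Subtype.ext (co_injective T ?_)
    ext
    · rw [c1, d1]
    · rw [c2, d2]
    · rw [c3, d3]
    · exact e3
    · rw [c4, d4]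
    · exact e4
    · exact e5
    · rw [c5, d5]
    · exact e6
    · exact e7
    · rw [c6, d6]
    · rw [c7, d7]
  have h4 : (Nat.card K) ^ 4 = Nat.card (K × K × K × K) := by
    rw [Nat.card_prod, Nat.card_prod, Nat.card_prod]; ring
  rw [h4]
  by_cases h3 : (co T y).a6 ≠ 0 ∨ (co T y).b8 ≠ 0
  · refine Nat.card_le_card_of_injective (fun r : (psi hK T hR).ker =>
      ((co T ((r : R) : U)).a7, (co T ((r : R) : U)).b4, (co T ((r : R) : U)).a5, (co T ((r : R) : U)).b6)) ?_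
    rintro ⟨r, hr⟩ ⟨s, hs⟩ h
    rw [mem_ker_psi] at hr hs
    simp only [Prod.mk.injEq] at h
    obtain ⟨e7, e4, e5, e6⟩ := h
    refine Subtype.ext (hext r s hr hs ?_ e7 e4 e5 e6)
    have h1 := hcm r r.2 hr
    have h2 := hcm s s.2 hs
    rw [e7] at h1
    rcases h3 with h3 | h3
    · refine mul_right_cancel₀ h3 ?_
      linear_combination h1.1 - h2.1
    · refine mul_right_cancel₀ h3 ?_
      linear_combination h1.2 - h2.2
  · push Not at h3
    have h3' : (co T y).b2 ≠ 0 ∨ (co T y).a4 ≠ 0 := by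
      rcases hyn with h | h | h | h
      · exact Or.inl h
      · exact Or.inr h
      · exact absurd h3.1 h
      · exact absurd h3.2 h
    refine Nat.card_le_card_of_injective (fun r : (psi hK T hR).ker =>
      ((co T ((r : R) : U)).a3, (co T ((r : R) : U)).b4, (co T ((r : R) : U)).a5, (co T ((r : R) : U)).b6)) ?_
    rintro ⟨r, hr⟩ ⟨s, hs⟩ h
    rw [mem_ker_psi] at hr hs
    simp only [Prod.mk.injEq] at h
    obtain ⟨e3, e4, e5, e6⟩ := h
    refine Subtype.ext (hext r s hr hs e3 ?_ e4 e5 e6)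
    have h1 := hcm r r.2 hr
    have h2 := hcm s s.2 hs
    rw [e3] at h1
    rcases h3' with h3 | h3
    · refine mul_right_cancel₀ h3 ?_
      linear_combination h1.1 - h2.1
    · refine mul_right_cancel₀ h3 ?_
      linear_combination h1.2 - h2.2

/-- `|R ∩ A37| ≤ q³` if `R ∩ A37 ≤ Y` -/
theorem card_le_three {R : Subgroup U} (hR : R ≤ T.N3) (hc : ∀ r ∈ R, r ∈ T.A37 → r ∈ T.Y) :
    Nat.card (psi hK T hR).ker ≤ (Nat.card K) ^ 3 := by
  haveI := finite_U hK T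
  have h1 : Nat.card T.Y = (Nat.card K) ^ 3 := by rw [card_Y hK, hK.card]
  rw [← h1]
  refine Nat.card_le_card_of_injective (fun r : (psi hK T hR).ker =>
    (⟨((r : R) : U), hc _ (r : R).2 ((mem_ker_psi hK T hR).1 r.2)⟩ : T.Y)) ?_
  intro r s h
  exact Subtype.ext (Subtype.ext (congrArg (fun z : T.Y => (z : U)) h))

/-- the image in `K⁴` of a group commuting with an element outside `A37` has order at most `q³` -/
theorem card_range_le {R : Subgroup U} (hR : R ≤ T.N3) {y : U} (hy : y ∈ T.N3) (hyA : y ∉ T.A37)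
    (hc : ∀ r ∈ R, r * y = y * r) : Nat.card (psi hK T hR).range ≤ (Nat.card K) ^ 3 := by
  haveI := hK.fin
  have hcm : ∀ r ∈ R, (co T r).a6 * (co T y).a4 + (co T y).a6 * (co T r).a4 + (co T r).b8 * (co T y).b2
      + (co T y).b8 * (co T r).b2 = 0 := by
    intro r hr
    have h1 : r * y * r⁻¹ * y⁻¹ = 1 := by rw [hc r hr]; group
    have h2 := comm_N3 hK T (hR hr) hy
    rw [h1, co_one] at h2
    exact (congrArg Cd.a5 h2).symm
  have hy0 := (mem_N3 hK T).1 hy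
  have hyn : (co T y).b2 ≠ 0 ∨ (co T y).a4 ≠ 0 ∨ (co T y).a6 ≠ 0 ∨ (co T y).b8 ≠ 0 := by
    by_contra hcon
    push Not at hcon
    exact hyA ((mem_A37 hK T).2 ⟨hy0.1, hy0.2.1, hcon.1, hcon.2.1, hcon.2.2.1, hy0.2.2, hcon.2.2.2⟩)
  have h4 : (Nat.card K) ^ 3 = Nat.card (K × K × K) := by
    rw [Nat.card_prod, Nat.card_prod]; ring
  have hmem : ∀ x : Multiplicative (K × K × K × K), x ∈ (psi hK T hR).range →
      x.toAdd.2.2.1 * (co T y).a4 + (co T y).a6 * x.toAdd.2.1 + x.toAdd.2.2.2 * (co T y).b2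
        + (co T y).b8 * x.toAdd.1 = 0 := by
    rintro _ ⟨r, rfl⟩
    exact hcm r r.2
  have hex : ∀ x z : (psi hK T hR).range, x.1.toAdd.1 = z.1.toAdd.1 → x.1.toAdd.2.1 = z.1.toAdd.2.1 →
      x.1.toAdd.2.2.1 = z.1.toAdd.2.2.1 → x.1.toAdd.2.2.2 = z.1.toAdd.2.2.2 → x = z := by
    intro x z e1 e2 e3 e4
    refine Subtype.ext (Multiplicative.toAdd.injective ?_)
    exact Prod.ext e1 (Prod.ext e2 (Prod.ext e3 e4))
  rw [h4]
  rcases hyn with h | h | h | h
  · refine Nat.card_le_card_of_injective (fun x : (psi hK T hR).range =>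
      (x.1.toAdd.1, x.1.toAdd.2.1, x.1.toAdd.2.2.1)) ?_
    intro x z e
    simp only [Prod.mk.injEq] at e
    obtain ⟨e1, e2, e3⟩ := e
    refine hex x z e1 e2 e3 (mul_right_cancel₀ h ?_)
    have h1 := hmem x.1 x.2
    have h2 := hmem z.1 z.2
    rw [e1, e2, e3] at h1
    linear_combination h1 - h2
  · refine Nat.card_le_card_of_injective (fun x : (psi hK T hR).range =>
      (x.1.toAdd.1, x.1.toAdd.2.1, x.1.toAdd.2.2.2)) ?_
    intro x z e
    simp only [Prod.mk.injEq] at e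
    obtain ⟨e1, e2, e3⟩ := e
    refine hex x z e1 e2 (mul_right_cancel₀ h ?_) e3
    have h1 := hmem x.1 x.2
    have h2 := hmem z.1 z.2
    rw [e1, e2, e3] at h1
    linear_combination h1 - h2
  · refine Nat.card_le_card_of_injective (fun x : (psi hK T hR).range =>
      (x.1.toAdd.1, x.1.toAdd.2.2.1, x.1.toAdd.2.2.2)) ?_
    intro x z e
    simp only [Prod.mk.injEq] at e
    obtain ⟨e1, e2, e3⟩ := e
    refine hex x z e1 (mul_left_cancel₀ h ?_) e2 e3
    have h1 := hmem x.1 x.2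
    have h2 := hmem z.1 z.2
    rw [e1, e2, e3] at h1
    linear_combination h1 - h2
  · refine Nat.card_le_card_of_injective (fun x : (psi hK T hR).range =>
      (x.1.toAdd.2.1, x.1.toAdd.2.2.1, x.1.toAdd.2.2.2)) ?_
    intro x z e
    simp only [Prod.mk.injEq] at e
    obtain ⟨e1, e2, e3⟩ := e
    refine hex x z (mul_left_cancel₀ h ?_) e1 e2 e3
    have h1 := hmem x.1 x.2
    have h2 := hmem z.1 z.2
    rw [e1, e2, e3] at h1
    linear_combination h1 - h2

/-- the commutators with an element of `A37 ∖ Y`: `|R̄| ≤ |V ∩ Φ| q²` -/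
theorem card_range_le_mul {R P : Subgroup U} (hR : R ≤ T.N3) {a : U} (ha : a ∈ T.A37) (haY : a ∉ T.Y)
    (hP : ∀ r ∈ R, r * a * r⁻¹ * a⁻¹ ∈ P) :
    Nat.card (psi hK T hR).range ≤ Nat.card (P ⊓ T.V : Subgroup U) * (Nat.card K) ^ 2 := by
  haveI := hK.fin
  haveI := finite_U hK T
  have ha0 := (mem_A37 hK T).1 ha
  have han : (co T a).a3 ≠ 0 ∨ (co T a).a7 ≠ 0 := by
    by_contra hcon
    push Not at hcon
    obtain ⟨c1, c2, c3, c4, c5, c6, c7⟩ := ha0
    exact haY ((mem_Y hK T).2 ⟨c1, c2, c3, hcon.1, c4, c5, hcon.2, c6, c7⟩)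
  -- a section of `psi`
  choose f hf using fun x : (psi hK T hR).range => x.2
  have hfm : ∀ x, (f x : U) * a * (f x : U)⁻¹ * a⁻¹ ∈ P ⊓ T.V := fun x =>
    ⟨hP _ (f x).2, comm_V_A37 hK T (hR (f x).2) ha⟩
  have hf1 : ∀ x, (co T (f x : U)).b2 = x.1.toAdd.1 := fun x => congrArg (fun z => z.toAdd.1) (hf x)
  have hf2 : ∀ x, (co T (f x : U)).a4 = x.1.toAdd.2.1 := fun x => congrArg (fun z => z.toAdd.2.1) (hf x)
  have hf3 : ∀ x, (co T (f x : U)).a6 = x.1.toAdd.2.2.1 := fun x => congrArg (fun z => z.toAdd.2.2.1) (hf x)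
  have hf4 : ∀ x, (co T (f x : U)).b8 = x.1.toAdd.2.2.2 := fun x => congrArg (fun z => z.toAdd.2.2.2) (hf x)
  have hkey : ∀ x z, (f x : U) * a * (f x : U)⁻¹ * a⁻¹ = (f z : U) * a * (f z : U)⁻¹ * a⁻¹ →
      x.1.toAdd.2.2.1 * (co T a).a3 + x.1.toAdd.1 * (co T a).a7 = z.1.toAdd.2.2.1 * (co T a).a3 + z.1.toAdd.1 * (co T a).a7 ∧
      x.1.toAdd.2.2.2 * (co T a).a3 + x.1.toAdd.2.1 * (co T a).a7 = z.1.toAdd.2.2.2 * (co T a).a3 + z.1.toAdd.2.1 * (co T a).a7 := by
    intro x z h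
    have h1 := congrArg (co T) h
    rw [comm_N3 hK T (hR (f x).2) (A37_le_N3 hK T ha), comm_N3 hK T (hR (f z).2) (A37_le_N3 hK T ha)] at h1
    obtain ⟨c1, c2, c3, c4, c5, c6, c7⟩ := ha0
    have h4 := congrArg Cd.b4 h1
    have h6 := congrArg Cd.b6 h1
    simp only [cmm, c1, c2, c3, c4, c5, c6, c7, zero_mul, mul_zero, add_zero, zero_add, map_zero, hf1, hf2, hf3, hf4] at h4 h6
    constructor
    · linear_combination h4
    · linear_combination h6
  have hex : ∀ x z : (psi hK T hR).range, x.1.toAdd.1 = z.1.toAdd.1 → x.1.toAdd.2.1 = z.1.toAdd.2.1 →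
      x.1.toAdd.2.2.1 = z.1.toAdd.2.2.1 → x.1.toAdd.2.2.2 = z.1.toAdd.2.2.2 → x = z := by
    intro x z e1 e2 e3 e4
    refine Subtype.ext (Multiplicative.toAdd.injective ?_)
    exact Prod.ext e1 (Prod.ext e2 (Prod.ext e3 e4))
  have h4 : Nat.card (P ⊓ T.V : Subgroup U) * (Nat.card K) ^ 2 = Nat.card ((P ⊓ T.V : Subgroup U) × (K × K)) := by
    rw [Nat.card_prod, Nat.card_prod]; ring
  rw [h4]
  rcases han with h | h
  · refine Nat.card_le_card_of_injective (fun x : (psi hK T hR).range =>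
      ((⟨_, hfm x⟩ : (P ⊓ T.V : Subgroup U)), (x.1.toAdd.1, x.1.toAdd.2.1))) ?_
    intro x z e
    simp only [Prod.mk.injEq, Subtype.mk.injEq] at e
    obtain ⟨e0, e1, e2⟩ := e
    obtain ⟨k1, k2⟩ := hkey x z e0
    rw [e1] at k1
    rw [e2] at k2
    exact hex x z e1 e2 (mul_right_cancel₀ h (add_right_cancel k1)) (mul_right_cancel₀ h (add_right_cancel k2))
  · refine Nat.card_le_card_of_injective (fun x : (psi hK T hR).range =>
      ((⟨_, hfm x⟩ : (P ⊓ T.V : Subgroup U)), (x.1.toAdd.2.2.1, x.1.toAdd.2.2.2))) ?_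
    intro x z e
    simp only [Prod.mk.injEq, Subtype.mk.injEq] at e
    obtain ⟨e0, e1, e2⟩ := e
    obtain ⟨k1, k2⟩ := hkey x z e0
    rw [e1] at k1
    rw [e2] at k2
    exact hex x z (mul_right_cancel₀ h (add_left_cancel k1)) (mul_right_cancel₀ h (add_left_cancel k2)) e1 e2

/-- `N3` normalizes every `R` with `Y ≤ R ≤ N3` -/
theorem N3_le_norm {R : Subgroup U} (hYR : T.Y ≤ R) (hR : R ≤ T.N3) : T.N3 ≤ normalizerIn ⊤ R := by
  have key : ∀ r ∈ T.N3, ∀ x ∈ R, r * x * r⁻¹ ∈ R := by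
    intro r hr x hx
    have h1 := R.mul_mem (hYR (comm_N3_Y hK T hr (hR hx))) hx
    rwa [inv_mul_cancel_right] at h1
  intro r hr
  refine ⟨trivial, ?_⟩
  show r ∈ Subgroup.normalizer (R : Set U)
  rw [Subgroup.mem_normalizer_iff]
  intro x
  refine ⟨key r hr x, fun hx => ?_⟩
  have h1 := key r⁻¹ (T.N3.inv_mem hr) _ hx
  have h2 : r⁻¹ * (r * x * r⁻¹) * r⁻¹⁻¹ = x := by group
  rwa [h2] at h1

theorem card_mul_relIndex {A B : Subgroup U} (h : A ≤ B) : Nat.card A * A.relIndex B = Nat.card B := by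
  have h1 := Subgroup.card_mul_index (A.subgroupOf B)
  rwa [Nat.card_congr (Subgroup.subgroupOfEquivOfLe h).toEquiv] at h1

/-- (ESS3), part (B) -/
theorem essB (hphi : StPhi.{v}) (hp2 : StP2.{v}) (hhull : StHull.{v})
    {R : Subgroup U} {Γ : Subgroup (MulAut R)} (hE : Ess (⊤ : Subgroup U) R 2 Γ) (hYR : T.Y ≤ R) (hR : R ≤ T.N3) :
    T.A37 ≤ R := by
  by_contra hA
  haveI := hK.fin
  haveI := finite_U hK T
  have hRp : IsPGroup 2 R := by
    have h1 : IsPGroup 2 (⊤ : Subgroup U) := hE.pgr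
    exact h1.to_le le_top
  obtain ⟨hPE, hcomE, -, -, -, -⟩ := hphi R 2 hE.pp inferInstance hRp
  have hVR : T.V ≤ R := (V_le_Y hK T).trans hYR
  have hNn := N3_le_norm hK T hYR hR
  have hcomN : Com T.N3 R T.Y := fun a ha r hr => comm_N3_Y hK T ha (hR hr)
  have hcomA : Com T.A37 R T.V := fun a ha r hr => comm_A37_V hK T ha (hR hr)
  -- the element `y`
  obtain ⟨γ, hγ, y0, hy0, a, ha, hay⟩ := hhull hE T.A37 T.V le_top hVR hcomA hA
  set y : U := ((γ y0 : R) : U) with hy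
  have hyR : y ∈ R := (γ y0).2
  have hyc : ∀ r ∈ R, r * y = y * r := by
    intro r hr
    have h1 : γ.symm ⟨r, hr⟩ * y0 = y0 * γ.symm ⟨r, hr⟩ :=
      Subtype.ext (Y_central hK T (V_le_Y hK T hy0) (hR (γ.symm ⟨r, hr⟩).2)).symm
    have h2 := congrArg (fun z => ((γ z : R) : U)) h1
    simp only [map_mul, MulEquiv.apply_symm_apply, Subgroup.coe_mul] at h2
    exact h2
  have hyA : y ∉ T.A37 := by
    intro h
    apply hay
    have h1 := A37_comm hK T ha h
    have h2 : a * y * a⁻¹ * y⁻¹ = 1 := by rw [h1]; group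
    rw [h2]
    exact one_mem _
  have hyN := hR hyR
  -- the inequality
  have hin := hp2 hE T.N3 T.A37 T.Y T.V (Phi R ⊓ T.Y) (Phi R ⊓ T.V) hNn ((A37_le_N3 hK T).trans hNn) hA hYR hVR hcomN
    hcomA inf_le_left inf_le_left
  have hq : 2 ≤ Nat.card K := by
    rw [hK.card, pow_succ]
    have : 0 < 2 ^ (2 * m) := by positivity
    omega
  have c1 : Nat.card R * R.relIndex T.N3 = (Nat.card K) ^ 9 := by
    rw [card_mul_relIndex hK hR, card_N3 hK, hK.card]
  have c2 : Nat.card (Phi R ⊓ T.Y : Subgroup U) * (Phi R ⊓ T.Y).relIndex T.Y = (Nat.card K) ^ 3 := by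
    rw [card_mul_relIndex hK inf_le_right, card_Y hK, hK.card]
  have c3 : Nat.card (Phi R ⊓ T.V : Subgroup U) * (Phi R ⊓ T.V).relIndex T.V = (Nat.card K) ^ 2 := by
    rw [card_mul_relIndex hK inf_le_right, card_V hK, hK.card]
  have c4 : Nat.card (Phi R ⊓ T.V : Subgroup U) ≤ Nat.card (Phi R ⊓ T.Y : Subgroup U) :=
    Subgroup.card_le_of_le (inf_le_inf_left _ (V_le_Y hK T))
  have c5 := card_hom hK (psi hK T hR)
  have c0 : 0 < Nat.card (Phi R ⊓ T.V : Subgroup U) := Nat.card_pos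
  have c6 : Nat.card R ≤ Nat.card (Phi R ⊓ T.V : Subgroup U) * (Nat.card K) ^ 6 := by
    rw [c5]
    by_cases hex : ∃ a ∈ R, a ∈ T.A37 ∧ a ∉ T.Y
    · obtain ⟨b, hb, hbA, hbY⟩ := hex
      have e1 := card_le_four hK T hR hyN hyA (fun r hr _ => hyc r hr)
      have e2 := card_range_le_mul hK T (P := Phi R) hR hbA hbY (fun r hr => hcomE r hr b hb)
      calc _ ≤ (Nat.card (Phi R ⊓ T.V : Subgroup U) * (Nat.card K) ^ 2) * (Nat.card K) ^ 4 := Nat.mul_le_mul e2 e1
        _ = _ := by ring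
    · push Not at hex
      have e1 := card_le_three hK T hR hex
      have e2 := card_range_le hK T hR hyN hyA hyc
      calc _ ≤ (Nat.card K) ^ 3 * (Nat.card K) ^ 3 := Nat.mul_le_mul e2 e1
        _ = 1 * (Nat.card K) ^ 6 := by ring
        _ ≤ _ := Nat.mul_le_mul_right _ c0
  generalize Nat.card K = q at *
  generalize (Phi R ⊓ T.V).relIndex T.V = k at *
  generalize (Phi R ⊓ T.Y).relIndex T.Y = j at *
  generalize R.relIndex T.N3 = i at *
  generalize Nat.card (Phi R ⊓ T.V : Subgroup U) = f at *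
  generalize Nat.card (Phi R ⊓ T.Y : Subgroup U) = g at *
  generalize Nat.card R = r at *
  have h1 : q ^ 18 * f ^ 2 ≤ q ^ 17 * f ^ 2 :=
    calc q ^ 18 * f ^ 2 = (q ^ 9) ^ 2 * (f * f) := by ring
      _ ≤ (q ^ 9) ^ 2 * (g * f) := Nat.mul_le_mul_left _ (Nat.mul_le_mul_right _ c4)
      _ = (r * i) ^ 2 * (g * f) := by rw [c1]
      _ = i ^ 2 * (r ^ 2 * (g * f)) := by ring
      _ ≤ (j * k) * (r ^ 2 * (g * f)) := Nat.mul_le_mul_right _ hin
      _ = (g * j) * (f * k) * r ^ 2 := by ring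
      _ = q ^ 3 * q ^ 2 * r ^ 2 := by rw [c2, c3]
      _ ≤ q ^ 3 * q ^ 2 * (f * q ^ 6) ^ 2 := Nat.mul_le_mul_left _ (Nat.pow_le_pow_left c6 2)
      _ = q ^ 17 * f ^ 2 := by ring
  have h2 : q ^ 18 ≤ q ^ 17 := le_of_mul_le_mul_right h1 (by positivity)
  have h3 : q ^ 17 < q ^ 18 := Nat.pow_lt_pow_right (by omega) (by norm_num)
  omega

end

end Cfsg.Agent.H587.TF

private theorem dce_f0dfa4eea2e4 : _root_.True := by
  try have : _root_.True := by simp only [_root_.Cfsg.Agent.H587.TF.cmm.eq_1]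
  exact _root_.True.intro
end
end
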